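import Cfsg.Agent.Lib.SuzukiGroup.Tori
import Cfsg.Agent.Lib.NumberTheory.Zsigmondy
import Mathlib.NumberTheory.Padics.PadicVal.Basic
import Mathlib.NumberTheory.Multiplicity
import Mathlib.NumberTheory.LegendreSymbol.Basic

/-!
Arithmetic of the orders of the elements of a Suzuki group and of its square.
-/

set_option autoImplicit false
set_option linter.style.haveILetI false

namespace CfsgLib.SzSquare

open CfsgLib.SuzukiGroup

/-- The numbers whose divisors are the element orders of the Suzuki group. -/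
def cls (m : ℕ) : Fin 4 → ℕ := ![4, 2 ^ (2 * m + 1) - 1, toA m, toB m]

@[simp] theorem cls_zero (m : ℕ) : cls m 0 = 4 := rfl
@[simp] theorem cls_one (m : ℕ) : cls m 1 = 2 ^ (2 * m + 1) - 1 := rfl
@[simp] theorem cls_two (m : ℕ) : cls m 2 = toA m := rfl
@[simp] theorem cls_three (m : ℕ) : cls m 3 = toB m := rfl

theorem four_pow_eq (n : ℕ) : (2 ^ n) ^ 2 = 4 ^ n := by
  rw [← pow_mul, mul_comm, pow_mul]; norm_num

theorem cls_mul (m : ℕ) : cls m 2 * cls m 3 = 4 ^ (2 * m + 1) + 1 := by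
  rw [cls_two, cls_three, toA_mul_toB, four_pow_eq]

/-- All odd classes divide `2 ^ (4 n) - 1`. -/
theorem cls_prod_dvd (m : ℕ) :
    cls m 1 * (cls m 2 * cls m 3) ∣ 2 ^ (4 * (2 * m + 1)) - 1 := by
  rw [cls_mul, cls_one]
  have e : (2 : ℕ) ^ (4 * (2 * m + 1)) = (4 ^ (2 * m + 1)) ^ 2 := by
    rw [← pow_mul, show (4 : ℕ) = 2 ^ 2 by norm_num, ← pow_mul]; congr 1; ring
  have e2 : (4 : ℕ) ^ (2 * m + 1) = (2 ^ (2 * m + 1)) ^ 2 := (four_pow_eq _).symm
  rw [e, e2]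
  generalize 2 ^ (2 * m + 1) = q
  rcases Nat.eq_zero_or_pos q with rfl | hq
  · simp
  refine ⟨q + 1, ?_⟩
  obtain ⟨a, rfl⟩ : ∃ a, q = a + 1 := ⟨q - 1, by omega⟩
  rw [Nat.add_sub_cancel]
  refine Nat.sub_eq_of_eq_add ?_
  ring

theorem odd_cls {m : ℕ} {i : Fin 4} (hi : i ≠ 0) : Odd (cls m i) := by
  fin_cases i
  · exact absurd rfl hi
  · exact Nat.Even.sub_odd Nat.one_le_two_pow (Nat.even_pow.2 ⟨even_two, by omega⟩) odd_one
  · exact Nat.coprime_two_right.1 (coprime_q_sq ⟨toB m, (toA_mul_toB m).symm⟩)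
  · exact Nat.coprime_two_right.1 (coprime_q_sq ⟨toA m, (toA_mul_toB m).symm.trans (Nat.mul_comm _ _)⟩)

theorem one_lt_cls {m : ℕ} (hm : 1 ≤ m) (i : Fin 4) : 1 < cls m i := by
  fin_cases i
  · simp
  · have h : 2 ^ 2 ≤ 2 ^ (2 * m + 1) := Nat.pow_le_pow_right two_pos (by omega)
    simp only [cls, Fin.mk_one, Matrix.cons_val_one, Matrix.cons_val_zero]; omega
  · exact one_lt_toA m
  · exact one_lt_toB m hm

theorem coprime_cls (m : ℕ) {i j : Fin 4} (h : i ≠ j) : (cls m i).Coprime (cls m j) := by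
  have h4 : ∀ k : Fin 4, k ≠ 0 → Nat.Coprime 4 (cls m k) := fun k hk => by
    rw [show (4 : ℕ) = 2 ^ 2 by norm_num]
    exact (Nat.coprime_two_left.2 (odd_cls hk)).pow_left 2
  have hD : Nat.Coprime (cls m 1) (cls m 2 * cls m 3) := by
    rw [cls_mul, cls_one, ← four_pow_eq]
    refine Nat.coprime_of_dvd fun p hp h1 h2 => ?_
    have hodd := odd_cls (m := m) (i := 1) (by decide)
    generalize hq : 2 ^ (2 * m + 1) = q at *
    rw [cls_one, hq] at hodd
    obtain ⟨a, rfl⟩ : ∃ a, q = a + 1 := ⟨q - 1, by have := Nat.two_pow_pos (2 * m + 1); omega⟩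
    rw [Nat.add_sub_cancel] at h1 hodd
    rw [show (a + 1) ^ 2 + 1 = a * (a + 2) + 2 by ring] at h2
    have := (Nat.prime_dvd_prime_iff_eq hp Nat.prime_two).1
      ((Nat.dvd_add_right (h1.trans (dvd_mul_right a (a + 2)))).1 h2)
    subst this
    exact Nat.not_even_iff_odd.2 hodd (even_iff_two_dvd.2 h1)
  have h23 : Nat.Coprime (cls m 2) (cls m 3) := toA_coprime_toB m
  have h12 := hD.coprime_dvd_right (dvd_mul_right (cls m 2) (cls m 3))
  have h13 := hD.coprime_dvd_right (dvd_mul_left (cls m 3) (cls m 2))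
  rcases eq_or_ne i 0 with rfl | hi
  · exact h4 j h.symm
  rcases eq_or_ne j 0 with rfl | hj
  · exact (h4 i hi).symm
  fin_cases i <;> fin_cases j <;> first
    | exact absurd rfl hi | exact absurd rfl hj | exact absurd rfl h
    | exact h12 | exact h13 | exact h23 | exact h12.symm | exact h13.symm | exact h23.symm

theorem cls_unique {m p : ℕ} (hp : p.Prime) {i j : Fin 4} (hi : p ∣ cls m i) (hj : p ∣ cls m j) :
    i = j := by
  by_contra h
  exact hp.ne_one (Nat.eq_one_of_dvd_coprimes (coprime_cls m h) hi hj)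

theorem eq_zero_of_two_dvd {m : ℕ} {i : Fin 4} (hi : 2 ∣ cls m i) : i = 0 :=
  cls_unique Nat.prime_two hi (by norm_num)

theorem not_three_dvd (m : ℕ) (i : Fin 4) : ¬ 3 ∣ cls m i := by
  have h : ∀ n : ℕ, (2 : ℕ) ^ (2 * n + 1) % 3 = 2 := fun n => by
    rw [pow_succ, pow_mul, Nat.mul_mod, Nat.pow_mod]; norm_num
  have hq : ¬ 3 ∣ cls m 2 * cls m 3 := by
    rw [cls_mul, Nat.dvd_iff_mod_eq_zero, Nat.add_mod, Nat.pow_mod]; norm_num
  fin_cases i
  · show ¬ 3 ∣ 4; norm_num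
  · show ¬ 3 ∣ 2 ^ (2 * m + 1) - 1
    have := h m; have := Nat.two_pow_pos (2 * m); omega
  · exact fun h3 => hq (dvd_mul_of_dvd_left h3 _)
  · exact fun h3 => hq (dvd_mul_of_dvd_right h3 _)

theorem five_cls (m : ℕ) : ∃ i : Fin 4, (i = 2 ∨ i = 3) ∧ 5 ∣ cls m i := by
  have h : 5 ∣ cls m 2 * cls m 3 := by
    rw [cls_mul, Nat.dvd_iff_mod_eq_zero, pow_succ, pow_mul, Nat.add_mod, Nat.mul_mod, Nat.pow_mod]
    norm_num
  rcases (Nat.prime_five).dvd_mul.1 h with h | h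
  exacts [⟨2, Or.inl rfl, h⟩, ⟨3, Or.inr rfl, h⟩]

/-- The divisors of the field degree are recognised by the split tori. -/
theorem dvd_of_sub_one_dvd {m k : ℕ}
    (h : 2 ^ (2 * k + 1) - 1 ∣ 2 ^ (4 * (2 * m + 1)) - 1) : 2 * k + 1 ∣ 2 * m + 1 := by
  have h1 : 2 ^ ((2 * k + 1).gcd (4 * (2 * m + 1))) - 1 = 2 ^ (2 * k + 1) - 1 := by
    rw [← Nat.pow_sub_one_gcd_pow_sub_one]; exact Nat.gcd_eq_left h
  have h2 : (2 * k + 1).gcd (4 * (2 * m + 1)) = 2 * k + 1 := by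
    refine Nat.pow_right_injective le_rfl ?_
    have := Nat.two_pow_pos ((2 * k + 1).gcd (4 * (2 * m + 1)))
    have := Nat.two_pow_pos (2 * k + 1)
    show 2 ^ _ = 2 ^ _
    omega
  refine Nat.Coprime.dvd_of_dvd_mul_left ?_ (Nat.gcd_eq_left_iff_dvd.1 h2)
  rw [show (4 : ℕ) = 2 ^ 2 by norm_num]
  exact (Nat.coprime_two_right.2 ⟨k, rfl⟩).pow_right 2

theorem five_dvd_szOrder (k : ℕ) :
    5 ∣ (2 ^ (2 * k + 1)) ^ 2 * (2 ^ (2 * k + 1) - 1) * ((2 ^ (2 * k + 1)) ^ 2 + 1) := by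
  refine dvd_mul_of_dvd_right ?_ _
  rw [four_pow_eq, Nat.dvd_iff_mod_eq_zero, pow_succ, pow_mul, Nat.add_mod, Nat.mul_mod, Nat.pow_mod]
  norm_num

theorem dvd_szOrder {k p : ℕ} (hp : p.Prime) (hp2 : p ≠ 2)
    (h : p ∣ (2 ^ (2 * k + 1)) ^ 2 * (2 ^ (2 * k + 1) - 1) * ((2 ^ (2 * k + 1)) ^ 2 + 1)) :
    p ∣ 2 ^ (4 * (2 * k + 1)) - 1 := by
  refine dvd_trans ?_ (cls_prod_dvd k)
  rw [cls_mul, cls_one, ← four_pow_eq]
  rcases hp.dvd_mul.1 h with h | h
  · rcases hp.dvd_mul.1 h with h | h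
    · exact absurd ((Nat.prime_dvd_prime_iff_eq hp Nat.prime_two).1
        (hp.dvd_of_dvd_pow (hp.dvd_of_dvd_pow h))) hp2
    · exact dvd_mul_of_dvd_left h _
  · exact dvd_mul_of_dvd_right h _

/-- A prime of the split torus determining the degree. -/
theorem exists_ppd_one {m : ℕ} (hm : 1 ≤ m) : ∃ p : ℕ, p.Prime ∧ p ∣ cls m 1 ∧ ¬ p ∣ 2 * (2 * m + 1) ∧
    ∀ k : ℕ, p ∣ 2 ^ (4 * (2 * k + 1)) - 1 → 2 * m + 1 ∣ 2 * k + 1 := by
  obtain ⟨p, hp⟩ := NumberTheory.exists_isPPD_of_two_lt (a := 2) (n := 2 * m + 1) one_lt_two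
    (by omega) (by omega)
  have hlt := hp.lt (by norm_num) (by omega)
  refine ⟨p, hp.prime, hp.2.1, fun h => ?_, fun k hk => ?_⟩
  · rcases hp.prime.dvd_mul.1 h with h | h <;> have := Nat.le_of_dvd (by omega) h <;> omega
  · have h := (hp.dvd_pow_sub_one_iff (by norm_num) (by omega) _).1 hk
    refine Nat.Coprime.dvd_of_dvd_mul_left ?_ h
    rw [show (4 : ℕ) = 2 ^ 2 by norm_num]
    exact (Nat.coprime_two_right.2 ⟨m, rfl⟩).pow_right 2

/-- A prime of the other tori determining the degree. -/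
theorem exists_ppd_four {m : ℕ} (hm : 1 ≤ m) : ∃ p : ℕ, p.Prime ∧ (p ∣ cls m 2 ∨ p ∣ cls m 3) ∧
    ¬ p ∣ 2 * (2 * m + 1) ∧ ∀ k : ℕ, p ∣ 2 ^ (4 * (2 * k + 1)) - 1 → 2 * m + 1 ∣ 2 * k + 1 := by
  obtain ⟨p, hp⟩ := NumberTheory.exists_isPPD_of_two_lt (a := 2) (n := 4 * (2 * m + 1)) one_lt_two
    (by omega) (by omega)
  have hlt := hp.lt (by norm_num) (by omega)
  refine ⟨p, hp.prime, ?_, fun h => ?_, fun k hk => ?_⟩
  · refine hp.prime.dvd_mul.1 ?_
    rw [cls_mul]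
    have h1 : p ∣ (4 ^ (2 * m + 1) - 1) * (4 ^ (2 * m + 1) + 1) := by
      rw [mul_comm, ← Nat.sq_sub_sq, one_pow, show (4 : ℕ) = 2 ^ 2 by norm_num, ← pow_mul, ← pow_mul]
      convert hp.2.1 using 3
      ring
    refine (hp.prime.dvd_mul.1 h1).resolve_left fun h2 => ?_
    rw [show (4 : ℕ) = 2 ^ 2 by norm_num, ← pow_mul,
      hp.dvd_pow_sub_one_iff (by norm_num) (by omega)] at h2
    have := Nat.le_of_dvd (by omega) h2
    omega
  · rcases hp.prime.dvd_mul.1 h with h | h <;> have := Nat.le_of_dvd (by omega) h <;> omega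
  · have h := (hp.dvd_pow_sub_one_iff (by norm_num) (by omega) _).1 hk
    exact (Nat.mul_dvd_mul_iff_left (by norm_num : 0 < 4)).1 h

theorem sum_half_le (s : Finset ℕ) (h3 : ∀ c ∈ s, 3 ≤ c) :
    ∑ c ∈ s, (c + 1) / 2 ≤ (∏ c ∈ s, c + 1) / 2 ∧ (s.Nonempty → 3 ≤ ∏ c ∈ s, c) := by
  induction s using Finset.induction_on with
  | empty => simp
  | @insert a t hat ih =>
    obtain ⟨h1, h2⟩ := ih fun c hc => h3 c (Finset.mem_insert_of_mem hc)
    have ha := h3 a (Finset.mem_insert_self a t)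
    rw [Finset.sum_insert hat, Finset.prod_insert hat]
    rcases t.eq_empty_or_nonempty with rfl | hne
    · simp [ha]
    · have hP := h2 hne
      have hmul : a + (∏ c ∈ t, c) + 2 ≤ a * ∏ c ∈ t, c + 1 := by
        nlinarith [Nat.mul_le_mul (show 3 - 1 ≤ a - 1 by omega) (show 3 - 1 ≤ (∏ c ∈ t, c) - 1 by omega)]
      exact ⟨by omega, fun _ => le_trans ha (Nat.le_mul_of_pos_right a (by omega))⟩

/-- The part at `c` of a divisor of `4 ^ n + 1` is small. -/
theorem ordProj_le {n N c : ℕ} (hn : Odd n) (hN : N ∣ 4 ^ n + 1) (hc : c.Prime) (hcN : c ∣ N) :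
    c ^ N.factorization c ≤ 2 ^ ((c + 1) / 2) * c ^ n.factorization c := by
  haveI := Fact.mk hc
  have hc' : c ∣ 4 ^ n + 1 := hcN.trans hN
  have hc2 : c ≠ 2 := by
    rintro rfl
    exact Nat.not_even_iff_odd.2 ((Nat.even_pow.2 ⟨⟨2, rfl⟩, hn.pos.ne'⟩).add_one) (even_iff_two_dvd.2 hc')
  have hodd : Odd c := hc.odd_of_ne_two hc2
  have hneg : ((4 : ZMod c)) ^ n = -1 := by
    refine eq_neg_of_add_eq_zero_left ?_
    have := (ZMod.natCast_eq_zero_iff (4 ^ n + 1) c).2 hc'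
    push_cast at this; exact this
  have h4 : ¬ c ∣ 4 := fun h => hc2 ((Nat.prime_dvd_prime_iff_eq hc Nat.prime_two).1
    (hc.dvd_of_dvd_pow (show c ∣ 2 ^ 2 from h)))
  have h40 : (4 : ZMod c) ≠ 0 := fun h => h4 ((ZMod.natCast_eq_zero_iff 4 c).1 (by exact_mod_cast h))
  have hmod : c % 4 = 1 := by
    have : IsSquare (-1 : ZMod c) := hneg ▸ ⟨(2 : ZMod c) ^ n, by rw [← mul_pow]; norm_num⟩
    rw [ZMod.exists_sq_eq_neg_one_iff] at this
    rcases hodd with ⟨k, rfl⟩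
    omega
  set d := n.gcd ((c - 1) / 2) with hd
  have hdn : d ∣ n := Nat.gcd_dvd_left _ _
  have hdodd : Odd d := hn.of_dvd_nat hdn
  have hdle : 4 * d ≤ c - 1 := by
    have h1 : d ∣ (c - 1) / 4 := by
      refine Nat.Coprime.dvd_of_dvd_mul_left (k := d) (m := 2) (Nat.coprime_two_right.2 hdodd) ?_
      rw [show 2 * ((c - 1) / 4) = (c - 1) / 2 by omega]
      exact Nat.gcd_dvd_right _ _
    have := Nat.le_of_dvd (by have := hc.two_le; omega) h1
    omega
  obtain ⟨j, hj⟩ := hdn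
  have hjodd : Odd j := hn.of_dvd_nat ⟨d, by rw [hj, mul_comm]⟩
  have hdvd : c ∣ 4 ^ d + 1 := by
    have h2d : ((4 : ZMod c) ^ 2) ^ d = 1 := by
      rw [hd, pow_gcd_eq_one, ← pow_mul, ← pow_mul, mul_comm 2 n, pow_mul, hneg]
      refine ⟨neg_one_sq, ?_⟩
      rw [show 2 * ((c - 1) / 2) = c - 1 by omega]
      exact ZMod.pow_card_sub_one_eq_one h40
    have hx : ((4 : ZMod c) ^ d) ^ j = (4 : ZMod c) ^ d := by
      obtain ⟨l, rfl⟩ := hjodd
      rw [← pow_mul] at h2d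
      rw [pow_succ, pow_mul, ← pow_mul _ d 2, mul_comm d 2, h2d, one_pow, one_mul]
    rw [← pow_mul, ← hj, hneg] at hx
    rw [← ZMod.natCast_eq_zero_iff]
    push_cast
    rw [← hx, neg_add_cancel]
  have hv := padicValNat.pow_add_pow (x := 4 ^ d) (y := 1) hodd hdvd
    (fun h => h4 (hc.dvd_of_dvd_pow h)) hjodd
  rw [← pow_mul, ← hj, one_pow, ← Nat.factorization_def _ hc, ← Nat.factorization_def _ hc,
    ← Nat.factorization_def _ hc] at hv
  have hle : N.factorization c ≤ (4 ^ d + 1).factorization c + n.factorization c :=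
    calc N.factorization c ≤ (4 ^ n + 1).factorization c :=
          (Nat.factorization_le_iff_dvd (fun h => by subst h; simp at hN) (by positivity)).2 hN c
      _ = _ + j.factorization c := hv
      _ ≤ _ := by
        refine Nat.add_le_add_left ((Nat.factorization_le_iff_dvd ?_ hn.pos.ne').2 ⟨d, by rw [hj, mul_comm]⟩ c) _
        exact fun h => by subst h; simp at hjodd
  calc c ^ N.factorization c ≤ c ^ ((4 ^ d + 1).factorization c + n.factorization c) :=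
        Nat.pow_le_pow_right hc.pos hle
    _ = c ^ (4 ^ d + 1).factorization c * c ^ n.factorization c := pow_add _ _ _
    _ ≤ 2 ^ ((c + 1) / 2) * c ^ n.factorization c := by
      refine Nat.mul_le_mul_right _ ((Nat.le_of_dvd (by positivity) (Nat.ordProj_dvd _ c)).trans ?_)
      have h1 : 4 ^ d ≤ 2 ^ ((c - 1) / 2) := by
        rw [show (4 : ℕ) = 2 ^ 2 by norm_num, ← pow_mul]
        exact Nat.pow_le_pow_right two_pos (by omega)
      have h2 : 2 ^ ((c + 1) / 2) = 2 * 2 ^ ((c - 1) / 2) := by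
        rw [← pow_succ']; congr 1; omega
      have := Nat.two_pow_pos ((c - 1) / 2)
      omega

/-- Each of the odd classes has a prime not dividing the field degree. -/
theorem exists_prime_not_dvd {m : ℕ} (hm : 1 ≤ m) (hm2 : m ≠ 2) {i : Fin 4} (hi : i ≠ 0) :
    ∃ p : ℕ, p.Prime ∧ p ∣ cls m i ∧ ¬ p ∣ 2 * (2 * m + 1) := by
  have key : ∀ N, Odd N → N ∣ 4 ^ (2 * m + 1) + 1 → 2 ^ (2 * m) ≤ N →
      (m ≤ 4 → ∃ p : ℕ, p.Prime ∧ p ∣ N ∧ ¬ p ∣ 2 * (2 * m + 1)) →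
      ∃ p : ℕ, p.Prime ∧ p ∣ N ∧ ¬ p ∣ 2 * (2 * m + 1) := by
    intro N hNodd hN hbig hsmall
    by_contra hcon
    push Not at hcon
    set n := 2 * m + 1 with hn
    have hN0 : N ≠ 0 := hNodd.pos.ne'
    have hsub : N.primeFactors ⊆ n.primeFactors := fun c hc => by
      obtain ⟨hc, hcN, -⟩ := Nat.mem_primeFactors.1 hc
      refine Nat.mem_primeFactors.2 ⟨hc, (hc.dvd_mul.1 (hcon c hc hcN)).resolve_left fun h2 => ?_, by omega⟩
      exact Nat.not_even_iff_odd.2 hNodd (even_iff_two_dvd.2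
        ((Nat.prime_dvd_prime_iff_eq hc Nat.prime_two).1 h2 ▸ hcN))
    have hprod : N ≤ 2 ^ ((n + 1) / 2) * n := by
      conv_lhs => rw [← Nat.prod_factorization_pow_eq_self hN0]
      rw [Finsupp.prod, Nat.support_factorization]
      refine (Finset.prod_le_prod' fun c hc => ordProj_le ⟨m, hn⟩ hN
        (Nat.mem_primeFactors.1 hc).1 (Nat.mem_primeFactors.1 hc).2.1).trans ?_
      rw [Finset.prod_mul_distrib, Finset.prod_pow_eq_pow_sum]
      refine Nat.mul_le_mul (Nat.pow_le_pow_right two_pos ?_) ?_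
      · have h3 : ∀ c ∈ N.primeFactors, 3 ≤ c := fun c hc => by
          obtain ⟨hc', hcn, -⟩ := Nat.mem_primeFactors.1 (hsub hc)
          rcases Nat.eq_or_lt_of_le hc'.two_le with h | h
          · exact absurd hcn (by rw [← h]; omega)
          · exact h
        refine (sum_half_le _ h3).1.trans (Nat.div_le_div_right (Nat.succ_le_succ ?_))
        exact Nat.le_of_dvd (by omega) ((Finset.prod_dvd_prod_of_subset _ _ _ hsub).trans (Nat.prod_primeFactors_dvd n))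
      · refine le_trans (Finset.prod_le_prod_of_subset_of_one_le' hsub fun c hc _ =>
          Nat.one_le_pow _ _ (Nat.mem_primeFactors.1 hc).1.pos) (le_of_eq ?_)
        conv_rhs => rw [← Nat.prod_factorization_pow_eq_self (show n ≠ 0 by omega)]
        rw [Finsupp.prod, Nat.support_factorization]
    have hm4 : m ≤ 4 := by
      by_contra h4
      obtain ⟨l, rfl⟩ : ∃ l, m = l + 5 := ⟨m - 5, by omega⟩
      have h16 : ∀ l : ℕ, 2 * (l + 5) + 1 < 2 ^ (l + 4) := by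
        intro l
        induction l with
        | zero => norm_num
        | succ l ih => rw [show l + 1 + 4 = l + 4 + 1 by ring, pow_succ]; omega
      have h1 := hbig.trans hprod
      rw [hn, show (2 * (l + 5) + 1 + 1) / 2 = l + 6 by omega,
        show 2 * (l + 5) = l + 6 + (l + 4) by ring, pow_add] at h1
      have := Nat.le_of_mul_le_mul_left h1 (Nat.two_pow_pos _)
      have := h16 l
      omega
    obtain ⟨p, hp, hpN, hpn⟩ := hsmall hm4
    exact hpn (hcon p hp hpN)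
  have hsmallA : m ≤ 4 → ∃ p : ℕ, p.Prime ∧ p ∣ toA m ∧ ¬ p ∣ 2 * (2 * m + 1) := by
    intro h
    interval_cases m <;> unfold toA
    · exact ⟨13, by norm_num, by norm_num, by norm_num⟩
    · exact ⟨41, by norm_num, by norm_num, by norm_num⟩
    · exact ⟨29, by norm_num, by norm_num, by norm_num⟩
    · exact ⟨109, by norm_num, by norm_num, by norm_num⟩
  have hsmallB : m ≤ 4 → m ≠ 2 → ∃ p : ℕ, p.Prime ∧ p ∣ toB m ∧ ¬ p ∣ 2 * (2 * m + 1) := by
    intro h h2
    interval_cases m <;> unfold toB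
    · exact ⟨5, by norm_num, by norm_num, by norm_num⟩
    · exact absurd rfl h2
    · exact ⟨113, by norm_num, by norm_num, by norm_num⟩
    · exact ⟨13, by norm_num, by norm_num, by norm_num⟩
  have hhalf : 2 ^ (m + 1) ≤ 2 ^ (2 * m) := Nat.pow_le_pow_right two_pos (by omega)
  have hdouble : 2 ^ (2 * m + 1) = 2 * 2 ^ (2 * m) := pow_succ' _ _
  have hpos := Nat.two_pow_pos m
  have hpos' := Nat.two_pow_pos (2 * m)
  fin_cases i
  · exact absurd rfl hi
  · obtain ⟨p, h1, h2, h3, -⟩ := exists_ppd_one hm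
    exact ⟨p, h1, h2, h3⟩
  · exact key (cls m 2) (odd_cls hi) ⟨toB m, (cls_mul m).symm⟩ (by rw [cls_two]; unfold toA; omega) hsmallA
  · exact key (cls m 3) (odd_cls hi) ⟨toA m, (cls_mul m).symm.trans (Nat.mul_comm _ _)⟩
      (by rw [cls_three]; unfold toB; omega) (fun h => hsmallB h hm2)

end CfsgLib.SzSquare
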