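import Cfsg.Agent.Lib.SzSquare.SquareTools
import Cfsg.Agent.Lib.Components.Balance

/-!
A group of two primes acting on two commuting modules for two further primes produces an element
whose order involves three of the four primes.
-/

set_option autoImplicit false
set_option linter.style.haveILetI false

namespace CfsgLib.SzSquare

open Subgroup
open scoped commutatorElement

universe u

variable {G : Type u} [Group G] [Finite G]

/-- The data: `M` a solvable `{c, d}`-group normalising the commuting abelian groups `V` and `R`. -/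
structure TwoMod (ρ : Finset ℕ) (a b c d : ℕ) (M V R : Subgroup G) : Prop where
  prime : ∀ p ∈ ρ, p.Prime
  noTriple : NoTriple ρ G
  ha : a ∈ ρ
  hb : b ∈ ρ
  hc : c ∈ ρ
  hd : d ∈ ρ
  hab : a ≠ b
  hac : a ≠ c
  had : a ≠ d
  hbc : b ≠ c
  hbd : b ≠ d
  hcd : c ≠ d
  solvable : Group.IsSolvable M
  supp : ∀ p : ℕ, p.Prime → p ∣ Nat.card M → p = c ∨ p = d
  sqc : HasSquare c M
  sqd : HasSquare d M
  pV : IsPGroup a V
  pR : IsPGroup b R
  Vc : ∀ x ∈ V, ∀ y ∈ V, x * y = y * x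
  Rc : ∀ x ∈ R, ∀ y ∈ R, x * y = y * x
  Vne : V ≠ ⊥
  Rne : R ≠ ⊥
  MV : M ≤ normalizer (V : Set G)
  MR : M ≤ normalizer (R : Set G)
  VR : ∀ v ∈ V, ∀ r ∈ R, Commute v r

namespace TwoMod

variable {ρ : Finset ℕ} {a b c d : ℕ} {M V R : Subgroup G}

omit [Finite G] in
theorem swapMod (h : TwoMod ρ a b c d M V R) : TwoMod ρ b a c d M R V :=
  ⟨h.prime, h.noTriple, h.hb, h.ha, h.hc, h.hd, h.hab.symm, h.hbc, h.hbd, h.hac, h.had, h.hcd,
    h.solvable, h.supp, h.sqc, h.sqd, h.pR, h.pV, h.Rc, h.Vc, h.Rne, h.Vne, h.MR, h.MV,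
    fun r hr v hv => (h.VR v hv r hr).symm⟩

omit [Finite G] in
theorem swapPrime (h : TwoMod ρ a b c d M V R) : TwoMod ρ a b d c M V R :=
  ⟨h.prime, h.noTriple, h.ha, h.hb, h.hd, h.hc, h.hab, h.had, h.hac, h.hbd, h.hbc, h.hcd.symm,
    h.solvable, fun p hp hd => (h.supp p hp hd).symm, h.sqd, h.sqc, h.pV, h.pR, h.Vc, h.Rc, h.Vne,
    h.Rne, h.MV, h.MR, h.VR⟩

theorem fix_false (h : TwoMod ρ a b c d M V R) {e r v : G} (he : orderOf e = c) (hr : r ∈ R) (hr1 : r ≠ 1)
    (hv : v ∈ V) (hv1 : v ≠ 1) (her : Commute e r) (hev : Commute e v) : False := by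
  haveI := Fact.mk (h.prime a h.ha)
  haveI := Fact.mk (h.prime b h.hb)
  exact h.noTriple.false_of_commute h.prime h.hc h.hb h.ha h.hbc.symm h.hac.symm h.hab.symm
    he.symm.dvd (dvd_orderOf_of_mem h.pR hr hr1) (dvd_orderOf_of_mem h.pV hv hv1) her hev
    (h.VR v hv r hr).symm

theorem not_dvd_V (h : TwoMod ρ a b c d M V R) : ¬ c ∣ Nat.card V := by
  haveI := Fact.mk (h.prime a h.ha)
  obtain ⟨k, hk⟩ := h.pV.exists_card_eq
  intro hdvd
  exact h.hac ((Nat.prime_dvd_prime_iff_eq (h.prime c h.hc) (h.prime a h.ha)).1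
    ((h.prime c h.hc).dvd_of_dvd_pow (hk ▸ hdvd))).symm

theorem fixed_R (h : TwoMod ρ a b c d M V R) :
    ∃ e ∈ M, orderOf e = c ∧ ∃ r ∈ R, r ≠ 1 ∧ Commute e r := by
  haveI := Fact.mk (h.prime c h.hc)
  obtain ⟨x, hx, y, hy, hox, hoy, hxy, hn⟩ := h.sqc
  obtain ⟨e, he, heo, hr⟩ := exists_square_fixed hox hoy hxy hn R h.Rne (h.MR hx) (h.MR hy)
    h.swapMod.not_dvd_V
  exact ⟨e, (closure_le _).2 (by rintro z (rfl | rfl); exacts [hx, hy]) he, heo, hr⟩

/-- The centraliser of `R` in `M` has no square. -/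
theorem not_square_cent (h : TwoMod ρ a b c d M V R) :
    ¬ HasSquare c (M ⊓ centralizer (R : Set G)) := by
  haveI := Fact.mk (h.prime c h.hc)
  rintro ⟨x, hx, y, hy, hox, hoy, hxy, hn⟩
  obtain ⟨e, he, heo, v, hv, hv1, hev⟩ := exists_square_fixed hox hoy hxy hn V h.Vne
    (h.MV hx.1) (h.MV hy.1) h.not_dvd_V
  obtain ⟨r, hr, hr1⟩ := R.bot_or_exists_ne_one.resolve_left h.Rne
  have heC : e ∈ centralizer (R : Set G) :=
    (closure_le _).2 (by rintro z (rfl | rfl); exacts [hx.2, hy.2]) he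
  exact h.fix_false heo hr hr1 hv hv1 (mem_centralizer_iff.1 heC r hr).symm hev

theorem false_of_cent_core (h : TwoMod ρ a b c d M V R) {Q : Subgroup G} (hQ : IsPGroup c Q)
    (hQle : Q ≤ M ⊓ centralizer (R : Set G)) (hQ1 : Q ≠ ⊥) (hMQ : M ≤ normalizer (Q : Set G)) :
    False := by
  haveI := Fact.mk (h.prime c h.hc)
  haveI := Fact.mk (h.prime d h.hd)
  haveI := Fact.mk (h.prime a h.ha)
  obtain ⟨z, hz, hzo, -, -, hzn⟩ := exists_normalised_prime hQ hQ1
    (fun hs => h.not_square_cent (hs.mono hQle))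
  obtain ⟨δ, hδM, hδo, r, hr, hr1, hδr⟩ := h.swapPrime.fixed_R
  have hzR : ∀ r ∈ R, Commute z r := fun r hr => (mem_centralizer_iff.1 (hQle hz).2 r hr).symm
  haveI := Fact.mk (h.prime b h.hb)
  by_cases hzc : Commute z δ
  · exact h.noTriple.false_of_commute h.prime h.hc h.hd h.hb h.hcd h.hbc.symm h.hbd.symm
      hzo.symm.dvd hδo.symm.dvd (dvd_orderOf_of_mem h.pR hr hr1) hzc (hzR r hr) hδr
  · have hP : IsPGroup c (zpowers z) := IsPGroup.of_card (n := 1) (by rw [Nat.card_zpowers, hzo, pow_one])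
    have hsub := commutator_le_centralizer (a := a) (b := c) (d := d) h.hac.symm h.hcd.symm h.had.symm
      (zpowers z) V δ hδo hP h.pV h.Vc
      (by
        refine mem_normalizer_iff_map_conj_eq.2 (eq_of_le_of_card_ge ?_ ?_)
        · rw [MonoidHom.map_zpowers, zpowers_le]; exact hzn δ (hMQ hδM)
        · rw [card_map_of_injective (MulAut.conj δ).injective])
      (zpowers_le.2 (h.MV (hQle hz).1)) (h.MV hδM)
      (fun v hv hδv => by_contra fun hv1 => h.swapPrime.fix_false hδo hr hr1 hv hv1 hδr hδv)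
      (Or.inr inferInstance)
    obtain ⟨v, hv, hv1⟩ := V.bot_or_exists_ne_one.resolve_left h.Vne
    set f := ⁅z, δ⁆ with hf
    have hfC : f ∈ centralizer (V : Set G) :=
      hsub (commutator_mem_commutator (mem_zpowers z) (mem_zpowers δ))
    have hfz : f ∈ zpowers z := by
      rw [hf, commutatorElement_def, show z * δ * z⁻¹ * δ⁻¹ = z * (δ * z⁻¹ * δ⁻¹) by group, ← conj_inv]
      exact mul_mem (mem_zpowers z) (inv_mem (hzn δ (hMQ hδM)))
    have hf1 : f ≠ 1 := fun e => hzc (commutatorElement_eq_one_iff_mul_comm.1 e)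
    have hfo : orderOf f = c := by
      refine orderOf_eq_prime ?_ hf1
      obtain ⟨k, hk⟩ := mem_zpowers_iff.1 hfz
      rw [← hk, ← zpow_natCast, ← zpow_mul, mul_comm, zpow_mul, zpow_natCast, ← hzo, pow_orderOf_eq_one,
        one_zpow]
    have hfR : ∀ r ∈ R, Commute f r := fun r hr => by
      obtain ⟨k, hk⟩ := mem_zpowers_iff.1 hfz
      exact hk ▸ (hzR r hr).zpow_left k
    exact h.fix_false hfo hr hr1 hv hv1 (hfR r hr) (mem_centralizer_iff.1 hfC v hv).symm

/-- `M` is faithful on `R`. -/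
theorem cent_eq_bot (h : TwoMod ρ a b c d M V R) : M ⊓ centralizer (R : Set G) = ⊥ := by
  by_contra h1
  haveI := h.solvable
  obtain ⟨p, hp, hpd, Q, hQ, hQle, hQ1, hnorm⟩ :=
    exists_core (Y := M ⊓ centralizer (R : Set G))
      (Group.isSolvable_of_isSolvable_injective (Subgroup.inclusion_injective (inf_le_left : M ⊓ centralizer (R : Set G) ≤ M))) h1
  have hMQ : M ≤ normalizer (Q : Set G) := by
    refine le_trans ?_ hnorm
    intro g hg
    refine (mem_normalizer_iff_map_conj_eq).2 ?_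
    rw [map_inf _ _ _ (MulAut.conj g).injective, mem_normalizer_iff_map_conj_eq.1 (le_normalizer hg)]
    congr 1
    exact mem_normalizer_iff_map_conj_eq.1 (Components.normalizer_le_normalizer_centralizer R (h.MR hg))
  rcases h.supp p hp (hpd.trans (card_dvd_of_le inf_le_left)) with rfl | rfl
  · exact h.false_of_cent_core hQ hQle hQ1 hMQ
  · exact h.swapPrime.false_of_cent_core hQ hQle hQ1 hMQ

/-- The case of an even prime. -/
theorem false_of_two (h : TwoMod ρ a b 2 d M V R) : False := by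
  haveI := Fact.mk (h.prime a h.ha)
  haveI := Fact.mk (h.prime b h.hb)
  obtain ⟨x, hx, y, hy, hox, hoy, hxy, hn⟩ := h.sqc
  have hxy1 : x * y ≠ 1 := fun e => hn (by
    rw [eq_inv_of_mul_eq_one_right e]; exact inv_mem (mem_zpowers x))
  have hxyo : orderOf (x * y) = 2 := orderOf_eq_prime (by
    rw [hxy.mul_pow, ← hox, pow_orderOf_eq_one, hox, ← hoy, pow_orderOf_eq_one, one_mul]) hxy1
  -- an involution of `M` without fixed points on a module inverts it
  have inv : ∀ (W : Subgroup G), (∀ p ∈ W, ∀ q ∈ W, p * q = q * p) → M ≤ normalizer (W : Set G) →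
      ∀ i ∈ M, orderOf i = 2 → (∀ w ∈ W, Commute i w → w = 1) → ∀ w ∈ W, i * w * i⁻¹ = w⁻¹ := by
    intro W hW hMW i hi hio hfix w hw
    have hi2 : i ^ 2 = 1 := by rw [← hio, pow_orderOf_eq_one]
    have hu : i * w * i⁻¹ ∈ W := (mem_normalizer_iff.1 (hMW hi) w).1 hw
    refine eq_inv_of_mul_eq_one_right (hfix _ (W.mul_mem hw hu) (mul_inv_eq_iff_eq_mul.1 ?_))
    calc i * (w * (i * w * i⁻¹)) * i⁻¹ = i * w * i⁻¹ * (i ^ 2 * w * (i ^ 2)⁻¹) := by
          rw [pow_two]; group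
      _ = i * w * i⁻¹ * w := by rw [hi2]; group
      _ = w * (i * w * i⁻¹) := hW _ hu w hw
  have split : ∀ i ∈ M, orderOf i = 2 →
      (∀ v ∈ V, i * v * i⁻¹ = v⁻¹) ∨ (∀ r ∈ R, i * r * i⁻¹ = r⁻¹) := by
    intro i hi hio
    by_cases hV : ∀ v ∈ V, Commute i v → v = 1
    · exact Or.inl (inv V h.Vc h.MV i hi hio hV)
    · push Not at hV
      obtain ⟨v, hv, hiv, hv1⟩ := hV
      refine Or.inr (inv R h.Rc h.MR i hi hio fun r hr hir => by_contra fun hr1 => ?_)
      exact h.fix_false hio hr hr1 hv hv1 hir hiv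
  have pair : ∀ (W : Subgroup G) (i j : G), i ∈ M → j ∈ M → M ⊓ centralizer (W : Set G) = ⊥ →
      (∀ w ∈ W, i * w * i⁻¹ = w⁻¹) → (∀ w ∈ W, j * w * j⁻¹ = w⁻¹) → i * j = 1 := by
    intro W i j hi hj hW hiW hjW
    have : i * j ∈ M ⊓ centralizer (W : Set G) := by
      refine ⟨M.mul_mem hi hj, mem_centralizer_iff.2 fun w hw => ?_⟩
      have e : i * j * w * (i * j)⁻¹ = w :=
        calc i * j * w * (i * j)⁻¹ = i * (j * w * j⁻¹) * i⁻¹ := by group
          _ = i * w⁻¹ * i⁻¹ := by rw [hjW w hw]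
          _ = w := by rw [hiW _ (W.inv_mem hw), inv_inv]
      exact (mul_inv_eq_iff_eq_mul.1 e).symm
    rwa [hW, mem_bot] at this
  have hRb := h.cent_eq_bot
  have hVb := h.swapMod.cent_eq_bot
  have hx2 : x * x = 1 := by rw [← pow_two, ← hox, pow_orderOf_eq_one]
  have hy1 : y ≠ 1 := fun e => hn (e ▸ one_mem _)
  have hx1 : x ≠ 1 := fun e => by rw [e, orderOf_one] at hox; omega
  have k1 : x * y ≠ 1 := hxy1
  have k2 : x * (x * y) ≠ 1 := by rwa [← mul_assoc, hx2, one_mul]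
  have k3 : y * (x * y) ≠ 1 := by
    rwa [← mul_assoc, hxy.symm.eq, mul_assoc, show y * y = 1 by rw [← pow_two, ← hoy, pow_orderOf_eq_one], mul_one]
  rcases split x hx hox with h1 | h1 <;> rcases split y hy hoy with h2 | h2 <;>
    rcases split (x * y) (M.mul_mem hx hy) hxyo with h3 | h3
  · exact k1 (pair V x y hx hy hVb h1 h2)
  · exact k1 (pair V x y hx hy hVb h1 h2)
  · exact k2 (pair V x _ hx (M.mul_mem hx hy) hVb h1 h3)
  · exact k3 (pair R y _ hy (M.mul_mem hx hy) hRb h2 h3)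
  · exact k3 (pair V y _ hy (M.mul_mem hx hy) hVb h2 h3)
  · exact k2 (pair R x _ hx (M.mul_mem hx hy) hRb h1 h3)
  · exact k1 (pair R x y hx hy hRb h1 h2)
  · exact k1 (pair R x y hx hy hRb h1 h2)

/-- An element of order `d` centralises every `c`-subgroup it normalises. -/
theorem centralises_core (h : TwoMod ρ a b c d M V R) (hc2 : c ≠ 2) {Q : Subgroup G}
    (hQ : IsPGroup c Q) (hQM : Q ≤ M) {δ : G} (hδM : δ ∈ M) (hδo : orderOf δ = d)
    (hδQ : δ ∈ normalizer (Q : Set G)) : ∀ x ∈ Q, Commute δ x := by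
  haveI := Fact.mk (h.prime a h.ha)
  haveI := Fact.mk (h.prime b h.hb)
  haveI := Fact.mk (h.prime c h.hc)
  haveI := Fact.mk (h.prime d h.hd)
  have hbot : ⁅Q, zpowers δ⁆ = ⊥ := by
    have hle : ⁅Q, zpowers δ⁆ ≤ M :=
      (Coprime.commutator_le_of_normalizes (zpowers_le.2 hδQ)).trans hQM
    by_cases hV : ∀ v ∈ V, Commute δ v → v = 1
    · exact le_bot_iff.1 (h.swapMod.cent_eq_bot ▸ le_inf hle
        (commutator_le_centralizer h.hac.symm h.hcd.symm h.had.symm Q V δ hδo hQ h.pV h.Vc hδQ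
          (hQM.trans h.MV) (h.MV hδM) hV (Or.inl hc2)))
    · push Not at hV
      obtain ⟨v, hv, hiv, hv1⟩ := hV
      exact le_bot_iff.1 (h.cent_eq_bot ▸ le_inf hle
        (commutator_le_centralizer h.hbc.symm h.hcd.symm h.hbd.symm Q R δ hδo hQ h.pR h.Rc hδQ
          (hQM.trans h.MR) (h.MR hδM)
          (fun r hr hir => by_contra fun hr1 => h.swapPrime.fix_false hδo hr hr1 hv hv1 hir hiv)
          (Or.inl hc2)))
  intro x hx
  exact (mem_centralizer_iff.1 (commutator_eq_bot_iff_le_centralizer.1 hbot hx) δ (mem_zpowers δ))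

/-- The data are contradictory. -/
theorem false (h : TwoMod ρ a b c d M V R) : False := by
  rcases eq_or_ne c 2 with rfl | hc2
  · exact h.false_of_two
  rcases eq_or_ne d 2 with rfl | hd2
  · exact h.swapPrime.false_of_two
  haveI := Fact.mk (h.prime b h.hb)
  haveI := Fact.mk (h.prime c h.hc)
  haveI := Fact.mk (h.prime d h.hd)
  haveI := h.solvable
  let C := fun p : ℕ => (Cfsg.pCore p M).map M.subtype
  have hCle : ∀ p, C p ≤ M := fun p => map_subtype_le _
  have hCn : ∀ p, M ≤ normalizer (C p : Set G) := fun p => by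
    refine (normal_subgroupOf_iff_le_normalizer (hCle p)).1 ?_
    rw [← comap_subtype, comap_map_eq_self_of_injective M.subtype_injective]
    exact Fitting.pCore_normal (G := M) p
  have hCc : IsPGroup c (C c) := (Fitting.pCore_isPGroup (G := M) c).map _
  have hCd : IsPGroup d (C d) := (Fitting.pCore_isPGroup (G := M) d).map _
  have hmem : ∀ {y : G}, y ∈ M → (∀ x ∈ C c, Commute y x) → (∀ x ∈ C d, Commute y x) →
      y ∈ C c ⊔ C d := by
    intro y hy h1 h2
    refine mem_of_centralises h.solvable (fun p hp Q hQ hQM hMQ => ?_) hy fun x hx => ?_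
    · by_cases hp' : p = c ∨ p = d
      · haveI := Fact.mk hp
        have hn : (Q.subgroupOf M).Normal := normal_subgroupOf_of_le_normalizer hMQ
        have h3 : Q.subgroupOf M ≤ Cfsg.pCore p M :=
          Fitting.le_pCore hn (hQ.comap_subtype)
        have h4 : Q ≤ C p := by
          intro x hx
          exact ⟨⟨x, hQM hx⟩, h3 hx, rfl⟩
        rcases hp' with rfl | rfl
        · exact h4.trans le_sup_left
        · exact h4.trans le_sup_right
      · haveI := Fact.mk hp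
        intro x hx
        by_contra hx1
        refine hp' (h.supp p hp ((dvd_orderOf_of_mem hQ hx (fun e => hx1 (e ▸ one_mem _))).trans
          (orderOf_dvd_natCard _ (hQM hx))))
    · have : C c ⊔ C d ≤ centralizer ({y} : Set G) := sup_le
        (fun x hx => mem_centralizer_singleton_iff.2 (h1 x hx).symm.eq)
        (fun x hx => mem_centralizer_singleton_iff.2 (h2 x hx).symm.eq)
      exact (mem_centralizer_singleton_iff.1 (this hx)).symm
  have hcent : ∀ δ ∈ M, orderOf δ = d → ∀ x ∈ C c, Commute δ x := fun δ hδ hδo =>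
    h.centralises_core hc2 hCc (hCle c) hδ hδo (hCn c hδ)
  have hcent' : ∀ e ∈ M, orderOf e = c → ∀ x ∈ C d, Commute e x := fun e he heo =>
    h.swapPrime.centralises_core hd2 hCd (hCle d) he heo (hCn d he)
  obtain ⟨e, heM, heo, r, hr, hr1, her⟩ := h.fixed_R
  obtain ⟨x, hx, y, hy, hox, hoy, hxy, hn⟩ := h.sqd
  have hcomm : ∀ δ ∈ M, orderOf δ = d → Commute δ e := by
    intro δ hδ hδo
    set f := δ * e * δ⁻¹ * e⁻¹ with hf
    have hfM : f ∈ M := M.mul_mem (M.mul_mem (M.mul_mem hδ heM) (M.inv_mem hδ)) (M.inv_mem heM)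
    have hconj : ∀ (p : ℕ) (k : G), k ∈ M → ∀ x ∈ C p, k * x * k⁻¹ ∈ C p := fun p k hk x hx =>
      (mem_normalizer_iff.1 (hCn p hk) x).1 hx
    have hfc : ∀ x ∈ C c, Commute f x := fun x hx => by
      have h1 : ∀ z ∈ C c, δ * z * δ⁻¹ = z := fun z hz => by
        rw [(hcent δ hδ hδo z hz).eq, mul_inv_cancel_right]
      have h2 := hconj c e⁻¹ (M.inv_mem heM) x hx
      have h3 : δ⁻¹ * (e⁻¹ * x * e⁻¹⁻¹) * δ = e⁻¹ * x * e⁻¹⁻¹ := by
        conv_lhs => rw [← h1 _ h2]
        group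
      refine mul_inv_eq_iff_eq_mul.1 ?_
      calc f * x * f⁻¹ = δ * (e * (δ⁻¹ * (e⁻¹ * x * e⁻¹⁻¹) * δ) * e⁻¹) * δ⁻¹ := by rw [hf]; group
        _ = δ * (e * (e⁻¹ * x * e⁻¹⁻¹) * e⁻¹) * δ⁻¹ := by rw [h3]
        _ = x := by rw [show e * (e⁻¹ * x * e⁻¹⁻¹) * e⁻¹ = x by group, h1 x hx]
    have hfd : ∀ x ∈ C d, Commute f x := fun x hx => by
      have h1 : ∀ z ∈ C d, e * z * e⁻¹ = z := fun z hz => by
        rw [(hcent' e heM heo z hz).eq, mul_inv_cancel_right]
      have h2 : e⁻¹ * x * e = x := by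
        conv_lhs => rw [← h1 x hx]
        group
      have h3 := hconj d δ⁻¹ (M.inv_mem hδ) x hx
      refine mul_inv_eq_iff_eq_mul.1 ?_
      calc f * x * f⁻¹ = δ * (e * (δ⁻¹ * (e⁻¹ * x * e) * δ⁻¹⁻¹) * e⁻¹) * δ⁻¹ := by rw [hf]; group
        _ = δ * (δ⁻¹ * x * δ⁻¹⁻¹) * δ⁻¹ := by rw [h2, h1 _ h3]
        _ = x := by group
    -- `f` lies in `C c ⊔ C d` and is centralised in stages
    have hfF := hmem hfM hfc hfd
    obtain ⟨u, hu, w, hw, hfe⟩ : ∃ u ∈ C c, ∃ w ∈ C d, u * w = f := by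
      obtain ⟨u, hu, w, hw, h'⟩ := Coprime.exists_mul_of_mem_sup ((hCle c).trans (hCn d)) hfF
      exact ⟨u, hu, w, hw, h'.symm⟩
    have hδu := hcent δ hδ hδo u hu
    have hew := hcent' e heM heo w hw
    have hwu : Commute u w := by
      have h1 := fun u (hu : u ∈ Cfsg.pCore c M) v (hv : v ∈ Cfsg.pCore d M) =>
        Fitting.commute_pCore_of_ne (h.prime c h.hc) (h.prime d h.hd) h.hcd hu hv
      obtain ⟨u', hu', rfl⟩ := hu
      obtain ⟨w', hw', rfl⟩ := hw
      exact (h1 u' hu' w' hw').map M.subtype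
    have hstep : ∀ k : ℕ, ∃ w' ∈ C d, δ ^ k * e * (δ ^ k)⁻¹ = u ^ k * w' * e := by
      intro k
      induction k with
      | zero => exact ⟨1, one_mem _, by simp⟩
      | succ k ih =>
        obtain ⟨w', hw', hk⟩ := ih
        refine ⟨(δ * w' * δ⁻¹) * w, mul_mem (hconj d δ hδ w' hw') hw, ?_⟩
        have hwc : Commute (δ * w' * δ⁻¹) u := by
          have h1 := fun u (hu : u ∈ Cfsg.pCore c M) v (hv : v ∈ Cfsg.pCore d M) =>
        Fitting.commute_pCore_of_ne (h.prime c h.hc) (h.prime d h.hd) h.hcd hu hv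
          obtain ⟨u', hu', rfl⟩ := hu
          obtain ⟨v', hv', hve⟩ := hconj d δ hδ w' hw'
          rw [← hve]
          exact ((h1 u' hu' v' hv').map M.subtype).symm
        have hδe : δ * e * δ⁻¹ = u * w * e := by rw [hfe, hf]; group
        calc δ ^ (k + 1) * e * (δ ^ (k + 1))⁻¹ = δ * (δ ^ k * e * (δ ^ k)⁻¹) * δ⁻¹ := by
              rw [pow_succ']; group
          _ = δ * (u ^ k * w' * e) * δ⁻¹ := by rw [hk]
          _ = δ * u ^ k * δ⁻¹ * (δ * w' * δ⁻¹) * (δ * e * δ⁻¹) := by group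
          _ = u ^ k * (δ * w' * δ⁻¹) * (u * w * e) := by
              rw [(hδu.pow_right k).eq, mul_inv_cancel_right, hδe]
          _ = u ^ k * ((δ * w' * δ⁻¹) * u) * w * e := by group
          _ = u ^ (k + 1) * (δ * w' * δ⁻¹ * w) * e := by rw [hwc.eq, pow_succ]; group
    have hdisj : ∀ g, g ∈ C c → g ∈ C d → g = 1 := fun g h1 h2 => by
      by_contra hg
      have e1 := dvd_orderOf_of_mem hCc h1 hg
      obtain ⟨k, hk⟩ := IsPGroup.iff_orderOf.1 hCd ⟨g, h2⟩
      rw [← Subgroup.orderOf_coe] at hk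
      exact h.hcd ((Nat.prime_dvd_prime_iff_eq (h.prime c h.hc) (h.prime d h.hd)).1
        ((h.prime c h.hc).dvd_of_dvd_pow (hk ▸ e1)))
    have hu1 : u = 1 := by
      obtain ⟨w', hw', hk⟩ := hstep d
      rw [← hδo, pow_orderOf_eq_one, hδo, one_mul, inv_one, mul_one] at hk
      have h1 : u ^ d * w' = 1 := by
        have := congrArg (· * e⁻¹) hk; simpa using this.symm
      have h2 : u ^ d = 1 := hdisj _ (pow_mem hu d) (by rw [eq_inv_of_mul_eq_one_left h1]; exact inv_mem hw')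
      by_contra hne
      have e1 := dvd_orderOf_of_mem hCc hu hne
      exact h.hcd ((Nat.prime_dvd_prime_iff_eq (h.prime c h.hc) (h.prime d h.hd)).1
        (e1.trans (orderOf_dvd_of_pow_eq_one h2)))
    subst hu1
    rw [one_mul] at hfe
    have hw1 : w = 1 := by
      have hδe : δ * e * δ⁻¹ = w * e := by rw [hfe, hf]; group
      have h1 : (w * e) ^ c = 1 := by rw [← hδe, conj_pow, ← heo, pow_orderOf_eq_one]; group
      rw [hew.symm.mul_pow, ← heo, pow_orderOf_eq_one, heo, mul_one] at h1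
      by_contra hne
      have e1 := dvd_orderOf_of_mem hCd hw hne
      exact h.hcd ((Nat.prime_dvd_prime_iff_eq (h.prime d h.hd) (h.prime c h.hc)).1
        (e1.trans (orderOf_dvd_of_pow_eq_one h1))).symm
    subst hw1
    show δ * e = e * δ
    calc δ * e = δ * e * δ⁻¹ * e⁻¹ * (e * δ) := by group
      _ = e * δ := by rw [← hf, ← hfe, one_mul]
  -- a square of order `d` fixes a point of `C_R(e)`
  have hK : R ⊓ centralizer ({e} : Set G) ≠ ⊥ := fun hb => hr1 (mem_bot.1 (hb ▸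
    ⟨hr, mem_centralizer_singleton_iff.2 her.symm.eq⟩))
  have hnorm : ∀ g ∈ M, orderOf g = d → g ∈ normalizer ((R ⊓ centralizer ({e} : Set G) : Subgroup G) : Set G) := by
    intro g hg hgo
    rw [mem_normalizer_iff_map_conj_eq, map_inf _ _ _ (MulAut.conj g).injective,
      mem_normalizer_iff_map_conj_eq.1 (h.MR hg)]
    congr 1
    ext w
    have hge : g⁻¹ * e * g = e := by rw [mul_assoc, ← (hcomm g hg hgo).eq, inv_mul_cancel_left]
    constructor
    · rintro ⟨v, hv, rfl⟩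
      rw [SetLike.mem_coe, mem_centralizer_singleton_iff] at hv
      rw [mem_centralizer_singleton_iff]
      show g * v * g⁻¹ * e = e * (g * v * g⁻¹)
      calc g * v * g⁻¹ * e = g * (v * (g⁻¹ * e * g)) * g⁻¹ := by group
        _ = g * (e * v) * g⁻¹ := by rw [hge, hv]
        _ = g * ((g⁻¹ * e * g) * v) * g⁻¹ := by rw [hge]
        _ = e * (g * v * g⁻¹) := by group
    · intro hw
      rw [mem_centralizer_singleton_iff] at hw
      refine ⟨g⁻¹ * w * g, ?_, by simp [mul_assoc]⟩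
      rw [SetLike.mem_coe, mem_centralizer_singleton_iff]
      calc g⁻¹ * w * g * e = g⁻¹ * w * g * (g⁻¹ * e * g) := by rw [hge]
        _ = g⁻¹ * (w * e) * g := by group
        _ = g⁻¹ * (e * w) * g := by rw [hw]
        _ = (g⁻¹ * e * g) * (g⁻¹ * w * g) := by group
        _ = e * (g⁻¹ * w * g) := by rw [hge]
  obtain ⟨δ, hδ, hδo, k, hk, hk1, hδk⟩ := exists_square_fixed hox hoy hxy hn _ hK
    (hnorm x hx hox) (hnorm y hy hoy) (fun hdvd =>
      h.swapPrime.swapMod.not_dvd_V (hdvd.trans (card_dvd_of_le inf_le_left)))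
  have hδM : δ ∈ M := (closure_le _).2 (by rintro z (rfl | rfl); exacts [hx, hy]) hδ
  exact h.noTriple.false_of_commute h.prime h.hc h.hd h.hb h.hcd h.hbc.symm h.hbd.symm heo.symm.dvd
    hδo.symm.dvd (dvd_orderOf_of_mem h.pR hk.1 hk1) (hcomm δ hδM hδo).symm
    (mem_centralizer_singleton_iff.1 hk.2).symm hδk

end TwoMod

end CfsgLib.SzSquare
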