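import Cfsg.Agent.Lib.SzSquare.CriterionOne
import Cfsg.Agent.Lib.SzSquare.CriterionTwo
import Cfsg.Agent.Lib.Spectrum.Solvable
import Cfsg.Agent.Lib.PGroup.Frattini

/-!
A criterion of non-solvability: four primes, all pairwise products of which are element orders,
while no product of three of them is.
-/

set_option autoImplicit false
set_option linter.style.haveILetI false

namespace CfsgLib.SzSquare

open Subgroup
open scoped commutatorElement Pointwise

universe u

variable {G : Type u} [Group G] [Finite G]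

/-- A Hall subgroup of a solvable subgroup, for two or more primes. -/
theorem exists_hall {H : Subgroup G} (hs : Group.IsSolvable H) (π : Set ℕ) :
    ∃ M : Subgroup G, M ≤ H ∧ (∀ p : ℕ, p.Prime → p ∣ Nat.card M → p ∈ π) ∧
      ∀ U : Subgroup G, U ≤ H → (∀ p : ℕ, p.Prime → p ∣ Nat.card U → p ∈ π) →
        ∃ h ∈ H, ∀ u ∈ U, h * u * h⁻¹ ∈ M := by
  haveI := hs
  obtain ⟨M₀, hM₀⟩ := Hall.exists_isPiHall (G := H) π
  refine ⟨M₀.map H.subtype, map_subtype_le _, fun p hp hd => hM₀.1 p hp ?_, fun U hU hUπ => ?_⟩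
  · rwa [card_map_of_injective H.subtype_injective] at hd
  · obtain ⟨g, hg⟩ := Hall.exists_conj_le_isPiHall hM₀ (U := U.subgroupOf H) (fun p hp hd => hUπ p hp (by
      rwa [Nat.card_congr (subgroupOfEquivOfLe hU).toEquiv] at hd))
    refine ⟨g, g.2, fun u hu => ⟨MulAut.conj g • (⟨u, hU hu⟩ : H),
      hg (smul_mem_pointwise_smul _ _ _ (mem_subgroupOf.2 hu)), rfl⟩⟩

omit [Finite G] in
theorem eq_of_dvd_orderOf {g : G} {p : ℕ} (hp : p.Prime) {q : ℕ} (hq : q.Prime) {k : ℕ}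
    (h : p ∣ orderOf g) (hg : orderOf g ∣ q ^ k) : p = q :=
  (Nat.prime_dvd_prime_iff_eq hp hq).1 (hp.dvd_of_dvd_pow (h.trans hg))

/-- Squares move into Hall subgroups. -/
theorem square_into_hall {H M : Subgroup G} {π : Set ℕ} {p : ℕ} (hp : p.Prime) (hpπ : p ∈ π)
    (hM : ∀ U : Subgroup G, U ≤ H → (∀ q : ℕ, q.Prime → q ∣ Nat.card U → q ∈ π) →
        ∃ h ∈ H, ∀ u ∈ U, h * u * h⁻¹ ∈ M)
    (hsq : HasSquare p H) : HasSquare p M := by
  haveI := Fact.mk hp
  obtain ⟨x, hx, y, hy, hox, hoy, hxy, hn⟩ := hsq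
  have hZ : IsPGroup p (closure ({x, y} : Set G)) := by
    haveI : IsMulCommutative (closure ({x, y} : Set G)) := Subgroup.isMulCommutative_closure fun a ha b hb => by
      rcases ha with rfl | rfl <;> rcases hb with rfl | rfl
      exacts [rfl, hxy.eq, hxy.eq.symm, rfl]
    intro a
    refine ⟨1, Subtype.ext ?_⟩
    obtain ⟨a, ha⟩ := a
    show a ^ p ^ 1 = 1
    rw [pow_one]
    induction ha using closure_induction with
    | mem a ha =>
      rcases ha with rfl | rfl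
      · rw [← hox, pow_orderOf_eq_one]
      · rw [← hoy, pow_orderOf_eq_one]
    | one => exact one_pow p
    | mul a b ha hb iha ihb =>
      rw [(show Commute a b from congrArg Subtype.val
        (mul_comm' (⟨a, ha⟩ : closure ({x, y} : Set G)) ⟨b, hb⟩)).mul_pow, iha, ihb, one_mul]
    | inv a _ iha => rw [inv_pow, iha, inv_one]
  obtain ⟨k, hk⟩ := hZ.exists_card_eq
  obtain ⟨h, -, hh⟩ := hM (closure ({x, y} : Set G)) ((closure_le _).2 (by rintro z (rfl | rfl); exacts [hx, hy]))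
    (fun q hq hd => by
      rw [(Nat.prime_dvd_prime_iff_eq hq hp).1 (hq.dvd_of_dvd_pow (hk ▸ hd))]; exact hpπ)
  refine ⟨h * x * h⁻¹, hh x (subset_closure (by simp)), h * y * h⁻¹, hh y (subset_closure (by simp)),
    ?_, ?_, ?_, fun hm => hn ?_⟩
  · rw [← MulAut.conj_apply, MulEquiv.orderOf_eq, hox]
  · rw [← MulAut.conj_apply, MulEquiv.orderOf_eq, hoy]
  · exact hxy.map (MulAut.conj h)
  · obtain ⟨i, hi⟩ := mem_zpowers_iff.1 hm
    rw [← MulAut.conj_apply, ← MulAut.conj_apply, ← map_zpow] at hi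
    exact ⟨i, (MulAut.conj h).injective hi⟩

/-- The `p`-core of a subgroup, in the ambient group. -/
def coreOf (p : ℕ) (H : Subgroup G) : Subgroup G := (Cfsg.pCore p H).map H.subtype

omit [Finite G] in
theorem coreOf_le (p : ℕ) (H : Subgroup G) : coreOf p H ≤ H := map_subtype_le _

theorem coreOf_isPGroup (p : ℕ) (H : Subgroup G) [Fact p.Prime] : IsPGroup p (coreOf p H) :=
  (Fitting.pCore_isPGroup (G := H) p).map _

omit [Finite G] in
theorem le_normalizer_coreOf (p : ℕ) (H : Subgroup G) : H ≤ normalizer (coreOf p H : Set G) := by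
  refine (normal_subgroupOf_iff_le_normalizer (coreOf_le p H)).1 ?_
  rw [coreOf, ← comap_subtype, comap_map_eq_self_of_injective H.subtype_injective]
  exact Fitting.pCore_normal (G := H) p

theorem coreOf_commute {p q : ℕ} (hp : p.Prime) (hq : q.Prime) (hne : p ≠ q) {H : Subgroup G} {x y : G}
    (hx : x ∈ coreOf p H) (hy : y ∈ coreOf q H) : Commute x y := by
  obtain ⟨x, hx, rfl⟩ := hx
  obtain ⟨y, hy, rfl⟩ := hy
  exact (Fitting.commute_pCore_of_ne hp hq hne hx hy).map H.subtype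

theorem mem_of_centralises_cores {H K : Subgroup G} (hs : Group.IsSolvable H)
    (hK : ∀ p : ℕ, p.Prime → p ∣ Nat.card H → coreOf p H ≤ K)
    {y : G} (hy : y ∈ H) (hc : ∀ x ∈ K, Commute y x) : y ∈ K := by
  refine mem_of_centralises hs (fun p hp Q hQ hQH hHQ => ?_) hy hc
  intro g hg
  by_cases hg1 : g = 1
  · exact hg1 ▸ one_mem K
  haveI := Fact.mk hp
  refine hK p hp ((dvd_orderOf_of_mem hQ hg hg1).trans (orderOf_dvd_natCard _ (hQH hg))) ?_
  exact ⟨⟨g, hQH hg⟩, Fitting.le_pCore (normal_subgroupOf_of_le_normalizer hHQ) hQ.comap_subtype hg, rfl⟩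

/-- The elements of order dividing `p` in the centre of a subgroup. -/
def omegaCenter (p : ℕ) (Q : Subgroup G) : Subgroup G where
  carrier := {x | x ∈ Q ∧ x ^ p = 1 ∧ ∀ y ∈ Q, Commute x y}
  one_mem' := ⟨one_mem Q, one_pow p, fun y _ => Commute.one_left y⟩
  mul_mem' := fun {a b} ha hb => ⟨Q.mul_mem ha.1 hb.1, by
      rw [(ha.2.2 b hb.1).mul_pow, ha.2.1, hb.2.1, one_mul], fun y hy => (ha.2.2 y hy).mul_left (hb.2.2 y hy)⟩
  inv_mem' := fun {a} ha => ⟨Q.inv_mem ha.1, by rw [inv_pow, ha.2.1, inv_one],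
    fun y hy => (ha.2.2 y hy).inv_left⟩

omit [Finite G] in
theorem omegaCenter_le (p : ℕ) (Q : Subgroup G) : omegaCenter p Q ≤ Q := fun _ h => h.1

omit [Finite G] in
theorem normalizer_le_omegaCenter (p : ℕ) (Q : Subgroup G) :
    normalizer (Q : Set G) ≤ normalizer (omegaCenter p Q : Set G) := by
  have key : ∀ g ∈ normalizer (Q : Set G), ∀ x ∈ omegaCenter p Q, g * x * g⁻¹ ∈ omegaCenter p Q := by
    intro g hg x hx
    refine ⟨(mem_normalizer_iff.1 hg x).1 hx.1, by rw [conj_pow, hx.2.1]; group, fun y hy => ?_⟩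
    have h := hx.2.2 _ ((mem_normalizer_iff''.1 hg y).1 hy)
    have h2 := h.map (MulAut.conj g)
    rw [MulAut.conj_apply, MulAut.conj_apply, show g * (g⁻¹ * y * g) * g⁻¹ = y by group] at h2
    exact h2
  intro g hg
  rw [mem_normalizer_iff]
  intro x
  refine ⟨key g hg x, fun h => ?_⟩
  have := key g⁻¹ (inv_mem hg) _ h
  simpa [mul_assoc] using this

omit [Finite G] in
theorem omegaCenter_comm (p : ℕ) (Q : Subgroup G) :
    ∀ x ∈ omegaCenter p Q, ∀ y ∈ omegaCenter p Q, x * y = y * x := fun _ hx _ hy => (hx.2.2 _ hy.1).eq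

theorem omegaCenter_ne_bot {p : ℕ} [hp : Fact p.Prime] {Q : Subgroup G} (hQ : IsPGroup p Q) (h : Q ≠ ⊥) :
    omegaCenter p Q ≠ ⊥ := by
  obtain ⟨z, hz, hzo, hzc⟩ := exists_central hQ h
  intro hb
  have : z = 1 := mem_bot.1 (hb.le (show z ∈ omegaCenter p Q from
    ⟨hz, by rw [← hzo, pow_orderOf_eq_one], hzc⟩))
  rw [this, orderOf_one] at hzo
  exact hp.out.one_lt.ne hzo

theorem exists_others {ρ : Finset ℕ} (hcard : ρ.card = 4) {a b : ℕ} (ha : a ∈ ρ) (hb : b ∈ ρ)
    (hba : b ≠ a) : ∃ c d, Primes ρ a b c d := by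
  classical
  have hb' : b ∈ ρ.erase a := Finset.mem_erase.2 ⟨hba, hb⟩
  have h2 : ((ρ.erase a).erase b).card = 2 := by
    rw [Finset.card_erase_of_mem hb', Finset.card_erase_of_mem ha, hcard]
  obtain ⟨c, d, hcd, hs⟩ := Finset.card_eq_two.1 h2
  have hc : c ∈ (ρ.erase a).erase b := hs ▸ Finset.mem_insert_self c {d}
  have hd : d ∈ (ρ.erase a).erase b := hs ▸ Finset.mem_insert_of_mem (Finset.mem_singleton_self d)
  simp only [Finset.mem_erase] at hc hd
  refine ⟨c, d, ⟨hb, hc.2.2, hd.2.2, hba, hc.2.1, hd.2.1, fun e => hc.1 e.symm, fun e => hd.1 e.symm, hcd,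
    fun p hp => ?_⟩⟩
  by_contra hn
  push Not at hn
  have : p ∈ (ρ.erase a).erase b := Finset.mem_erase.2 ⟨hn.2.1, Finset.mem_erase.2 ⟨hn.1, hp⟩⟩
  rw [hs, Finset.mem_insert, Finset.mem_singleton] at this
  rcases this with h | h
  exacts [hn.2.2.1 h, hn.2.2.2 h]

namespace OneMod

variable {ρ : Finset ℕ} {a : ℕ} {H V : Subgroup G}

theorem false_of_normal_square (h : OneMod ρ a H V) {b : ℕ} (hbρ : b ∈ ρ) (hba : b ≠ a) (R : Subgroup G)
    (hRH : R ≤ H) (hHR : H ≤ normalizer (R : Set G)) (hpR : IsPGroup b R) (hsq : HasSquare b R)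
    (hodd : b ≠ 2 ∨ IsMulCommutative R) : False := by
  obtain ⟨c, d, hpr⟩ := exists_others h.card h.ha hbρ hba
  obtain ⟨M, hMH, hMsupp, hM⟩ := exists_hall h.solvable {c, d}
  have hc := h.prime c hpr.hc
  have hd := h.prime d hpr.hd
  refine CoreData.false (M := M) (b := b) (c := c) (d := d) ⟨h, hpr, hMH, hMsupp,
    square_into_hall hc (by simp) hM (h.square c hpr.hc hpr.hca),
    square_into_hall hd (by simp) hM (h.square d hpr.hd hpr.hda), ?_, hRH, hHR, hpR, hsq, hodd⟩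
  obtain ⟨g, hgH, hgo⟩ := h.edge c hpr.hc d hpr.hd hpr.hca hpr.hda hpr.hcd
  obtain ⟨k, -, hk⟩ := hM (zpowers g) (zpowers_le.2 hgH) (fun q hq hdvd => by
    rw [Nat.card_zpowers, hgo] at hdvd
    rcases hq.dvd_mul.1 hdvd with h1 | h1
    · exact Or.inl ((Nat.prime_dvd_prime_iff_eq hq hc).1 h1)
    · exact Or.inr ((Nat.prime_dvd_prime_iff_eq hq hd).1 h1))
  set g' := k * g * k⁻¹
  have hg' : g' ∈ M := hk g (mem_zpowers g)
  have hgo' : orderOf g' = c * d := by rw [← hgo]; exact MulEquiv.orderOf_eq (MulAut.conj k) g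
  refine ⟨g' ^ d, pow_mem hg' d, g' ^ c, pow_mem hg' c, ?_, ?_, (Commute.refl g').pow_pow d c⟩
  · rw [orderOf_pow_of_dvd hd.ne_zero (hgo' ▸ dvd_mul_left d c), hgo', Nat.mul_div_cancel _ hd.pos]
  · rw [orderOf_pow_of_dvd hc.ne_zero (hgo' ▸ dvd_mul_right c d), hgo', Nat.mul_div_cancel_left _ hc.pos]

/-- The even core is trivial. -/
theorem two_core (h : OneMod ρ a H V) (h2 : 2 ∈ ρ) (ha2 : 2 ≠ a) : coreOf 2 H = ⊥ := by
  by_contra hne
  haveI : Fact (Nat.Prime 2) := ⟨Nat.prime_two⟩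
  have hQ := coreOf_isPGroup (G := G) 2 H
  set R := omegaCenter 2 (coreOf 2 H)
  have hRp : IsPGroup 2 R := hQ.to_le (omegaCenter_le _ _)
  have hRn : H ≤ normalizer (R : Set G) := (le_normalizer_coreOf 2 H).trans (normalizer_le_omegaCenter _ _)
  by_cases hsq : HasSquare 2 R
  · exact h.false_of_normal_square h2 ha2 R ((omegaCenter_le _ _).trans (coreOf_le 2 H)) hRn hRp hsq
      (Or.inr ⟨⟨fun x y => Subtype.ext (omegaCenter_comm 2 (coreOf 2 H) x x.2 y y.2)⟩⟩)
  · obtain ⟨z, hz, hzo, -, -, hzn⟩ := exists_normalised_prime hRp (omegaCenter_ne_bot hQ hne) hsq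
    obtain ⟨c, d, hpr⟩ := exists_others h.card h.ha h2 ha2
    haveI := Fact.mk (h.prime c hpr.hc)
    haveI := Fact.mk (h.prime d hpr.hd)
    obtain ⟨g, hgH, hgo⟩ := h.edge c hpr.hc d hpr.hd hpr.hca hpr.hda hpr.hcd
    have hgz : Commute g z := by
      have hzz : g * z * g⁻¹ = z := by
        obtain ⟨k, hk⟩ := mem_powers_iff_mem_zpowers.2 (hzn g (hRn hgH))
        simp only at hk
        have hne1 : g * z * g⁻¹ ≠ 1 := fun e => by
          have : z = 1 := conj_eq_one_iff.1 e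
          rw [this, orderOf_one] at hzo; omega
        rw [pow_eq_pow_mod k (show z ^ 2 = 1 by rw [← hzo, pow_orderOf_eq_one])] at hk
        rcases Nat.mod_two_eq_zero_or_one k with e | e <;> rw [e] at hk
        · exact absurd (hk.symm.trans (pow_zero z)) hne1
        · exact hk.symm.trans (pow_one z)
      exact mul_inv_eq_iff_eq_mul.1 hzz
    exact h.noTriple.false_of_commute h.prime hpr.hc hpr.hd h2 hpr.hcd hpr.hbc.symm hpr.hbd.symm
      (x := g ^ d) (y := g ^ c) (z := z)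
      (by rw [orderOf_pow_of_dvd (h.prime d hpr.hd).ne_zero (hgo ▸ dvd_mul_left d c), hgo,
        Nat.mul_div_cancel _ (h.prime d hpr.hd).pos])
      (by rw [orderOf_pow_of_dvd (h.prime c hpr.hc).ne_zero (hgo ▸ dvd_mul_right c d), hgo,
        Nat.mul_div_cancel_left _ (h.prime c hpr.hc).pos])
      hzo.symm.dvd ((Commute.refl g).pow_pow d c) (hgz.pow_left d) (hgz.pow_left c)

/-- No core contains a square. -/
theorem not_square_core (h : OneMod ρ a H V) {b : ℕ} (hb : b ∈ ρ) (hba : b ≠ a) :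
    ¬ HasSquare b (coreOf b H) := fun hsq => by
  haveI := Fact.mk (h.prime b hb)
  rcases eq_or_ne b 2 with rfl | hb2
  · obtain ⟨x, hx, y, hy, -, -, -, hn⟩ := hsq
    rw [h.two_core hb hba, mem_bot] at hx hy
    exact hn (hy ▸ one_mem _)
  · exact h.false_of_normal_square hb hba _ (coreOf_le b H) (le_normalizer_coreOf b H)
      (coreOf_isPGroup b H) hsq (Or.inl hb2)

theorem core_data (h : OneMod ρ a H V) {b : ℕ} (hb : b ∈ ρ) (hba : b ≠ a) (hne : coreOf b H ≠ ⊥) :
    b ≠ 2 ∧ ∃ z ∈ coreOf b H, orderOf z = b ∧ (∀ g ∈ H, g * z * g⁻¹ ∈ zpowers z) ∧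
      (∀ g ∈ H, (∀ x ∈ coreOf b H, Commute g x) ∨ ¬ Commute g z ∨ b ∣ orderOf g) ∧
      IsCyclic (coreOf b H) := by
  haveI := Fact.mk (h.prime b hb)
  have hb2 : b ≠ 2 := fun e => hne (by subst e; exact h.two_core hb hba)
  have hns := h.not_square_core hb hba
  obtain ⟨z, hz, hzo, hzc, huniq, hzn⟩ := exists_normalised_prime (coreOf_isPGroup b H) hne hns
  refine ⟨hb2, z, hz, hzo, fun g hg => hzn g (le_normalizer_coreOf b H hg), fun g hg => ?_, ?_⟩
  · by_cases hgz : Commute g z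
    · by_cases hd : b ∣ orderOf g
      · exact Or.inr (Or.inr hd)
      refine Or.inl fun x hx => ?_
      have := OddOrder41.le_centralizer_of_fixes_order_p b hb2 (coreOf b H) ⊥ (zpowers g)
        (coreOf_isPGroup b H) bot_le ⟨inferInstance, fun g hg => by rw [mem_bot.1 hg, one_pow]⟩
        (zpowers_le.2 (le_normalizer_coreOf b H hg))
        (by rw [Nat.card_zpowers]; exact ((h.prime b hb).coprime_iff_not_dvd.2 hd).symm)
        (fun y hy hyo => by
          rw [zpowers_le, mem_centralizer_singleton_iff]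
          obtain ⟨k, hk⟩ := mem_zpowers_iff.1 (huniq y hy.1 hyo)
          exact hk ▸ (hgz.zpow_right k).eq)
      exact (mem_centralizer_iff.1 (this (mem_zpowers g)) x hx).symm
    · exact Or.inr (Or.inl hgz)
  · refine ConstStab.isCyclic_of_unique_prime_subgroup hb2 (coreOf_isPGroup b H) fun x y hx hxp hyp => ?_
    have hxo : orderOf (x : G) = b := by
      rw [Subgroup.orderOf_coe]; exact orderOf_eq_prime hxp hx
    have hxz := huniq x x.2 hxo
    by_cases hy1 : y = 1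
    · exact hy1 ▸ one_mem _
    have hyo : orderOf (y : G) = b := by
      rw [Subgroup.orderOf_coe]; exact orderOf_eq_prime hyp hy1
    have hzp : zpowers (x : G) = zpowers z := eq_of_le_of_card_ge (zpowers_le.2 hxz)
      (by rw [Nat.card_zpowers, Nat.card_zpowers, hxo, hzo])
    obtain ⟨k, hk⟩ := mem_zpowers_iff.1 (hzp ▸ huniq y y.2 hyo : (y : G) ∈ zpowers (x : G))
    exact ⟨k, Subtype.ext (by simpa using hk)⟩

theorem two_cores_false (h : OneMod ρ a H V) {b c : ℕ} (hb : b ∈ ρ) (hc : c ∈ ρ) (hba : b ≠ a)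
    (hca : c ≠ a) (hbc : b ≠ c) (hbne : coreOf b H ≠ ⊥) (hcne : coreOf c H ≠ ⊥) (hlt : ¬ c ∣ b - 1) :
    False := by
  have hp := h.prime
  obtain ⟨d, hd, hda, hdb, hdc, hall⟩ : ∃ d ∈ ρ, d ≠ a ∧ d ≠ b ∧ d ≠ c ∧
      ∀ p ∈ ρ, p = a ∨ p = b ∨ p = c ∨ p = d := by
    obtain ⟨c', d', hpr⟩ := exists_others h.card h.ha hb hba
    rcases hpr.all c hc with e | e | e | e
    · exact absurd e hca
    · exact absurd e hbc.symm
    · subst e; exact ⟨d', hpr.hd, hpr.hda, hpr.hbd.symm, hpr.hcd.symm, hpr.all⟩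
    · subst e
      exact ⟨c', hpr.hc, hpr.hca, hpr.hbc.symm, hpr.hcd, fun p hq => by have := hpr.all p hq; tauto⟩
  haveI := Fact.mk (hp b hb)
  haveI := Fact.mk (hp c hc)
  haveI := Fact.mk (hp d hd)
  obtain ⟨-, zb, hzb, hzbo, hzbn, hzbc, -⟩ := h.core_data hb hba hbne
  obtain ⟨-, zc, hzc, hzco, hzcn, hzcc, hcyc⟩ := h.core_data hc hca hcne
  have hCb : IsPGroup b (coreOf b H) := coreOf_isPGroup b H
  have hCc : IsPGroup c (coreOf c H) := coreOf_isPGroup c H
  have hbcc : ∀ {x y : G}, x ∈ coreOf b H → y ∈ coreOf c H → Commute x y := fun hx hy =>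
    coreOf_commute (hp b hb) (hp c hc) hbc hx hy
  have hdcore : coreOf d H = ⊥ := by
    by_contra hne
    obtain ⟨-, zd, hzd, hzdo, -⟩ := h.core_data hd hda hne
    exact h.noTriple.false_of_commute hp hb hc hd hbc hdb.symm hdc.symm hzbo.symm.dvd hzco.symm.dvd
      hzdo.symm.dvd (hbcc hzb hzc) (coreOf_commute (hp b hb) (hp d hd) hdb.symm hzb hzd)
      (coreOf_commute (hp c hc) (hp d hd) hdc.symm hzc hzd)
  obtain ⟨x, hx, y, hy, hox, hoy, hxy, hn⟩ := h.square c hc hca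
  obtain ⟨p, hpH, q, hqH, hop, hoq, hpq, hnpq⟩ := h.square d hd hda
  obtain ⟨l, hl, hlo, hlz⟩ := exists_square_commute hop hoq hpq hnpq hzbo (hzbn p hpH) (hzbn q hqH)
  have hlH : l ∈ H := (closure_le _).2 (by rintro z (rfl | rfl); exacts [hpH, hqH]) hl
  have hcentb : ∀ g ∈ H, Commute g zb → ¬ b ∣ orderOf g → ∀ w ∈ coreOf b H, Commute g w :=
    fun g hg h1 h2 => by
      rcases hzbc g hg with h3 | h3 | h3
      exacts [h3, absurd h1 h3, absurd h3 h2]
  have hxz : ∀ g ∈ H, orderOf g = c → ∀ w ∈ coreOf b H, Commute g w := fun g hg hgo =>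
    hcentb g hg (commute_of_normalises hgo hzbo (hzbn g hg) hlt)
      (hgo ▸ fun hd => hbc ((Nat.prime_dvd_prime_iff_eq (hp b hb) (hp c hc)).1 hd))
  have hlb : ∀ w ∈ coreOf b H, Commute l w := hcentb l hlH hlz
    (hlo ▸ fun hd' => hdb ((Nat.prime_dvd_prime_iff_eq (hp b hb) (hp d hd)).1 hd').symm)
  -- the subgroup `Q`
  set Z := closure ({x, y} : Set G)
  set Q := Z ⊔ coreOf c H
  have hZH : Z ≤ H := (closure_le _).2 (by rintro z (rfl | rfl); exacts [hx, hy])
  have hQH : Q ≤ H := sup_le hZH (coreOf_le c H)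
  have hZp : IsPGroup c Z := by
    haveI : IsMulCommutative Z := Subgroup.isMulCommutative_closure fun a ha b hb => by
      rcases ha with rfl | rfl <;> rcases hb with rfl | rfl
      exacts [rfl, hxy.eq, hxy.eq.symm, rfl]
    intro a
    refine ⟨1, Subtype.ext ?_⟩
    obtain ⟨a, ha⟩ := a
    show a ^ c ^ 1 = 1
    rw [pow_one]
    induction ha using closure_induction with
    | mem a ha =>
      rcases ha with rfl | rfl
      · rw [← hox, pow_orderOf_eq_one]
      · rw [← hoy, pow_orderOf_eq_one]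
    | one => exact one_pow c
    | mul a b ha hb iha ihb =>
      rw [(show Commute a b from congrArg Subtype.val
        (mul_comm' (⟨a, ha⟩ : Z) ⟨b, hb⟩)).mul_pow, iha, ihb, one_mul]
    | inv a _ iha => rw [inv_pow, iha, inv_one]
  have hQp : IsPGroup c Q := hZp.to_sup_of_normal_right' hCc (hZH.trans (le_normalizer_coreOf c H))
  obtain ⟨N, hN⟩ := hQp.exists_card_eq
  have hQb : ∀ g ∈ Q, ∀ w ∈ coreOf b H, Commute g w := by
    have hle : Q ≤ centralizer (coreOf b H : Set G) := sup_le ((closure_le _).2 (by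
        rintro z (rfl | rfl)
        · exact mem_centralizer_iff.2 fun w hw => ((hxz _ hx hox) w hw).eq.symm
        · exact mem_centralizer_iff.2 fun w hw => ((hxz _ hy hoy) w hw).eq.symm))
      (fun g hg => mem_centralizer_iff.2 fun w hw => (hbcc hw hg).eq)
    exact fun g hg w hw => (mem_centralizer_iff.1 (hle hg) w hw).symm
  obtain ⟨gen, hgen⟩ := hcyc.exists_generator
  have hstep : ∀ g ∈ H, (∀ w ∈ coreOf b H, Commute g w) → ∀ k ∈ Q,
      g * k * g⁻¹ * k⁻¹ ∈ coreOf c H := by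
    intro g hg hgb k hk
    set f := g * k * g⁻¹ * k⁻¹ with hf
    have hfH : f ∈ H := H.mul_mem (H.mul_mem (H.mul_mem hg (hQH hk)) (H.inv_mem hg)) (H.inv_mem (hQH hk))
    have hfb : ∀ w ∈ coreOf b H, Commute f w := fun w hw =>
      (((hgb w hw).mul_left (hQb k hk w hw)).mul_left (hgb w hw).inv_left).mul_left (hQb k hk w hw).inv_left
    have hact : ∀ t ∈ H, ∃ i : ℤ, ∀ w ∈ coreOf c H, t * w * t⁻¹ = w ^ i := by
      intro t ht
      obtain ⟨i, hi⟩ := mem_zpowers_iff.1
        (hgen ⟨_, (mem_normalizer_iff.1 (le_normalizer_coreOf c H ht) (gen : G)).1 gen.2⟩)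
      refine ⟨i, fun w hw => ?_⟩
      obtain ⟨j, hj⟩ := mem_zpowers_iff.1 (hgen ⟨w, hw⟩)
      have hi' : (gen : G) ^ i = t * gen * t⁻¹ := by simpa using congrArg Subtype.val hi
      have hj' : (gen : G) ^ j = w := by simpa using congrArg Subtype.val hj
      rw [← hj', ← conj_zpow, ← hi', ← zpow_mul, ← zpow_mul, mul_comm]
    obtain ⟨i, hi⟩ := hact g hg
    obtain ⟨j, hj⟩ := hact k (hQH hk)
    have hfc : ∀ w ∈ coreOf c H, Commute f w := by
      intro w hw
      have hgk : ∀ w ∈ coreOf c H, g * k * w * (g * k)⁻¹ = k * g * w * (k * g)⁻¹ := fun w hw =>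
        calc g * k * w * (g * k)⁻¹ = g * (k * w * k⁻¹) * g⁻¹ := by group
          _ = (w ^ j) ^ i := by rw [hj w hw, hi _ (zpow_mem hw j)]
          _ = (w ^ i) ^ j := by rw [← zpow_mul, ← zpow_mul, mul_comm]
          _ = k * (g * w * g⁻¹) * k⁻¹ := by rw [hi w hw, hj _ (zpow_mem hw i)]
          _ = k * g * w * (k * g)⁻¹ := by group
      have hwm : (k * g)⁻¹ * w * (k * g) ∈ coreOf c H :=
        (mem_normalizer_iff''.1 (le_normalizer_coreOf c H (H.mul_mem (hQH hk) hg)) w).1 hw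
      refine mul_inv_eq_iff_eq_mul.1 ?_
      calc f * w * f⁻¹ = g * k * ((k * g)⁻¹ * w * (k * g)) * (g * k)⁻¹ := by rw [hf]; group
        _ = k * g * ((k * g)⁻¹ * w * (k * g)) * (k * g)⁻¹ := hgk _ hwm
        _ = w := by group
    have hfF : f ∈ coreOf b H ⊔ coreOf c H := by
      refine mem_of_centralises_cores h.solvable (fun p hp' hdvd => ?_) hfH fun w hw => ?_
      · rcases hall p (h.supp p hp' hdvd).1 with e | e | e | e
        · exact absurd e (h.supp p hp' hdvd).2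
        · subst e; exact le_sup_left
        · subst e; exact le_sup_right
        · subst e; rw [hdcore]; exact bot_le
      · have : coreOf b H ⊔ coreOf c H ≤ centralizer ({f} : Set G) := sup_le
          (fun w hw => mem_centralizer_singleton_iff.2 (hfb w hw).symm.eq)
          (fun w hw => mem_centralizer_singleton_iff.2 (hfc w hw).symm.eq)
        exact (mem_centralizer_singleton_iff.1 (this hw)).symm
    obtain ⟨u, hu, w, hw, huw⟩ := Coprime.exists_mul_of_mem_sup
      ((coreOf_le b H).trans (le_normalizer_coreOf c H)) hfF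
    have hwk : w * k ∈ Q := Q.mul_mem (mem_sup_right hw) hk
    have hconj : g * k * g⁻¹ = u * (w * k) := by rw [← mul_assoc, ← huw, hf]; group
    have hu1 : u = 1 := by
      have hcm : Commute u (w * k) := (hbcc hu hw).mul_right (hQb k hk u hu).symm
      have hpowQ : ∀ s ∈ Q, s ^ c ^ N = 1 := fun s hs => orderOf_dvd_iff_pow_eq_one.1
        (hN ▸ orderOf_dvd_natCard _ hs)
      have h1 : (g * k * g⁻¹) ^ c ^ N = 1 := by rw [conj_pow, hpowQ k hk]; group
      rw [hconj, hcm.mul_pow, hpowQ _ hwk, mul_one] at h1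
      by_contra hne
      exact hbc (eq_of_dvd_orderOf (hp b hb) (hp c hc) (dvd_orderOf_of_mem hCb hu hne)
        (orderOf_dvd_of_pow_eq_one h1))
    rw [huw, hu1, one_mul]
    exact hw
  have hlQ : zpowers l ≤ normalizer (Q : Set G) := by
    refine le_normalizer_iff.2 fun g hg k hk => ?_
    have hgb : ∀ w ∈ coreOf b H, Commute g w := fun w hw => by
      obtain ⟨i, rfl⟩ := mem_zpowers_iff.1 hg
      exact (hlb w hw).zpow_left i
    have := hstep g (zpowers_le.2 hlH hg) hgb k hk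
    rw [show g * k * g⁻¹ = g * k * g⁻¹ * k⁻¹ * k by group]
    exact Q.mul_mem (mem_sup_right this) hk
  have hcop : (Nat.card (zpowers l)).Coprime (Nat.card Q) := by
    rw [Nat.card_zpowers, hlo, hN]
    exact ((Nat.coprime_primes (hp d hd) (hp c hc)).2 hdc).pow_right N
  have hcom : ⁅Q, zpowers l⁆ ≤ coreOf c H := by
    refine commutator_le.2 fun k hk g hg => ?_
    have hgb : ∀ w ∈ coreOf b H, Commute g w := fun w hw => by
      obtain ⟨i, rfl⟩ := mem_zpowers_iff.1 hg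
      exact (hlb w hw).zpow_left i
    have := inv_mem (hstep g (zpowers_le.2 hlH hg) hgb k hk)
    rw [commutatorElement_def]
    rwa [mul_inv_rev, mul_inv_rev, mul_inv_rev, inv_inv, inv_inv, ← mul_assoc, ← mul_assoc] at this
  by_cases hfix : Q ⊓ centralizer (zpowers l : Set G) = ⊥
  · have hle : Q ≤ coreOf c H := by
      have h' := Coprime.commutator_sup_centralizer (zpowers l) Q hlQ hcop
        (Or.inl (Group.isSolvable_of_comm fun a b => mul_comm' a b))
      rw [hfix, sup_bot_eq] at h'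
      exact h'.ge.trans hcom
    exact h.not_square_core hc hca (HasSquare.mono ⟨x, subset_closure (by simp), y,
      subset_closure (by simp), hox, hoy, hxy, hn⟩ (le_sup_left.trans hle))
  · obtain ⟨w, hw, hw1⟩ := (Subgroup.bot_or_exists_ne_one _).resolve_left hfix
    exact h.noTriple.false_of_commute hp hc hd hb hdc.symm hbc.symm hdb (dvd_orderOf_of_mem hQp hw.1 hw1)
      hlo.symm.dvd hzbo.symm.dvd (mem_centralizer_iff.1 hw.2 l (mem_zpowers l)).symm
      (hQb w hw.1 zb hzb) hlz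

/-- The faithful case is impossible. -/
theorem false (h : OneMod ρ a H V) : False := by
  have hp := h.prime
  haveI := h.solvable
  obtain ⟨a', ha', hne'⟩ : ∃ b ∈ ρ, b ≠ a := by
    obtain ⟨b, hb, hne⟩ := Finset.exists_mem_ne (s := ρ) (by rw [h.card]; norm_num) a
    exact ⟨b, hb, hne⟩
  have hH1 : H ≠ ⊥ := by
    obtain ⟨x, hx, y, hy, -, -, -, hn⟩ := h.square a' ha' hne'
    intro e
    rw [e, mem_bot] at hy
    exact hn (hy ▸ one_mem _)
  haveI : Nontrivial H := H.nontrivial_iff_ne_bot.2 hH1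
  obtain ⟨b, hbp, hbd, hbne⟩ := Fitting.exists_pCore_ne_bot (G := H)
  obtain ⟨hb, hba⟩ := h.supp b hbp hbd
  have hbne' : coreOf b H ≠ ⊥ := by
    rw [Ne, coreOf, map_eq_bot_iff_of_injective _ H.subtype_injective]; exact hbne
  by_cases htwo : ∃ c ∈ ρ, c ≠ a ∧ c ≠ b ∧ coreOf c H ≠ ⊥
  · obtain ⟨c, hc, hca, hcb, hcne⟩ := htwo
    by_cases hdiv : c ∣ b - 1
    · refine h.two_cores_false hc hb hca hba hcb hcne hbne' fun hd => ?_
      have h1 := Nat.le_of_dvd (Nat.sub_pos_of_lt (hp b hb).one_lt) hdiv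
      have h2 := Nat.le_of_dvd (Nat.sub_pos_of_lt (hp c hc).one_lt) hd
      omega
    · exact h.two_cores_false hb hc hba hca hcb.symm hbne' hcne hdiv
  push Not at htwo
  obtain ⟨c, d, hpr⟩ := exists_others h.card h.ha hb hba
  haveI := Fact.mk hbp
  haveI := Fact.mk (hp c hpr.hc)
  obtain ⟨hb2, z, hz, hzo, hzn, hzc, hcyc⟩ := h.core_data hb hba hbne'
  obtain ⟨x, hx, y, hy, hox, hoy, hxy, hn⟩ := h.square c hpr.hc hpr.hca
  obtain ⟨e, he, heo, hez⟩ := exists_square_commute hox hoy hxy hn hzo (hzn x hx) (hzn y hy)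
  have heH : e ∈ H := (closure_le _).2 (by rintro w (rfl | rfl); exacts [hx, hy]) he
  have hbe : ¬ b ∣ orderOf e := heo ▸ fun hd =>
    hpr.hbc ((Nat.prime_dvd_prime_iff_eq (hp b hb) (hp c hpr.hc)).1 hd)
  have hall : ∀ w ∈ coreOf b H, Commute e w := by
    rcases hzc e heH with h1 | h1 | h1
    exacts [h1, absurd hez h1, absurd h1 hbe]
  have hmem := mem_of_centralises_cores h.solvable (K := coreOf b H) (fun p hp' hdvd => by
      obtain ⟨hpρ, hpa⟩ := h.supp p hp' hdvd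
      rcases eq_or_ne p b with rfl | hpb
      · exact le_rfl
      · rw [htwo p hpρ hpa hpb]; exact bot_le) heH hall
  have he1 : e ≠ 1 := fun e1 => by rw [e1, orderOf_one] at heo; exact (hp c hpr.hc).one_lt.ne heo
  exact hbe (dvd_orderOf_of_mem (coreOf_isPGroup b H) hmem he1)

end OneMod

/-- Every Sylow subgroup contains a square. -/
theorem hasSquare_of_four [Group.IsSolvable G] {ρ : Finset ℕ} (hρ : ∀ p ∈ ρ, p.Prime) (hcard : ρ.card = 4)
    (hT : NoTriple ρ G) (hE : ∀ p ∈ ρ, ∀ q ∈ ρ, p ≠ q → ∃ g : G, orderOf g = p * q) {d : ℕ} (hd : d ∈ ρ) :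
    HasSquare d (⊤ : Subgroup G) := by
  haveI := Fact.mk (hρ d hd)
  by_contra hns
  obtain ⟨P⟩ : Nonempty (Sylow d G) := inferInstance
  obtain ⟨e₁, he₁, hne₁⟩ := Finset.exists_mem_ne (s := ρ) (by rw [hcard]; norm_num) d
  obtain ⟨g₁, hg₁⟩ := hE d hd e₁ he₁ hne₁.symm
  have hP1 : (P : Subgroup G) ≠ ⊥ := P.ne_bot_of_dvd_card
    ((hg₁ ▸ dvd_mul_right d e₁).trans (orderOf_dvd_natCard g₁))
  obtain ⟨z, hz, hzo, hzc⟩ := exists_central P.isPGroup' hP1
  have hcent : ∀ p ∈ ρ, p ≠ d → p ∣ Nat.card (centralizer ({z} : Set G)) := by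
    intro p hp hpd
    obtain ⟨g, hg⟩ := hE d hd p hp hpd.symm
    have hox : orderOf (g ^ p) = d := by
      rw [orderOf_pow_of_dvd (hρ p hp).ne_zero (hg ▸ dvd_mul_left p d), hg, Nat.mul_div_cancel _ (hρ p hp).pos]
    obtain ⟨Q, hQ⟩ := (IsPGroup.of_card (p := d) (n := 1) (G := zpowers (g ^ p))
      (by rw [Nat.card_zpowers, hox, pow_one])).exists_le_sylow
    obtain ⟨k, hk⟩ := MulAction.exists_smul_eq G Q P
    have hxP : k * g ^ p * k⁻¹ ∈ (P : Subgroup G) := by
      rw [← hk, Sylow.coe_subgroup_smul]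
      exact smul_mem_pointwise_smul _ _ _ (hQ (mem_zpowers _))
    have hxo : orderOf (k * g ^ p * k⁻¹) = d := by rw [← hox]; exact MulEquiv.orderOf_eq (MulAut.conj k) _
    obtain ⟨i, hi⟩ := mem_zpowers_iff.1 (mem_zpowers_of_not_square hns (mem_top _) (mem_top _) hxo hzo
      (hzc _ hxP).symm)
    have hoy : orderOf (k * g ^ d * k⁻¹) = p := by
      rw [← MulAut.conj_apply, MulEquiv.orderOf_eq, orderOf_pow_of_dvd (hρ d hd).ne_zero (hg ▸ dvd_mul_right d p),
        hg, Nat.mul_div_cancel_left _ (hρ d hd).pos]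
    have hyc : k * g ^ d * k⁻¹ ∈ centralizer ({z} : Set G) := by
      rw [mem_centralizer_singleton_iff, ← hi]
      exact ((((Commute.refl g).pow_pow d p).map (MulAut.conj k)).zpow_right i).eq
    exact hoy ▸ orderOf_dvd_natCard _ hyc
  have h3 : (ρ.erase d).card = 3 := by rw [Finset.card_erase_of_mem hd, hcard]
  obtain ⟨p, q, r, hpq, hpr, hqr, hs⟩ := Finset.card_eq_three.1 h3
  have hmem : ∀ {s : ℕ}, s ∈ ({p, q, r} : Finset ℕ) → s ∈ ρ ∧ s ≠ d := fun {s} hs' =>
    (Finset.mem_erase.1 (hs ▸ hs')).symm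
  obtain ⟨hp, hpd⟩ := hmem (by simp : p ∈ ({p, q, r} : Finset ℕ))
  obtain ⟨hq, hqd⟩ := hmem (by simp : q ∈ ({p, q, r} : Finset ℕ))
  obtain ⟨hr, hrd⟩ := hmem (by simp : r ∈ ({p, q, r} : Finset ℕ))
  obtain ⟨a, ha, b, hb, hab, g, hg⟩ := Spectrum.exists_orderOf_mul_of_solvable_three
    (G := centralizer ({z} : Set G)) inferInstance (hρ p hp) (hρ q hq) (hρ r hr) hpq hpr hqr
    (hcent p hp hpd) (hcent q hq hqd) (hcent r hr hrd)
  obtain ⟨ha, had⟩ := hmem ha
  obtain ⟨hb, hbd⟩ := hmem hb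
  have hgo : orderOf (g : G) = a * b := by rw [Subgroup.orderOf_coe, hg]
  exact hT.false_of_commute hρ ha hb hd hab had hbd (hgo ▸ dvd_mul_right a b) (hgo ▸ dvd_mul_left b a)
    hzo.symm.dvd (Commute.refl _) (mem_centralizer_singleton_iff.1 g.2) (mem_centralizer_singleton_iff.1 g.2)

theorem false_of_supported [Group.IsSolvable G] {ρ : Finset ℕ} (hρ : ∀ p ∈ ρ, p.Prime) (hcard : ρ.card = 4)
    (hsupp : ∀ p : ℕ, p.Prime → p ∣ Nat.card G → p ∈ ρ) (hT : NoTriple ρ G)
    (hE : ∀ p ∈ ρ, ∀ q ∈ ρ, p ≠ q → ∃ g : G, orderOf g = p * q) : False := by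
  have hsq : ∀ d ∈ ρ, HasSquare d (⊤ : Subgroup G) := fun d hd => hasSquare_of_four hρ hcard hT hE hd
  haveI : Nontrivial G := by
    obtain ⟨d, hd⟩ := Finset.card_pos.1 (by omega : 0 < ρ.card)
    obtain ⟨x, -, -, -, hox, -⟩ := hsq d hd
    exact ⟨x, 1, fun e => by rw [e, orderOf_one] at hox; exact (hρ d hd).one_lt.ne hox⟩
  obtain ⟨a, hap, had, hane⟩ := Fitting.exists_pCore_ne_bot (G := G)
  haveI := Fact.mk hap
  have ha := hsupp a hap had
  by_cases htwo : ∃ b ∈ ρ, b ≠ a ∧ Cfsg.pCore b G ≠ ⊥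
  · obtain ⟨b, hb, hba, hbne⟩ := htwo
    haveI := Fact.mk (hρ b hb)
    obtain ⟨c, d, hpr⟩ := exists_others hcard ha hb hba
    obtain ⟨M, -, hMsupp, hM⟩ := exists_hall (H := (⊤ : Subgroup G)) inferInstance {c, d}
    have hn : ∀ p : ℕ, M ≤ normalizer (omegaCenter p (Cfsg.pCore p G) : Set G) := fun p => by
      haveI := Fitting.pCore_normal (G := G) p
      exact le_trans (by rw [normalizer_eq_top]; exact le_top) (normalizer_le_omegaCenter p _)
    exact TwoMod.false (ρ := ρ) (a := a) (b := b) (c := c) (d := d) (M := M)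
      (V := omegaCenter a (Cfsg.pCore a G)) (R := omegaCenter b (Cfsg.pCore b G))
      ⟨hρ, hT, ha, hb, hpr.hc, hpr.hd, hba.symm, hpr.hca.symm, hpr.hda.symm, hpr.hbc, hpr.hbd, hpr.hcd,
        inferInstance, hMsupp, square_into_hall (hρ c hpr.hc) (by simp) hM (hsq c hpr.hc),
        square_into_hall (hρ d hpr.hd) (by simp) hM (hsq d hpr.hd),
        (Fitting.pCore_isPGroup a).to_le (omegaCenter_le _ _), (Fitting.pCore_isPGroup b).to_le (omegaCenter_le _ _),
        omegaCenter_comm _ _, omegaCenter_comm _ _, omegaCenter_ne_bot (Fitting.pCore_isPGroup a) hane,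
        omegaCenter_ne_bot (Fitting.pCore_isPGroup b) hbne, hn a, hn b,
        fun v hv r hr => Fitting.commute_pCore_of_ne hap (hρ b hb) hba.symm hv.1 hr.1⟩
  push Not at htwo
  set A := Cfsg.pCore a G with hA
  haveI hAn : A.Normal := Fitting.pCore_normal a
  have hAp : IsPGroup a A := Fitting.pCore_isPGroup a
  set Φ := (frattini A).map A.subtype with hΦ
  have hΦA : Φ ≤ A := map_subtype_le _
  haveI : Φ.Normal := ConjAct.normal_of_characteristic_of_normal
  set f := QuotientGroup.mk' Φ with hf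
  obtain ⟨H, hHsupp, hH⟩ : ∃ H : Subgroup G, (∀ p : ℕ, p.Prime → p ∣ Nat.card H → p ∈ {p | p ∈ ρ ∧ p ≠ a}) ∧
      ∀ U : Subgroup G, U ≤ ⊤ → (∀ p : ℕ, p.Prime → p ∣ Nat.card U → p ∈ {p | p ∈ ρ ∧ p ≠ a}) →
        ∃ h ∈ (⊤ : Subgroup G), ∀ u ∈ U, h * u * h⁻¹ ∈ H := by
    obtain ⟨H, -, h1, h2⟩ := exists_hall (H := (⊤ : Subgroup G)) inferInstance {p | p ∈ ρ ∧ p ≠ a}
    exact ⟨H, h1, h2⟩
  have hcop : (Nat.card H).Coprime (Nat.card A) := by
    obtain ⟨k, hk⟩ := hAp.exists_card_eq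
    rw [hk]
    refine (hap.coprime_iff_not_dvd.2 fun hd => (hHsupp a hap hd).2 rfl).symm.pow_right k
  have hHA : H ⊓ A = ⊥ := (disjoint_of_coprime_natCard hcop).eq_bot
  have hinj : Set.InjOn f H := by
    intro x hx y hy hxy
    have : x⁻¹ * y ∈ H ⊓ A := ⟨H.mul_mem (H.inv_mem hx) hy, hΦA ((QuotientGroup.eq).1 hxy)⟩
    rw [hHA, mem_bot] at this
    exact inv_mul_eq_one.1 this
  have hord : ∀ g ∈ H, orderOf (f g) = orderOf g := fun g hg => by
    have hg' : Function.Injective (f.comp H.subtype) := fun u v huv => Subtype.ext (hinj u.2 v.2 huv)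
    rw [show f g = (f.comp H.subtype) ⟨g, hg⟩ from rfl, orderOf_injective _ hg', ← Subgroup.orderOf_coe]
  refine OneMod.false (ρ := ρ) (a := a) (H := H.map f) (V := A.map f)
    ⟨hρ, hcard, ?_, ha, inferInstance, fun p hp hd => hHsupp p hp (hd.trans (H.card_map_dvd f)), ?_, ?_,
      hAp.map f, ?_, ?_, ?_⟩
  · intro g p hp q hq r hr h1 h2 h3 hd
    obtain ⟨x, rfl⟩ := QuotientGroup.mk'_surjective Φ g
    exact hT x p hp q hq r hr h1 h2 h3 (hd.trans (orderOf_map_dvd f x))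
  · intro p hp hpa
    exact (square_into_hall (hρ p hp) (show p ∈ {p | p ∈ ρ ∧ p ≠ a} from ⟨hp, hpa⟩) hH (hsq p hp)).map f hinj
  · intro p hp q hq hpa hqa hpq
    obtain ⟨g, hg⟩ := hE p hp q hq hpq
    obtain ⟨k, -, hk⟩ := hH (zpowers g) le_top (fun s hs hd => by
      rw [Nat.card_zpowers, hg] at hd
      rcases hs.dvd_mul.1 hd with h1 | h1
      · rw [(Nat.prime_dvd_prime_iff_eq hs (hρ p hp)).1 h1]; exact ⟨hp, hpa⟩
      · rw [(Nat.prime_dvd_prime_iff_eq hs (hρ q hq)).1 h1]; exact ⟨hq, hqa⟩)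
    exact ⟨f (k * g * k⁻¹), ⟨_, hk g (mem_zpowers g), rfl⟩, by
      rw [hord _ (hk g (mem_zpowers g)), ← hg]; exact MulEquiv.orderOf_eq (MulAut.conj k) g⟩
  · rintro _ ⟨x, hx, rfl⟩ _ ⟨y, hy, rfl⟩
    rw [← map_mul, ← map_mul, QuotientGroup.mk'_apply, QuotientGroup.mk'_apply, QuotientGroup.eq]
    exact ⟨((⟨x, hx⟩ : A) * ⟨y, hy⟩)⁻¹ * (⟨y, hy⟩ * ⟨x, hx⟩),
      PGroup.commutator_le_frattini hAp (by
        rw [show ((⟨x, hx⟩ : A) * ⟨y, hy⟩)⁻¹ * (⟨y, hy⟩ * ⟨x, hx⟩) = ⁅(⟨y, hy⟩ : A)⁻¹, (⟨x, hx⟩ : A)⁻¹⁆ by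
          apply Subtype.ext
          simp [commutatorElement_def, mul_assoc]]
        exact commutator_mem_commutator (mem_top _) (mem_top _)), rfl⟩
  · haveI : (A.map f).Normal := hAn.map f (QuotientGroup.mk'_surjective Φ)
    rw [normalizer_eq_top]; exact le_top
  · rw [eq_bot_iff]
    rintro _ ⟨⟨h, hh, rfl⟩, hcen⟩
    have hle : zpowers h ≤ centralizer (A : Set G) := by
      refine Coprime.le_centralizer_of_trivial_on_frattini _ A (by rw [normalizer_eq_top]; exact le_top) ?_ ?_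
      · exact (hcop.coprime_dvd_left (card_dvd_of_le (zpowers_le.2 hh))).coprime_dvd_right
          (Subgroup.card_subgroup_dvd_card _)
      · intro g hg k hk
        obtain ⟨i, rfl⟩ := mem_zpowers_iff.1 hg
        have hc : Commute (f (h ^ i)) (f k) := by
          rw [map_zpow]
          exact (show Commute (f h) (f k) from
            (mem_centralizer_iff.1 hcen (f k) ⟨k, hk, rfl⟩).symm).zpow_left i
        rw [← commutatorElement_def]
        refine (QuotientGroup.eq_one_iff (N := Φ) _).1 ?_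
        show f ⁅h ^ i, k⁆ = 1
        rw [map_commutatorElement]
        exact commutatorElement_eq_one_iff_mul_comm.2 hc.eq
    have hmem : h ∈ A := by
      refine (Fitting.centralizer_fitting_le (G := G)).trans ?_ (?_ : h ∈ centralizer (Cfsg.fittingSubgroup G : Set G))
      · rw [Fitting.fitting_eq_iSup_pCore]
        refine iSup_le fun p => ?_
        rcases eq_or_ne (p : ℕ) a with e | e
        · rw [e]
        · have hpp := Nat.prime_of_mem_primeFactors p.2
          rw [htwo p (hsupp p hpp (Nat.dvd_of_mem_primeFactors p.2)) e]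
          exact bot_le
      · have : Cfsg.fittingSubgroup G ≤ centralizer ({h} : Set G) := by
          rw [Fitting.fitting_eq_iSup_pCore]
          refine iSup_le fun p => ?_
          rcases eq_or_ne (p : ℕ) a with e | e
          · rw [e]
            exact fun k hk => mem_centralizer_singleton_iff.2
              (mem_centralizer_iff.1 (hle (mem_zpowers h)) k hk)
          · have hpp := Nat.prime_of_mem_primeFactors p.2
            rw [htwo p (hsupp p hpp (Nat.dvd_of_mem_primeFactors p.2)) e]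
            exact bot_le
        exact mem_centralizer_iff.2 fun k hk => mem_centralizer_singleton_iff.1 (this hk)
    have h1 : h = 1 := mem_bot.1 (hHA.le (mem_inf.2 ⟨hh, hmem⟩))
    rw [h1, map_one]
    exact one_mem _

/-- **The criterion**: four primes whose pairwise products, but no triple products, occur in
element orders force non-solvability. -/
theorem not_isSolvable_of_four {ρ : Finset ℕ} (hρ : ∀ p ∈ ρ, p.Prime) (hcard : ρ.card = 4)
    (hT : NoTriple ρ G) (hE : ∀ p ∈ ρ, ∀ q ∈ ρ, p ≠ q → ∃ g : G, orderOf g = p * q) :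
    ¬ Group.IsSolvable G := by
  intro hs
  haveI := hs
  obtain ⟨K, -, hKsupp, hK⟩ := exists_hall (H := (⊤ : Subgroup G)) inferInstance {p | p ∈ ρ}
  refine false_of_supported (G := K) hρ hcard hKsupp ?_ fun p hp q hq hpq => ?_
  · intro g p hp q hq r hr h1 h2 h3 hd
    exact hT g p hp q hq r hr h1 h2 h3 (by rwa [Subgroup.orderOf_coe])
  · obtain ⟨g, hg⟩ := hE p hp q hq hpq
    obtain ⟨k, -, hk⟩ := hK (zpowers g) le_top (fun s hs hd => by
      rw [Nat.card_zpowers, hg] at hd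
      rcases hs.dvd_mul.1 hd with h1 | h1
      · rw [(Nat.prime_dvd_prime_iff_eq hs (hρ p hp)).1 h1]; exact hp
      · rw [(Nat.prime_dvd_prime_iff_eq hs (hρ q hq)).1 h1]; exact hq)
    refine ⟨⟨_, hk g (mem_zpowers g)⟩, ?_⟩
    rw [← Subgroup.orderOf_coe, ← hg]
    exact MulEquiv.orderOf_eq (MulAut.conj k) g

end CfsgLib.SzSquare
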