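import Cfsg.Agent.Lib.SzSquare.SquareTools
import Cfsg.Agent.Lib.Components.Balance
import Cfsg.Agent.Lib.Hall.Pi
import Cfsg.Agent.Lib.OddOrder41.FixOmega
import Cfsg.Agent.Lib.ConstStab.Basic
import Mathlib.GroupTheory.FixedPointFree

/-!
A group of three primes acting faithfully on a module for a fourth prime: the main case, where some
core contains a square.
-/

set_option autoImplicit false
set_option linter.style.haveILetI false

namespace CfsgLib.SzSquare

open Subgroup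
open scoped commutatorElement

universe u

variable {G : Type u} [Group G] [Finite G]

/-- An involution without fixed points on a group makes it abelian. -/
theorem comm_of_involution_fpf {R : Subgroup G} {l : G} (hl : orderOf l = 2)
    (hlR : l ∈ normalizer (R : Set G)) (hfix : ∀ r ∈ R, Commute l r → r = 1) :
    ∀ x ∈ R, ∀ y ∈ R, x * y = y * x := by
  let φ : R →* R := (R.normalizerMonoidHom ⟨l, hlR⟩).toMonoidHom
  have hφ : ∀ r : R, ((φ r : R) : G) = l * r * l⁻¹ := fun r => rfl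
  have hl2 : l * l = 1 := by rw [← pow_two, ← hl, pow_orderOf_eq_one]
  have h1 : MonoidHom.FixedPointFree (φ : R → R) := fun r hr => by
    refine Subtype.ext (hfix r r.2 ?_)
    have := congrArg Subtype.val hr
    rw [hφ] at this
    exact mul_inv_eq_iff_eq_mul.1 this
  have h2 : Function.Involutive (φ : R → R) := fun r => Subtype.ext (by
    rw [hφ, hφ, show l * (l * r * l⁻¹) * l⁻¹ = l * l * r * (l * l)⁻¹ by group, hl2]; group)
  exact fun x hx y hy => congrArg Subtype.val (MonoidHom.FixedPointFree.commute_all_of_involutive h1 h2 (⟨x, hx⟩ : R) ⟨y, hy⟩)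

/-- The data: `H` a solvable group for the primes of `ρ` other than `a`, faithful on `V`. -/
structure OneMod (ρ : Finset ℕ) (a : ℕ) (H V : Subgroup G) : Prop where
  prime : ∀ p ∈ ρ, p.Prime
  card : ρ.card = 4
  noTriple : NoTriple ρ G
  ha : a ∈ ρ
  solvable : Group.IsSolvable H
  supp : ∀ p : ℕ, p.Prime → p ∣ Nat.card H → p ∈ ρ ∧ p ≠ a
  square : ∀ p ∈ ρ, p ≠ a → HasSquare p H
  edge : ∀ p ∈ ρ, ∀ q ∈ ρ, p ≠ a → q ≠ a → p ≠ q → ∃ g ∈ H, orderOf g = p * q
  pV : IsPGroup a V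
  Vc : ∀ x ∈ V, ∀ y ∈ V, x * y = y * x
  HV : H ≤ normalizer (V : Set G)
  faithful : H ⊓ centralizer (V : Set G) = ⊥

/-- The three primes other than `a`. -/
structure Primes (ρ : Finset ℕ) (a b c d : ℕ) : Prop where
  hb : b ∈ ρ
  hc : c ∈ ρ
  hd : d ∈ ρ
  hba : b ≠ a
  hca : c ≠ a
  hda : d ≠ a
  hbc : b ≠ c
  hbd : b ≠ d
  hcd : c ≠ d
  all : ∀ p ∈ ρ, p = a ∨ p = b ∨ p = c ∨ p = d

theorem Primes.swap {ρ : Finset ℕ} {a b c d : ℕ} (h : Primes ρ a b c d) : Primes ρ a b d c :=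
  ⟨h.hb, h.hd, h.hc, h.hba, h.hda, h.hca, h.hbd, h.hbc, h.hcd.symm,
    fun p hp => by have := h.all p hp; tauto⟩

/-- A square on a normal `b`-subgroup. -/
structure CoreData (ρ : Finset ℕ) (a b c d : ℕ) (H V R M : Subgroup G) : Prop where
  one : OneMod ρ a H V
  pr : Primes ρ a b c d
  MH : M ≤ H
  supp : ∀ p : ℕ, p.Prime → p ∣ Nat.card M → p = c ∨ p = d
  sqc : HasSquare c M
  sqd : HasSquare d M
  pair : ∃ γ ∈ M, ∃ δ ∈ M, orderOf γ = c ∧ orderOf δ = d ∧ Commute γ δ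
  RH : R ≤ H
  HR : H ≤ normalizer (R : Set G)
  pR : IsPGroup b R
  sqR : HasSquare b R
  Rodd : b ≠ 2 ∨ IsMulCommutative R

namespace CoreData

variable {ρ : Finset ℕ} {a b c d : ℕ} {H V R M : Subgroup G}

omit [Finite G] in
theorem swapPrime (h : CoreData ρ a b c d H V R M) : CoreData ρ a b d c H V R M :=
  ⟨h.one, h.pr.swap, h.MH, fun p hp hd => (h.supp p hp hd).symm, h.sqd, h.sqc,
    by obtain ⟨γ, hγ, δ, hδ, h1, h2, h3⟩ := h.pair; exact ⟨δ, hδ, γ, hγ, h2, h1, h3.symm⟩,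
    h.RH, h.HR, h.pR, h.sqR, h.Rodd⟩

omit [Finite G] in
theorem Rne (h : CoreData ρ a b c d H V R M) : R ≠ ⊥ := by
  obtain ⟨x, hx, y, hy, -, -, -, hn⟩ := h.sqR
  intro hb
  rw [hb, mem_bot] at hy
  exact hn (hy ▸ one_mem _)

theorem not_dvd (h : CoreData ρ a b c d H V R M) : ¬ c ∣ Nat.card R ∧ ¬ c ∣ Nat.card V := by
  have hp := h.one.prime
  haveI := Fact.mk (hp b h.pr.hb)
  haveI := Fact.mk (hp a h.one.ha)
  obtain ⟨i, hi⟩ := h.pR.exists_card_eq
  obtain ⟨j, hj⟩ := h.one.pV.exists_card_eq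
  exact ⟨fun hd => h.pr.hbc ((Nat.prime_dvd_prime_iff_eq (hp c h.pr.hc) (hp b h.pr.hb)).1
      ((hp c h.pr.hc).dvd_of_dvd_pow (hi ▸ hd))).symm,
    fun hd => h.pr.hca ((Nat.prime_dvd_prime_iff_eq (hp c h.pr.hc) (hp a h.one.ha)).1
      ((hp c h.pr.hc).dvd_of_dvd_pow (hj ▸ hd)))⟩

/-- No element of order `c` commutes with nontrivial commuting elements of `R` and `V`. -/
theorem fix_false (h : CoreData ρ a b c d H V R M) {e r v : G} (he : orderOf e = c) (hr : r ∈ R)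
    (hr1 : r ≠ 1) (hv : v ∈ V) (hv1 : v ≠ 1) (her : Commute e r) (hev : Commute e v)
    (hrv : Commute r v) : False := by
  haveI := Fact.mk (h.one.prime b h.pr.hb)
  haveI := Fact.mk (h.one.prime a h.one.ha)
  exact h.one.noTriple.false_of_commute h.one.prime h.pr.hc h.pr.hb h.one.ha h.pr.hbc.symm h.pr.hca
    h.pr.hba he.symm.dvd (dvd_orderOf_of_mem h.pR hr hr1) (dvd_orderOf_of_mem h.one.pV hv hv1) her hev hrv

/-- No pair of orders `c`, `d` has a common fixed point in `R` or in `V`. -/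
theorem pair_fpf (h : CoreData ρ a b c d H V R M) {γ δ : G} (hγ : orderOf γ = c) (hδ : orderOf δ = d)
    (hc : Commute γ δ) :
    (∀ r ∈ R, Commute γ r → Commute δ r → r = 1) ∧ (∀ v ∈ V, Commute γ v → Commute δ v → v = 1) := by
  haveI := Fact.mk (h.one.prime b h.pr.hb)
  haveI := Fact.mk (h.one.prime a h.one.ha)
  exact ⟨fun r hr h1 h2 => by_contra fun hr1 => h.one.noTriple.false_of_commute h.one.prime h.pr.hc
      h.pr.hd h.pr.hb h.pr.hcd h.pr.hbc.symm h.pr.hbd.symm hγ.symm.dvd hδ.symm.dvd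
      (dvd_orderOf_of_mem h.pR hr hr1) hc h1 h2,
    fun v hv h1 h2 => by_contra fun hv1 => h.one.noTriple.false_of_commute h.one.prime h.pr.hc
      h.pr.hd h.one.ha h.pr.hcd h.pr.hca h.pr.hda hγ.symm.dvd hδ.symm.dvd
      (dvd_orderOf_of_mem h.one.pV hv hv1) hc h1 h2⟩

/-- An element of order `c` without fixed points on `V` centralises `R`. -/
theorem cent_of_fpf_V (h : CoreData ρ a b c d H V R M) {γ : G} (hγH : γ ∈ H) (hγ : orderOf γ = c)
    (hfix : ∀ v ∈ V, Commute γ v → v = 1) : γ ∈ centralizer (R : Set G) := by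
  haveI := Fact.mk (h.one.prime a h.one.ha)
  haveI := Fact.mk (h.one.prime b h.pr.hb)
  haveI := Fact.mk (h.one.prime c h.pr.hc)
  have hle := commutator_le_centralizer h.pr.hba h.pr.hbc.symm h.pr.hca R V γ hγ h.pR h.one.pV h.one.Vc
    (h.HR hγH) (h.RH.trans h.one.HV) (h.one.HV hγH) hfix h.Rodd
  have hbot : ⁅R, zpowers γ⁆ = ⊥ := le_bot_iff.1 (h.one.faithful ▸
    le_inf ((Coprime.commutator_le_of_normalizes (zpowers_le.2 (h.HR hγH))).trans h.RH) hle)
  refine mem_centralizer_iff.2 fun r hr => ?_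
  exact (mem_centralizer_iff.1 (commutator_eq_bot_iff_le_centralizer.1 hbot hr) γ (mem_zpowers γ)).symm

/-- One member of each pair of orders `c`, `d` centralises `R`. -/
theorem mem_cent (h : CoreData ρ a b c d H V R M) {γ δ : G} (hγH : γ ∈ H) (hδH : δ ∈ H)
    (hγ : orderOf γ = c) (hδ : orderOf δ = d) (hc : Commute γ δ) :
    γ ∈ centralizer (R : Set G) ∨ δ ∈ centralizer (R : Set G) := by
  by_cases hγV : ∀ v ∈ V, Commute γ v → v = 1
  · exact Or.inl (h.cent_of_fpf_V hγH hγ hγV)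
  by_cases hδV : ∀ v ∈ V, Commute δ v → v = 1
  · exact Or.inr (h.swapPrime.cent_of_fpf_V hδH hδ hδV)
  exfalso
  push Not at hγV hδV
  have hp := h.one.prime
  haveI := Fact.mk (hp a h.one.ha)
  haveI := Fact.mk (hp b h.pr.hb)
  haveI := Fact.mk (hp c h.pr.hc)
  haveI := Fact.mk (hp d h.pr.hd)
  obtain ⟨hfR, hfV⟩ := h.pair_fpf hγ hδ hc
  have hcop : ∀ {K W : Subgroup G}, K ≤ R → W ≤ V → (Nat.card K).Coprime (Nat.card W) := by
    intro K W hK hW
    obtain ⟨i, hi⟩ := (h.pR.to_le hK).exists_card_eq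
    obtain ⟨j, hj⟩ := (h.one.pV.to_le hW).exists_card_eq
    rw [hi, hj]
    exact Nat.Coprime.pow i j ((Nat.coprime_primes (hp b h.pr.hb) (hp a h.one.ha)).2 h.pr.hba)
  have hRV : ∀ {r : G}, r ∈ R → r ∈ normalizer (V : Set G) := fun hr => h.one.HV (h.RH hr)
  -- an element centralising `δ` normalises its fixed points
  have hcentn : ∀ {W : Subgroup G} {g t : G}, g ∈ normalizer (W : Set G) → Commute g t →
      g ∈ normalizer ((W ⊓ centralizer ({t} : Set G) : Subgroup G) : Set G) := by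
    intro W g t hgW hgt
    rw [mem_normalizer_iff_map_conj_eq, map_inf _ _ _ (MulAut.conj g).injective,
      mem_normalizer_iff_map_conj_eq.1 hgW]
    congr 1
    refine mem_normalizer_iff_map_conj_eq.1 ?_
    refine le_normalizer (mem_centralizer_singleton_iff.2 hgt.eq)
  -- a part with a fixed point in `V` has none in `R`
  have hpart : ∀ (t s : G), orderOf s ≠ 0 → (∀ x ∈ R, Commute s x → Commute t x → x = 1) →
      (∀ v ∈ V, Commute s v → Commute t v → v = 1) → Commute s t → (orderOf s).Prime →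
      s ∈ H → t ∈ H → (∃ v ∈ V, Commute t v ∧ v ≠ 1) → (orderOf t).Prime → orderOf t ∈ ρ →
      orderOf t ≠ a → orderOf t ≠ b → ∀ r ∈ R, Commute t r → r = 1 := by
    intro t s _ hsR hsV hst hsp hsH htH hV htp htρ hta htb r hr htr
    by_contra hr1
    obtain ⟨v₀, hv₀, htv₀, hv₀1⟩ := hV
    set K := R ⊓ centralizer ({t} : Set G)
    set W := V ⊓ centralizer ({t} : Set G)
    have hW1 : W ≠ ⊥ := fun e => hv₀1 (mem_bot.1 (e ▸ (⟨hv₀, mem_centralizer_singleton_iff.2 htv₀.symm.eq⟩ : v₀ ∈ W)))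
    have hKW : ∀ k ∈ K, k ∈ normalizer (W : Set G) := fun k hk =>
      hcentn (hRV hk.1) (mem_centralizer_singleton_iff.1 hk.2)
    have hno : ∀ k ∈ K, ∀ v ∈ W, Commute k v → k = 1 ∨ v = 1 := by
      intro k hk v hv hkv
      by_contra hne
      push Not at hne
      exact h.one.noTriple.false_of_commute hp htρ h.pr.hb h.one.ha htb hta h.pr.hba dvd_rfl
        (dvd_orderOf_of_mem h.pR hk.1 hne.1) (dvd_orderOf_of_mem h.one.pV hv.1 hne.2)
        (mem_centralizer_singleton_iff.1 hk.2).symm (mem_centralizer_singleton_iff.1 hv.2).symm hkv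
    have hK1 : r ∈ K := ⟨hr, mem_centralizer_singleton_iff.2 htr.symm.eq⟩
    have hWK : W ⊓ centralizer (K : Set G) = ⊥ := eq_bot_iff.2 fun v hv => mem_bot.2
      ((hno r hK1 v hv.1 (mem_centralizer_iff.1 hv.2 r hK1)).resolve_left hr1)
    obtain ⟨v, hv, hv1, hsv⟩ := exists_fixed K W s (orderOf s) hsp.pos
      (fun x hx y hy => h.one.Vc x hx.1 y hy.1) hKW (hcentn (h.one.HV hsH) hst) (hcentn (h.HR hsH) hst)
      (by rw [pow_orderOf_eq_one]; exact one_mem _)
      (fun i hi hit x hx hix => hsR x hx.1 (by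
          obtain ⟨j, hj⟩ := exists_pow_eq_self_of_coprime (x := s) (n := i)
            ((hsp.coprime_iff_not_dvd.2 (Nat.not_dvd_of_pos_of_lt hi hit)).symm)
          exact hj ▸ Commute.pow_left hix j) (mem_centralizer_singleton_iff.1 hx.2).symm)
      hWK hW1 (hcop inf_le_left inf_le_left)
    exact hv1 (hsV v hv.1 hsv (mem_centralizer_singleton_iff.1 hv.2).symm)
  have hγR : ∀ r ∈ R, Commute γ r → r = 1 :=
    hpart γ δ (orderOf_pos δ).ne' (fun x hx h1 h2 => hfR x hx h2 h1) (fun v hv h1 h2 => hfV v hv h2 h1)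
      hc.symm (hδ ▸ hp d h.pr.hd) hδH hγH hγV (hγ ▸ hp c h.pr.hc) (hγ ▸ h.pr.hc) (hγ ▸ h.pr.hca)
      (hγ ▸ h.pr.hbc.symm)
  have hδR : ∀ r ∈ R, Commute δ r → r = 1 :=
    hpart δ γ (orderOf_pos γ).ne' hfR hfV hc (hγ ▸ hp c h.pr.hc) hγH hδH hδV (hδ ▸ hp d h.pr.hd)
      (hδ ▸ h.pr.hd) (hδ ▸ h.pr.hda) (hδ ▸ h.pr.hbd.symm)
  -- `γ δ` has no fixed points at all
  set x := γ * δ with hx
  have hxo : orderOf x = c * d := by
    rw [hx, hc.orderOf_mul_eq_mul_orderOf_of_coprime (by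
      rw [hγ, hδ]; exact (Nat.coprime_primes (hp c h.pr.hc) (hp d h.pr.hd)).2 h.pr.hcd), hγ, hδ]
  have hγc : γ ^ c = 1 := by rw [← hγ, pow_orderOf_eq_one]
  have hδd : δ ^ d = 1 := by rw [← hδ, pow_orderOf_eq_one]
  have hcd' := (Nat.coprime_primes (hp c h.pr.hc) (hp d h.pr.hd)).2 h.pr.hcd
  have hparts : ∀ (i : ℕ), ¬ c ∣ i → ∃ j, (x ^ i) ^ j = γ := by
    intro i hi
    obtain ⟨j, hj⟩ := exists_pow_eq_self_of_coprime (x := γ) (n := i * d) (by
      rw [hγ]
      exact (Nat.Coprime.mul_right ((hp c h.pr.hc).coprime_iff_not_dvd.2 hi) hcd').symm)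
    refine ⟨d * j, ?_⟩
    rw [← pow_mul, ← mul_assoc, hx, hc.mul_pow, pow_mul γ, hj,
      show i * d * j = d * (i * j) by ring, pow_mul δ, hδd, one_pow, mul_one]
  have hparts' : ∀ (i : ℕ), ¬ d ∣ i → ∃ j, (x ^ i) ^ j = δ := by
    intro i hi
    obtain ⟨j, hj⟩ := exists_pow_eq_self_of_coprime (x := δ) (n := i * c) (by
      rw [hδ]
      exact (Nat.Coprime.mul_right ((hp d h.pr.hd).coprime_iff_not_dvd.2 hi) hcd'.symm).symm)
    refine ⟨c * j, ?_⟩
    rw [← pow_mul, ← mul_assoc, hx, hc.mul_pow, pow_mul δ, hj,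
      show i * c * j = c * (i * j) by ring, pow_mul γ, hγc, one_pow, one_mul]
  have hle := le_centralizer_of_no_fixed R V x (c * d) (Nat.mul_pos (hp c h.pr.hc).pos (hp d h.pr.hd).pos)
    h.one.Vc (h.RH.trans h.one.HV) (h.one.HV (mul_mem hγH hδH)) (h.HR (mul_mem hγH hδH))
    (by rw [← hxo, pow_orderOf_eq_one]; exact one_mem _)
    (fun i hi hit r hr hir => by
      have hnd : ¬ c ∣ i ∨ ¬ d ∣ i := by
        by_contra hn
        push Not at hn
        exact Nat.not_dvd_of_pos_of_lt hi hit (hcd'.mul_dvd_of_dvd_of_dvd hn.1 hn.2)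
      rcases hnd with hn | hn
      · obtain ⟨j, hj⟩ := hparts i hn
        exact hγR r hr (hj ▸ Commute.pow_left hir j)
      · obtain ⟨j, hj⟩ := hparts' i hn
        exact hδR r hr (hj ▸ Commute.pow_left hir j))
    (fun v hv hxv => by
      obtain ⟨j, hj⟩ := hparts 1 (Nat.Prime.not_dvd_one (hp c h.pr.hc))
      obtain ⟨j', hj'⟩ := hparts' 1 (Nat.Prime.not_dvd_one (hp d h.pr.hd))
      rw [pow_one] at hj hj'
      exact hfV v hv (hj ▸ hxv.pow_left j) (hj' ▸ hxv.pow_left j'))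
    (hcop le_rfl le_rfl)
  exact h.Rne (le_bot_iff.1 (h.one.faithful ▸ le_inf h.RH hle))

theorem not_square_cent (h : CoreData ρ a b c d H V R M) :
    ¬ HasSquare c (M ⊓ centralizer (R : Set G)) := by
  haveI := Fact.mk (h.one.prime c h.pr.hc)
  haveI := Fact.mk (h.one.prime b h.pr.hb)
  haveI := Fact.mk (h.one.prime a h.one.ha)
  rintro ⟨x, hx, y, hy, hox, hoy, hxy, hn⟩
  obtain ⟨p, hp, q, hq, hop, hoq, hpq, hnpq⟩ := h.sqR
  have hVne : V ≠ ⊥ := fun e => h.Rne (le_bot_iff.1 (h.one.faithful ▸ le_inf h.RH (by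
    rw [e]; intro g _; exact mem_centralizer_iff.2 fun z hz => by simp [mem_bot.1 hz])))
  obtain ⟨r, hr, hro, v, hv, hv1, hrv⟩ := exists_square_fixed hop hoq hpq hnpq V hVne
    (h.one.HV (h.RH hp)) (h.one.HV (h.RH hq)) (fun hd => by
      obtain ⟨j, hj⟩ := h.one.pV.exists_card_eq
      exact h.pr.hba ((Nat.prime_dvd_prime_iff_eq Fact.out Fact.out).1
        ((Fact.out : b.Prime).dvd_of_dvd_pow (hj ▸ hd))))
  have hrR : r ∈ R := (closure_le _).2 (by rintro z (rfl | rfl); exacts [hp, hq]) hr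
  have hWne : V ⊓ centralizer ({r} : Set G) ≠ ⊥ := fun e =>
    hv1 (mem_bot.1 (e ▸ (⟨hv, mem_centralizer_singleton_iff.2 hrv.symm.eq⟩ : v ∈ V ⊓ centralizer ({r} : Set G))))
  have hnorm : ∀ g ∈ M ⊓ centralizer (R : Set G),
      g ∈ normalizer ((V ⊓ centralizer ({r} : Set G) : Subgroup G) : Set G) := fun g hg => by
    rw [mem_normalizer_iff_map_conj_eq, map_inf _ _ _ (MulAut.conj g).injective,
      mem_normalizer_iff_map_conj_eq.1 (h.one.HV (h.MH hg.1))]
    congr 1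
    exact mem_normalizer_iff_map_conj_eq.1
      (le_normalizer (mem_centralizer_singleton_iff.2 (mem_centralizer_iff.1 hg.2 r hrR).symm))
  obtain ⟨e, he, heo, w, hw, hw1, hew⟩ := exists_square_fixed hox hoy hxy hn _ hWne
    (hnorm x hx) (hnorm y hy) (fun hd => h.not_dvd.2 (hd.trans (card_dvd_of_le inf_le_left)))
  have heC : e ∈ centralizer (R : Set G) :=
    (closure_le _).2 (by rintro z (rfl | rfl); exacts [hx.2, hy.2]) he
  exact h.fix_false heo hrR (fun e => by rw [e, orderOf_one] at hro; exact (Fact.out : b.Prime).one_lt.ne hro)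
    hw.1 hw1 (mem_centralizer_iff.1 heC r hrR).symm hew (mem_centralizer_singleton_iff.1 hw.2).symm

/-- The core prime `c` of `C_M(R)` leads to a contradiction. -/
theorem false_of_cent_core (h : CoreData ρ a b c d H V R M) {Q : Subgroup G} (hQ : IsPGroup c Q)
    (hQle : Q ≤ M ⊓ centralizer (R : Set G)) (hQ1 : Q ≠ ⊥) (hMQ : M ≤ normalizer (Q : Set G)) :
    False := by
  have hp := h.one.prime
  haveI := Fact.mk (hp b h.pr.hb)
  haveI := Fact.mk (hp c h.pr.hc)
  haveI := Fact.mk (hp d h.pr.hd)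
  obtain ⟨z, hz, hzo, -, -, hzn⟩ := exists_normalised_prime hQ hQ1
    (fun hs => h.not_square_cent (hs.mono hQle))
  have hzM : z ∈ M := (hQle hz).1
  have hzR : ∀ r ∈ R, Commute z r := fun r hr => (mem_centralizer_iff.1 (hQle hz).2 r hr).symm
  have hzd : ∀ l, orderOf l = d → Commute z l → ∀ r ∈ R, Commute l r → r = 1 := fun l hl hlz r hr hlr =>
    (h.pair_fpf hzo hl hlz).1 r hr (hzR r hr) hlr
  obtain ⟨x, hx, y, hy, hox, hoy, hxy, hn⟩ := h.sqd
  obtain ⟨δ, hδ, hδo, r, hr, hr1, hδr⟩ := exists_square_fixed hox hoy hxy hn R h.Rne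
    (h.HR (h.MH hx)) (h.HR (h.MH hy)) h.swapPrime.not_dvd.1
  have hδM : δ ∈ M := (closure_le _).2 (by rintro z (rfl | rfl); exacts [hx, hy]) hδ
  have hdc : d ∣ c - 1 := by
    by_contra hd
    exact hr1 (hzd δ hδo (commute_of_normalises hδo hzo (hzn δ (hMQ hδM)) hd).symm r hr hδr)
  have hcd : ¬ c ∣ d - 1 := fun hd => by
    have h1 : d < c := (Nat.le_of_dvd (Nat.sub_pos_of_lt (hp c h.pr.hc).one_lt) hdc).trans_lt
      (Nat.sub_lt (hp c h.pr.hc).pos Nat.one_pos)
    have h2 : c < d := (Nat.le_of_dvd (Nat.sub_pos_of_lt (hp d h.pr.hd).one_lt) hd).trans_lt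
      (Nat.sub_lt (hp d h.pr.hd).pos Nat.one_pos)
    exact lt_asymm h1 h2
  have hc2 : c ≠ 2 := fun hc => by
    rw [hc] at hdc
    exact (hp d h.pr.hd).not_dvd_one (by simpa using hdc) 
  obtain ⟨l, hl, hlo, hlz⟩ := exists_square_commute hox hoy hxy hn hzo (hzn x (hMQ hx)) (hzn y (hMQ hy))
  have hlM : l ∈ M := (closure_le _).2 (by rintro z (rfl | rfl); exacts [hx, hy]) hl
  have hcz : ∀ g ∈ M, orderOf g = c → Commute g z := fun g hg hgo =>
    commute_of_normalises hgo hzo (hzn g (hMQ hg)) fun hd =>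
      absurd (Nat.le_of_dvd (Nat.sub_pos_of_lt (hp c h.pr.hc).one_lt) hd)
        (Nat.not_le_of_lt (Nat.sub_lt (hp c h.pr.hc).pos Nat.one_pos))
  obtain ⟨e, heM, heo, heR⟩ : ∃ e ∈ M, orderOf e = c ∧ e ∉ centralizer (R : Set G) := by
    obtain ⟨p, hpM, q, hqM, hop, hoq, hpq, hnpq⟩ := h.sqc
    by_contra hall
    push Not at hall
    exact h.not_square_cent ⟨p, ⟨hpM, hall p hpM hop⟩, q, ⟨hqM, hall q hqM hoq⟩, hop, hoq, hpq, hnpq⟩
  set Y := M ⊓ centralizer ({z} : Set G) with hY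
  have heY : e ∈ Y := ⟨heM, mem_centralizer_singleton_iff.2 (hcz e heM heo).eq⟩
  have hlY : l ∈ Y := ⟨hlM, mem_centralizer_singleton_iff.2 hlz.eq⟩
  have hzY : z ∈ Y := ⟨hzM, mem_centralizer_singleton_iff.2 rfl⟩
  have hYz : ∀ g ∈ Y, Commute g z := fun g hg => mem_centralizer_singleton_iff.1 hg.2
  haveI := h.one.solvable
  have hYs : Group.IsSolvable Y :=
    Group.isSolvable_of_isSolvable_injective (Subgroup.inclusion_injective ((inf_le_left : Y ≤ M).trans h.MH))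
  -- the `d`-core of `Y` is trivial
  have hnod : ∀ Q' : Subgroup G, IsPGroup d Q' → Q' ≤ Y → Y ≤ normalizer (Q' : Set G) → Q' = ⊥ := by
    intro Q' hQ' hQY hYQ
    by_contra hne
    have hns : ¬ HasSquare d Q' := by
      rintro ⟨p, hpQ, q, hqQ, hop, hoq, hpq, hnpq⟩
      obtain ⟨f, hf, hfo, s, hs, hs1, hfs⟩ := exists_square_fixed hop hoq hpq hnpq R h.Rne
        (h.HR (h.MH (hQY hpQ).1)) (h.HR (h.MH (hQY hqQ).1)) h.swapPrime.not_dvd.1
      have hfY : f ∈ Y := hQY ((closure_le _).2 (by rintro z (rfl | rfl); exacts [hpQ, hqQ]) hf)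
      exact hs1 (hzd f hfo (hYz f hfY).symm s hs hfs)
    obtain ⟨w, hw, hwo, -, -, hwn⟩ := exists_normalised_prime hQ' hne hns
    have hew : Commute e w := commute_of_normalises heo hwo (hwn e (hYQ heY)) hcd
    rcases h.mem_cent (h.MH heM) (h.MH (hQY hw).1) heo hwo hew with hh | hh
    · exact heR hh
    · obtain ⟨s, hs, hs1⟩ := R.bot_or_exists_ne_one.resolve_left h.Rne
      exact hs1 (hzd w hwo (hYz w (hQY hw)).symm s hs (mem_centralizer_iff.1 hh s hs).symm)
  -- so the `c`-core is self-centralising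
  haveI := hYs
  set Q₁ := (Cfsg.pCore c Y).map Y.subtype with hQ₁
  have hQ₁p : IsPGroup c Q₁ := (Fitting.pCore_isPGroup (G := Y) c).map _
  have hQ₁Y : Q₁ ≤ Y := map_subtype_le _
  have hYQ₁ : Y ≤ normalizer (Q₁ : Set G) := by
    refine (normal_subgroupOf_iff_le_normalizer hQ₁Y).1 ?_
    rw [hQ₁, ← comap_subtype, comap_map_eq_self_of_injective Y.subtype_injective]
    exact Fitting.pCore_normal (G := Y) c
  have hlQ : ¬ ∀ g ∈ Q₁, Commute l g := by
    intro hall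
    have := mem_of_centralises hYs (K := Q₁) (fun p hp' Q' hQ' hQY hYQ' => ?_) hlY hall
    · obtain ⟨k, hk⟩ := IsPGroup.iff_orderOf.1 hQ₁p ⟨l, this⟩
      rw [← Subgroup.orderOf_coe] at hk
      exact h.pr.hcd ((Nat.prime_dvd_prime_iff_eq (hp d h.pr.hd) (hp c h.pr.hc)).1
        ((hp d h.pr.hd).dvd_of_dvd_pow ((hk.symm.trans hlo).symm.dvd))).symm
    · haveI := Fact.mk hp'
      by_cases hpc : p = c
      · subst hpc
        intro g hg
        exact ⟨⟨g, hQY hg⟩, Fitting.le_pCore (normal_subgroupOf_of_le_normalizer hYQ')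
          (hQ'.comap_subtype) hg, rfl⟩
      by_cases hpd : p = d
      · subst hpd
        rw [hnod Q' hQ' hQY hYQ']
        exact bot_le
      intro g hg
      by_contra hg1
      have hd' : p ∣ Nat.card M := (dvd_orderOf_of_mem hQ' hg (fun e => hg1 (e ▸ one_mem _))).trans
        (orderOf_dvd_natCard _ (hQY hg).1)
      rcases h.supp p hp' hd' with hh | hh
      exacts [hpc hh, hpd hh]
  -- the action on `R`
  have hRfix : ∀ r ∈ R, Commute l r → r = 1 := hzd l hlo hlz.symm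
  have hzl : zpowers l ≤ normalizer (Q₁ : Set G) := zpowers_le.2 (hYQ₁ hlY)
  have hK : ⁅Q₁, zpowers l⁆ ≤ centralizer (R : Set G) := by
    by_cases hd2 : d = 2
    · have hRc := comm_of_involution_fpf (hd2 ▸ hlo) (h.HR (h.MH hlM)) hRfix
      exact commutator_le_centralizer h.pr.hbc.symm h.pr.hcd.symm h.pr.hbd.symm Q₁ R l hlo hQ₁p h.pR hRc
        (hYQ₁ hlY) (((hQ₁Y.trans inf_le_left).trans h.MH).trans h.HR) (h.HR (h.MH hlM)) hRfix (Or.inl hc2)
    · exact OddOrder41.commutator_le_centralizer_of_fpf (p := d) (q := c) (ℓ := b) hd2 hc2 h.pr.hcd.symm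
        h.pr.hbd.symm h.pr.hbc.symm Q₁ (zpowers l) R hQ₁p (by rw [Nat.card_zpowers, hlo]) h.pR hzl
        (sup_le (((hQ₁Y.trans inf_le_left).trans h.MH).trans h.HR) (zpowers_le.2 (h.HR (h.MH hlM))))
        (eq_bot_iff.2 fun r hr => mem_bot.2 (hRfix r hr.1 (mem_centralizer_iff.1 hr.2 l (mem_zpowers l))))
  have hKQ : ⁅Q₁, zpowers l⁆ ≤ Q₁ := Coprime.commutator_le_of_normalizes hzl
  have hcopl : (Nat.card (zpowers l)).Coprime c := by
    rw [Nat.card_zpowers, hlo]
    exact ((Nat.coprime_primes (hp c h.pr.hc) (hp d h.pr.hd)).2 h.pr.hcd).symm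
  have hlK : zpowers l ≤ centralizer ((⁅Q₁, zpowers l⁆ : Subgroup G) : Set G) := by
    refine OddOrder41.le_centralizer_of_fixes_order_p c hc2 _ ⊥ _ (hQ₁p.to_le hKQ) bot_le ?_
      (Coprime.le_normalizer_commutator_right Q₁ _) hcopl ?_
    · exact ⟨inferInstance, fun g hg => by rw [mem_bot.1 hg, one_pow]⟩
    · intro g hg hgo
      rw [zpowers_le, mem_centralizer_singleton_iff]
      have hgM : g ∈ M ⊓ centralizer (R : Set G) := ⟨(hQ₁Y (hKQ hg.1)).1, hK hg.1⟩
      obtain ⟨k, hk⟩ := mem_zpowers_iff.1 (mem_zpowers_of_not_square h.not_square_cent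
        (⟨hzM, (hQle hz).2⟩ : z ∈ M ⊓ centralizer (R : Set G)) hgM hzo hgo (hYz g (hQ₁Y (hKQ hg.1))).symm)
      exact hk ▸ (hlz.zpow_right k).eq
  have hcopQ : (Nat.card (zpowers l)).Coprime (Nat.card Q₁) := by
    obtain ⟨k, hk⟩ := hQ₁p.exists_card_eq
    rw [hk]; exact hcopl.pow_right k
  have h0 : ⁅Q₁, zpowers l⁆ = ⊥ := Coprime.commutator_eq_bot_of_commutator_commutator_eq_bot _ _ hzl hcopQ
    (Or.inl (Group.isSolvable_of_comm fun a b => mul_comm' a b))
    (commutator_eq_bot_iff_le_centralizer.2 fun k hk => mem_centralizer_iff.2 fun g hg =>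
      (mem_centralizer_iff.1 (hlK hg) k hk).symm)
  exact hlQ fun g hg => mem_centralizer_iff.1 (commutator_eq_bot_iff_le_centralizer.1 h0 hg) l (mem_zpowers l)

/-- A normal subgroup with a square is impossible. -/
theorem false (h : CoreData ρ a b c d H V R M) : False := by
  haveI := h.one.solvable
  have hne : M ⊓ centralizer (R : Set G) ≠ ⊥ := by
    obtain ⟨γ, hγ, δ, hδ, hγo, hδo, hc⟩ := h.pair
    intro hb
    rcases h.mem_cent (h.MH hγ) (h.MH hδ) hγo hδo hc with hh | hh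
    · have : γ = 1 := mem_bot.1 (hb.le (mem_inf.2 ⟨hγ, hh⟩))
      rw [this, orderOf_one] at hγo
      exact (h.one.prime c h.pr.hc).one_lt.ne hγo
    · have : δ = 1 := mem_bot.1 (hb.le (mem_inf.2 ⟨hδ, hh⟩))
      rw [this, orderOf_one] at hδo
      exact (h.one.prime d h.pr.hd).one_lt.ne hδo
  obtain ⟨p, hp, hpd, Q, hQ, hQle, hQ1, hnorm⟩ := exists_core (Y := M ⊓ centralizer (R : Set G))
    (Group.isSolvable_of_isSolvable_injective
      (Subgroup.inclusion_injective ((inf_le_left : M ⊓ centralizer (R : Set G) ≤ M).trans h.MH))) hne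
  have hMQ : M ≤ normalizer (Q : Set G) := by
    refine le_trans ?_ hnorm
    intro g hg
    refine (mem_normalizer_iff_map_conj_eq).2 ?_
    rw [map_inf _ _ _ (MulAut.conj g).injective, mem_normalizer_iff_map_conj_eq.1 (le_normalizer hg)]
    congr 1
    exact mem_normalizer_iff_map_conj_eq.1 (Components.normalizer_le_normalizer_centralizer R (h.HR (h.MH hg)))
  rcases h.supp p hp (hpd.trans (card_dvd_of_le inf_le_left)) with rfl | rfl
  · exact h.false_of_cent_core hQ hQle hQ1 hMQ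
  · exact h.swapPrime.false_of_cent_core hQ hQle hQ1 hMQ

end CoreData

end CfsgLib.SzSquare
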