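import Cfsg.Agent.Lib.SzSquare.Lifts
import Cfsg.Agent.Lib.InvChar.Kazarin
import Cfsg.Agent.Lib.Structure.SolvableRadical

/-!
Perfect preimages of Suzuki sections over a solvable kernel, and the lifts inside them.
-/

set_option autoImplicit false
set_option linter.style.haveILetI false

namespace CfsgLib.SzSquare

open Subgroup
open scoped commutatorElement Pointwise

universe u v

variable {G : Type u} [Group G] [Finite G] {Q : Type v} [Group Q]

/-- A perfect subgroup with simple image lies in every normal subgroup meeting it outside the kernel. -/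
theorem perfect_le_of_mem (π : G →* Q) (hker : Group.IsSolvable π.ker) {S : Subgroup Q}
    (hS : IsSimpleGroup S) {L : Subgroup G} (hperf : ⁅L, L⁆ = L) (hmap : L.map π = S)
    (C : Subgroup G) (hC : C.Normal) {l : G} (hl : l ∈ L) (hlC : l ∈ C) (hl1 : π l ≠ 1) : L ≤ C := by
  haveI := hC
  haveI := hS
  let πL : L →* S := (π.comp L.subtype).codRestrict S fun x => hmap ▸ mem_map_of_mem π x.2
  have hπL : Function.Surjective πL := fun s => by
    obtain ⟨x, hx, hxs⟩ : (s : Q) ∈ L.map π := by rw [hmap]; exact s.2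
    exact ⟨⟨x, hx⟩, Subtype.ext hxs⟩
  set D := C.subgroupOf L with hD
  have hDn : (D.map πL).Normal := (inferInstance : D.Normal).map πL hπL
  have htop : D.map πL = ⊤ := by
    refine (hS.eq_bot_or_eq_top_of_normal _ hDn).resolve_left fun h => hl1 ?_
    have : πL ⟨l, hl⟩ ∈ D.map πL := mem_map_of_mem πL (mem_subgroupOf.2 hlC)
    rw [h, mem_bot] at this
    exact congrArg Subtype.val this
  let K : Subgroup L := π.ker.subgroupOf L
  haveI : Group.IsSolvable K := by
    haveI := hker
    let f : K →* π.ker := (L.subtype.comp K.subtype).codRestrict π.ker fun x => x.2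
    exact Group.isSolvable_of_isSolvable_injective (f := f)
      fun a b hab => Subtype.ext (Subtype.ext (congrArg (fun z : π.ker => (z : G)) hab))
  have hsurj : Function.Surjective ((QuotientGroup.mk' D).comp K.subtype) := by
    intro z
    obtain ⟨x, rfl⟩ := QuotientGroup.mk'_surjective D z
    obtain ⟨c, hc, hcx⟩ : πL x ∈ D.map πL := htop ▸ mem_top _
    refine ⟨⟨c⁻¹ * x, ?_⟩, ?_⟩
    · show π ((c⁻¹ * x : L) : G) = 1
      rw [show π ((c⁻¹ * x : L) : G) = ((πL (c⁻¹ * x) : S) : Q) from rfl, map_mul, map_inv, hcx,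
        inv_mul_cancel]
      rfl
    · show QuotientGroup.mk' D (c⁻¹ * x) = QuotientGroup.mk' D x
      rw [map_mul, map_inv, show QuotientGroup.mk' D c = 1 from (QuotientGroup.eq_one_iff c).2 hc,
        inv_one, one_mul]
  haveI hq : Group.IsSolvable (L ⧸ D) := Group.isSolvable_of_surjective hsurj
  have hbot : (⊤ : Subgroup (L ⧸ D)) = ⊥ := by
    obtain ⟨n, hn⟩ := hq.solvable
    rw [← hn]
    have hLtop : _root_.commutator L = ⊤ := by
      apply map_injective L.subtype_injective
      rw [commutator_def, map_commutator, ← MonoidHom.range_eq_map, range_subtype, hperf]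
    have : ∀ i, derivedSeries (L ⧸ D) i = ⊤ := by
      intro i
      induction i with
      | zero => exact derivedSeries_zero _
      | succ i ih =>
        rw [derivedSeries_succ, ih, ← map_top_of_surjective _ (QuotientGroup.mk'_surjective D),
          ← map_commutator, ← commutator_def, hLtop, map_top_of_surjective _ (QuotientGroup.mk'_surjective D)]
    exact (this n).symm
  intro x hx
  have h1 : QuotientGroup.mk' D ⟨x, hx⟩ = 1 := by
    rw [← mem_bot, ← hbot]; exact mem_top _
  exact mem_subgroupOf.1 ((QuotientGroup.eq_one_iff (⟨x, hx⟩ : L)).1 h1)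

/-- A perfect group has a perfect preimage, normal if the group is. -/
theorem exists_perfect_preimage (π : G →* Q) (hπ : Function.Surjective π) {S : Subgroup Q}
    (hS : ⁅S, S⁆ = S) : ∃ L : Subgroup G, ⁅L, L⁆ = L ∧ L.map π = S ∧ (S.Normal → L.Normal) := by
  obtain ⟨L, hLK, hperf, hnorm, n, hn⟩ := InvChar.exists_perfect_core (S.comap π)
  refine ⟨L, hperf, ?_, fun hSn => ?_⟩
  · refine le_antisymm ((map_mono hLK).trans (map_comap_le π S)) (le_trans ?_ (map_mono hn))
    have key : ∀ i, S ≤ ((derivedSeries (S.comap π) i).map (S.comap π).subtype).map π := by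
      intro i
      induction i with
      | zero =>
        rw [derivedSeries_zero, ← MonoidHom.range_eq_map, range_subtype, map_comap_eq_self_of_surjective hπ]
      | succ i ih =>
        rw [derivedSeries_succ, map_commutator, map_commutator]
        conv_lhs => rw [← hS]
        exact commutator_mono ih ih
    exact key n
  · rw [← normalizer_eq_top_iff]
    haveI := hSn
    refine eq_top_iff.2 fun g _ => hnorm g ?_
    rw [normalizer_eq_top (S.comap π)]
    exact mem_top g

/-- A perfect preimage of a Suzuki section centralises every normal `2`-subgroup when no element has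
order divisible by eight. -/
theorem perfect_le_centralizer_two (h8 : ∀ g : G, ¬ 8 ∣ orderOf g) (π : G →* Q)
    (hker : Group.IsSolvable π.ker) {S : Subgroup Q} (hS : IsSimpleGroup S) {k : ℕ} (hk : IsSz k S)
    {L : Subgroup G} (hperf : ⁅L, L⁆ = L) (hmap : L.map π = S) {F : Subgroup G} (hFn : F.Normal)
    (hF : IsPGroup 2 F) : L ≤ centralizer (F : Set G) := by
  let πL : L →* S := (π.comp L.subtype).codRestrict S fun x => hmap ▸ mem_map_of_mem π x.2
  have hπL : Function.Surjective πL := fun s => by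
    obtain ⟨x, hx, hxs⟩ : (s : Q) ∈ L.map π := by rw [hmap]; exact s.2
    exact ⟨⟨x, hx⟩, Subtype.ext hxs⟩
  obtain ⟨f, x, hf, -, hxf, hinv⟩ := hk.five_four
  obtain ⟨g, y, hg, hy4, hyg, hyinv, -, hg1⟩ := exists_five_four_lift
    (fun a => by rw [← Subgroup.orderOf_coe]; exact h8 a) πL hπL hf hxf hinv
  have hg' : IsPGroup 5 (zpowers (g : G)) := by
    have := hg.map L.subtype
    rwa [MonoidHom.map_zpowers] at this
  have hc := two_centralised h8 F hF hFn hg' (y := (y : G))
    (by rw [← SubgroupClass.coe_pow, hy4]; rfl)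
    (by
      obtain ⟨i, hi⟩ := mem_zpowers_iff.1 hyg
      exact ⟨i, by simpa using congrArg Subtype.val hi⟩)
    (by simpa using congrArg Subtype.val hyinv)
  refine perfect_le_of_mem π hker hS hperf hmap _ inferInstance g.2
    (mem_centralizer_iff.2 fun v hv => (hc v hv).eq.symm) fun h => hg1 (Subtype.ext h)

/-- A maximal odd normal subgroup inside a normal subgroup. -/
theorem exists_odd_core (R : Subgroup G) :
    ∃ O : Subgroup G, O.Normal ∧ O ≤ R ∧ Odd (Nat.card O) ∧
      ∀ M : Subgroup G, M.Normal → O ≤ M → M ≤ R → Odd (Nat.card M) → M = O := by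
  obtain ⟨O, hO⟩ := ({N : Subgroup G | N.Normal ∧ N ≤ R ∧ Odd (Nat.card N)}).toFinite.exists_maximal
    ⟨⊥, normal_bot, bot_le, by simp⟩
  exact ⟨O, hO.prop.1, hO.prop.2.1, hO.prop.2.2,
    fun M hM hOM hMR hodd => le_antisymm (hO.le_of_ge ⟨hM, hMR, hodd⟩ hOM) hOM⟩

/-- Perfect preimages of Suzuki sections act trivially on the kernel modulo its odd core. -/
theorem commutator_mem_core (h8 : ∀ g : G, ¬ 8 ∣ orderOf g) (π : G →* Q)
    (hker : Group.IsSolvable π.ker) {S : Subgroup Q} (hS : IsSimpleGroup S) {k : ℕ} (hk : IsSz k S)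
    {L : Subgroup G} (hperf : ⁅L, L⁆ = L) (hmap : L.map π = S) {O : Subgroup G} [O.Normal]
    (hOR : O ≤ π.ker) (hodd : Odd (Nat.card O))
    (hmax : ∀ M : Subgroup G, M.Normal → O ≤ M → M ≤ π.ker → Odd (Nat.card M) → M = O) :
    ∀ l ∈ L, ∀ r ∈ π.ker, ⁅l, r⁆ ∈ O := by
  set q := QuotientGroup.mk' O with hq
  set π₁ : G ⧸ O →* Q := QuotientGroup.lift O π hOR with hπ₁
  have hπq : ∀ g, π₁ (q g) = π g := fun g => rfl
  have hR₁ : π₁.ker = π.ker.map q := by
    refine le_antisymm (fun z hz => ?_) (map_le_iff_le_comap.2 fun g hg => hg)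
    obtain ⟨g, rfl⟩ := QuotientGroup.mk'_surjective O z
    exact ⟨g, hz, rfl⟩
  haveI := hker
  have hker₁ : Group.IsSolvable π₁.ker := by
    rw [hR₁]
    exact Group.isSolvable_of_surjective (MonoidHom.subgroupMap_surjective q π.ker)
  set L₁ := L.map q with hL₁
  have hperf₁ : ⁅L₁, L₁⁆ = L₁ := by rw [hL₁, ← map_commutator, hperf]
  have hmap₁ : L₁.map π₁ = S := by rw [hL₁, map_map]; exact hmap
  have h8₁ : ∀ z : G ⧸ O, ¬ 8 ∣ orderOf z := fun z hz => by
    obtain ⟨g, rfl⟩ := QuotientGroup.mk'_surjective O z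
    exact h8 g (hz.trans (orderOf_map_dvd q g))
  haveI hR₁n : π₁.ker.Normal := π₁.normal_ker
  haveI := Fitting.pCore_characteristic (G := π₁.ker) 2
  set F := (Cfsg.pCore 2 π₁.ker).map π₁.ker.subtype with hFdef
  haveI hFn : F.Normal := ConjAct.normal_of_characteristic_of_normal
  have hF : IsPGroup 2 F := (Fitting.pCore_isPGroup 2).map _
  have hFR : F ≤ π₁.ker := map_subtype_le _
  have hLF := perfect_le_centralizer_two h8₁ π₁ hker₁ hS hk hperf₁ hmap₁ hFn hF
  have hsub : ∀ (p : ℕ), p.Prime → ∀ P : Subgroup (G ⧸ O), IsPGroup p P → P ≤ π₁.ker →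
      π₁.ker ≤ normalizer (P : Set (G ⧸ O)) → P ≤ F := by
    intro p hp P hP hPR hRP
    haveI := Fact.mk hp
    haveI : (P.subgroupOf π₁.ker).Normal := normal_subgroupOf_iff_le_normalizer hPR |>.2 hRP
    have hle : P ≤ (Cfsg.pCore p π₁.ker).map π₁.ker.subtype := by
      intro x hx
      exact ⟨⟨x, hPR hx⟩, Fitting.le_pCore inferInstance
        (hP.of_equiv (subgroupOfEquivOfLe hPR).symm) (mem_subgroupOf.2 hx), rfl⟩
    rcases eq_or_ne p 2 with rfl | hp2
    · exact hle
    refine hle.trans ?_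
    set E := (Cfsg.pCore p π₁.ker).map π₁.ker.subtype with hE
    haveI := Fitting.pCore_characteristic (G := π₁.ker) p
    haveI hEn : E.Normal := ConjAct.normal_of_characteristic_of_normal
    have hEp : IsPGroup p E := (Fitting.pCore_isPGroup p).map _
    set M := E.comap q with hM
    have hMR : M ≤ π.ker := fun g hg => by
      have h1 : q g ∈ π₁.ker := map_subtype_le _ hg
      exact h1
    have hOM : O ≤ M := fun g hg => by
      show q g ∈ E
      rw [show q g = 1 from (QuotientGroup.eq_one_iff g).2 hg]; exact one_mem E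
    have hMo : Odd (Nat.card M) := by
      have h1 := ((q.comp M.subtype).ker).card_mul_index
      rw [index_ker, MonoidHom.range_comp, range_subtype, hM,
        map_comap_eq_self_of_surjective (QuotientGroup.mk'_surjective O)] at h1
      obtain ⟨a, ha⟩ := hEp.exists_card_eq
      have hk' : Nat.card (q.comp M.subtype).ker = Nat.card O := by
        rw [← MonoidHom.comap_ker, hq, QuotientGroup.ker_mk']
        exact Nat.card_congr (subgroupOfEquivOfLe hOM).toEquiv
      rw [← h1, hk', ha]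
      exact hodd.mul ((hp.odd_of_ne_two hp2).pow)
    have hMO := hmax M inferInstance hOM hMR hMo
    intro z hz
    obtain ⟨g, rfl⟩ := QuotientGroup.mk'_surjective O z
    have : g ∈ O := hMO ▸ hz
    rw [show q g = 1 from (QuotientGroup.eq_one_iff g).2 this]
    exact one_mem F
  -- three subgroups
  have h1 : ⁅L₁, F⁆ = ⊥ := commutator_eq_bot_iff_le_centralizer.2 hLF
  have h2 : ⁅⁅F, π₁.ker⁆, L₁⁆ = ⊥ := by
    have : ⁅⁅F, π₁.ker⁆, L₁⁆ ≤ ⁅F, L₁⁆ := commutator_mono (commutator_le_left F π₁.ker) le_rfl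
    rw [commutator_comm F L₁, h1] at this
    exact le_bot_iff.1 this
  have h3 : ⁅⁅π₁.ker, L₁⁆, F⁆ = ⊥ :=
    commutator_commutator_eq_bot_of_rotate (by rw [h1, commutator_bot_left]) h2
  have h4 : ⁅π₁.ker, L₁⁆ ≤ F := fun z hz =>
    mem_of_centralises hker₁ hsub (commutator_le_left π₁.ker L₁ hz) fun f hf =>
      (mem_centralizer_iff.1 (commutator_eq_bot_iff_le_centralizer.1 h3 hz) f hf).symm
  have h5 : ⁅⁅L₁, π₁.ker⁆, L₁⁆ = ⊥ := by
    have : ⁅⁅L₁, π₁.ker⁆, L₁⁆ ≤ ⁅F, L₁⁆ :=
      commutator_mono (commutator_comm L₁ π₁.ker ▸ h4) le_rfl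
    rw [commutator_comm F L₁, h1] at this
    exact le_bot_iff.1 this
  have h6 : ⁅L₁, π₁.ker⁆ = ⊥ := by
    have h' : ⁅⁅π₁.ker, L₁⁆, L₁⁆ = ⊥ := by rwa [commutator_comm π₁.ker L₁]
    have := commutator_commutator_eq_bot_of_rotate (H₁ := L₁) (H₂ := L₁) (H₃ := π₁.ker) h5 h'
    rwa [hperf₁] at this
  intro l hl r hr
  refine (QuotientGroup.eq_one_iff _).1 ?_
  show q ⁅l, r⁆ = 1
  rw [map_commutatorElement]
  exact commutatorElement_eq_one_iff_commute.2 (mem_centralizer_iff.1
    (commutator_eq_bot_iff_le_centralizer.1 h6 (mem_map_of_mem q hl)) (q r) hr).symm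

/-- With odd kernel, an element commuting with an involution modulo the kernel lifts. -/
theorem exists_commute_lift (π : G →* Q) (hodd : Odd (Nat.card π.ker)) {u : G} (hu : u * u = 1)
    {g : G} (h : Commute (π u) (π g)) : ∃ g', π g' = π g ∧ Commute u g' := by
  obtain ⟨w, hw, hc⟩ := exists_fixed_in_coset π.ker hodd hu (normalizer_eq_top π.ker ▸ mem_top u)
    (g := g) (by rw [MonoidHom.mem_ker, map_mul, map_mul, map_mul, map_inv, map_inv, h.eq,
      mul_inv_cancel_right, mul_inv_cancel])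
  exact ⟨w * g, by rw [map_mul, show π w = 1 from hw, one_mul], hc⟩

/-- An involution modulo an odd kernel lifts to an involution inside any subgroup over it. -/
theorem exists_involution_power (π : G →* Q) {O : Subgroup G} (hodd : Odd (Nat.card O)) (hO : O ≤ π.ker)
    {l : G} (hl : l * l ∈ O) : ∃ m : ℕ, l ^ m * l ^ m = 1 ∧ π (l ^ m) = π l := by
  refine ⟨orderOf (l * l), ?_, ?_⟩
  · rw [← (Commute.refl l).mul_pow, pow_orderOf_eq_one]
  · obtain ⟨j, hj⟩ := hodd.of_dvd_nat (Subgroup.orderOf_dvd_natCard _ hl)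
    rw [hj, pow_succ, pow_mul, map_mul, map_pow, pow_two l, show π (l * l) = 1 from hO hl, one_pow, one_mul]

/-- The Frattini argument for elements. -/
theorem exists_mul_mem_normalizer {p : ℕ} [Fact p.Prime] {Y : Subgroup G} (P : Sylow p Y) {h : G}
    (hh : h ∈ normalizer (Y : Set G)) :
    ∃ c ∈ Y, c * h ∈ normalizer (((P : Subgroup Y).map Y.subtype : Subgroup G) : Set G) := by
  let φ : Y ≃* Y := ((MulAut.conj h).subgroupMap Y).trans
    (MulEquiv.subgroupCongr (mem_normalizer_iff_map_conj_eq.1 hh))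
  obtain ⟨c, hc⟩ := MulAction.exists_smul_eq Y (P.mapSurjective (f := φ.toMonoidHom) φ.surjective) P
  refine ⟨c, c.2, mem_normalizer_iff_map_conj_eq.2
    (eq_of_le_of_card_ge ?_ (card_map_of_injective (MulAut.conj _).injective).ge)⟩
  rintro _ ⟨_, ⟨a, ha, rfl⟩, rfl⟩
  refine ⟨c * φ a * c⁻¹, ?_, ?_⟩
  · rw [← hc]; exact smul_mem_pointwise_smul _ _ _ ⟨a, ha, rfl⟩
  · show (c : G) * (h * (a : G) * h⁻¹) * (c : G)⁻¹ = (c : G) * h * (a : G) * ((c : G) * h)⁻¹
    group

/-- A cyclic group has one subgroup of each prime order. -/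
theorem mem_zpowers_of_cyclic {P : Subgroup G} [IsCyclic P] {p : ℕ} (hp : p.Prime) {x y : G}
    (hx : x ∈ P) (hy : y ∈ P) (hox : orderOf x = p) (hoy : y ^ p = 1) : y ∈ zpowers x := by
  obtain ⟨c, hc⟩ := IsCyclic.exists_generator (α := P)
  have hcard : orderOf c = Nat.card P := orderOf_eq_card_of_forall_mem_zpowers hc
  obtain ⟨N, hN⟩ : p ∣ Nat.card P := hox ▸ Subgroup.orderOf_dvd_natCard _ hx
  have key : ∀ z : P, z ^ p = 1 → z ∈ zpowers (c ^ N) := by
    intro z hz
    obtain ⟨a, ha⟩ := (isOfFinOrder_of_finite c).mem_powers_iff_mem_zpowers.2 (hc z)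
    simp only at ha
    rw [← ha, ← pow_mul, ← orderOf_dvd_iff_pow_eq_one, hcard, hN, mul_comm a p,
      Nat.mul_dvd_mul_iff_left hp.pos] at hz
    obtain ⟨b, hb⟩ := hz
    rw [← ha, hb, pow_mul]
    exact npow_mem_zpowers _ _
  have hxP : orderOf (⟨x, hx⟩ : P) = p := by rw [← Subgroup.orderOf_coe, hox]
  have hxz := key ⟨x, hx⟩ (hxP ▸ pow_orderOf_eq_one _)
  have heq : zpowers (⟨x, hx⟩ : P) = zpowers (c ^ N) := by
    refine eq_of_le_of_card_ge (zpowers_le.2 hxz) ?_
    rw [Nat.card_zpowers, Nat.card_zpowers, hxP, ← hox]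
    refine Nat.le_of_dvd (hox ▸ hp.pos) (hox ▸ orderOf_dvd_of_pow_eq_one ?_)
    rw [← pow_mul, mul_comm, ← hN, ← hcard, pow_orderOf_eq_one]
  obtain ⟨i, hi⟩ := mem_zpowers_iff.1 (heq ▸ key ⟨y, hy⟩ (Subtype.ext hoy) : (⟨y, hy⟩ : P) ∈ zpowers _)
  exact ⟨i, by simpa using congrArg Subtype.val hi⟩

end CfsgLib.SzSquare
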