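import Cfsg.Agent.Lib.SzSquare.Main

/-!
The element orders of the square of a Suzuki group determine it.
-/

set_option autoImplicit false
set_option linter.style.haveILetI false

namespace CfsgLib.SzSquare

open CfsgLib.SuzukiGroup Subgroup

universe u v

section model

variable {F : Type v} [Field F] [Fintype F] {m : ℕ}

theorem orderOf_dvd_cls (hF : Fintype.card F = 2 ^ (2 * m + 1)) (hm : 1 ≤ m)
    (g : ↥(Cfsg.Lie.Sz F (2 ^ (m + 1)))) : ∃ i, orderOf g ∣ cls m i := by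
  obtain ⟨hC, ⟨P⟩⟩ := exists_params hF
  haveI := hC
  rcases eq_or_ne g 1 with rfl | h1
  · exact ⟨0, by rw [orderOf_one]; exact one_dvd _⟩
  rcases element_cases P hF hm h1 with h | ⟨-, h⟩
  · exact ⟨0, h⟩
  have hd := Subgroup.orderOf_dvd_natCard (centralizer ({g} : Set _))
    (mem_centralizer_singleton_iff.2 rfl : g ∈ centralizer ({g} : Set _))
  rcases h with h | h | h
  exacts [⟨1, by rw [cls_one, ← hF]; exact h ▸ hd⟩, ⟨2, by rw [cls_two, ← h]; exact hd⟩, ⟨3, by rw [cls_three, ← h]; exact hd⟩]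

theorem exists_orderOf_cls (hF : Fintype.card F = 2 ^ (2 * m + 1)) (hm : 1 ≤ m) (i : Fin 4) :
    ∃ g : ↥(Cfsg.Lie.Sz F (2 ^ (m + 1))), orderOf g = cls m i := by
  obtain ⟨hC, ⟨P⟩⟩ := exists_params hF
  haveI := hC
  have hgen : ∀ H : Subgroup ↥(Cfsg.Lie.Sz F (2 ^ (m + 1))), IsCyclic H →
      ∃ g : ↥(Cfsg.Lie.Sz F (2 ^ (m + 1))), orderOf g = Nat.card H := by
    intro H hH
    obtain ⟨g, hg⟩ := IsCyclic.exists_generator (α := H)
    exact ⟨g, by rw [Subgroup.orderOf_coe, orderOf_eq_card_of_forall_mem_zpowers hg]⟩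
  obtain ⟨a, b, ha, hb, hca, hcb⟩ := exists_torus_pair P hF hm
  fin_cases i
  · exact ⟨uEl P 1 0, orderOf_uEl P 0 one_ne_zero⟩
  · obtain ⟨g, hg⟩ := hgen (torus P) (torus_isCyclic P)
    exact ⟨g, by rw [hg, card_torus P, hF]; rfl⟩
  · obtain ⟨g, hg⟩ := hgen _ (fpf_isCyclic P hF hm ha)
    exact ⟨g, hg.trans hca⟩
  · obtain ⟨g, hg⟩ := hgen _ (fpf_isCyclic P hF hm hb)
    exact ⟨g, hg.trans hcb⟩

theorem full_of_range {G : Type u} [Group G] (hF : Fintype.card F = 2 ^ (2 * m + 1)) (hm : 1 ≤ m)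
    (h : Set.range (orderOf : G → ℕ) =
      Set.range (orderOf : ↥(Cfsg.Lie.Sz F (2 ^ (m + 1))) × ↥(Cfsg.Lie.Sz F (2 ^ (m + 1))) → ℕ)) :
    Full m G := by
  constructor
  · intro g
    obtain ⟨⟨x, y⟩, hxy⟩ := h ▸ Set.mem_range_self (f := (orderOf : G → ℕ)) g
    rw [← hxy, Prod.orderOf_mk]
    obtain ⟨i, hi⟩ := orderOf_dvd_cls hF hm x
    obtain ⟨j, hj⟩ := orderOf_dvd_cls hF hm y
    rcases eq_or_ne i j with rfl | hij
    · obtain ⟨l, hl⟩ : ∃ l, i ≠ l := ⟨_, (exists_ne i).choose_spec.symm⟩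
      exact ⟨i, l, hl, (Nat.lcm_dvd hi hj).trans (dvd_mul_right _ _)⟩
    · exact ⟨i, j, hij, (Nat.lcm_dvd (hi.trans (dvd_mul_right _ _)) (hj.trans (dvd_mul_left _ _)))⟩
  · intro i j hij
    obtain ⟨x, hx⟩ := exists_orderOf_cls hF hm i
    obtain ⟨y, hy⟩ := exists_orderOf_cls hF hm j
    have hmem : cls m i * cls m j ∈ Set.range (orderOf : G → ℕ) := by
      rw [h]
      exact ⟨(x, y), by rw [Prod.orderOf_mk, hx, hy, (coprime_cls m hij).lcm_eq_mul]⟩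
    exact hmem

/-- Recognition of the square of a Suzuki group by its element orders. -/
theorem recognition {G : Type u} [Group G] [Finite G] (hm : 1 ≤ m) (hm2 : m ≠ 2)
    (hF : Fintype.card F = 2 ^ (2 * m + 1))
    (h : Set.range (orderOf : G → ℕ) =
      Set.range (orderOf : ↥(Cfsg.Lie.Sz F (2 ^ (m + 1))) × ↥(Cfsg.Lie.Sz F (2 ^ (m + 1))) → ℕ)) :
    Nonempty (G ≃* ↥(Cfsg.Lie.Sz F (2 ^ (m + 1))) × ↥(Cfsg.Lie.Sz F (2 ^ (m + 1)))) := by
  obtain ⟨H, iH, hH, K, iK, hK, ⟨e⟩⟩ := exists_equiv hm hm2 (full_of_range hF hm h)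
  obtain ⟨a⟩ := hH.equiv hF
  obtain ⟨b⟩ := hK.equiv hF
  exact ⟨e.trans (a.prodCongr b)⟩

end model

end CfsgLib.SzSquare
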