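import Cfsg.Agent.Lib.Coprime.Commutator
import Cfsg.Agent.Lib.OddOrder41.FpfHallHigman
import Mathlib.Algebra.BigOperators.Fin

/-!
An element acting fixed-point-freely on a subgroup which acts without fixed points on an abelian
group of coprime order has a non-trivial norm, in particular a fixed point, there.
-/

set_option autoImplicit false
set_option linter.style.haveILetI false

namespace CfsgLib.SzSquare

open Subgroup
open scoped commutatorElement

universe u

variable {G : Type u} [Group G] [Finite G]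

/-- The norm of `y` on `V` is not trivial: some `(v * y) ^ t` differs from `y ^ t`. -/
theorem exists_norm_ne_one (P V : Subgroup G) (y : G) (t : ℕ) (ht : 0 < t)
    (hVc : ∀ a ∈ V, ∀ b ∈ V, a * b = b * a)
    (hPV : P ≤ normalizer (V : Set G)) (hyV : y ∈ normalizer (V : Set G))
    (hyP : y ∈ normalizer (P : Set G))
    (hfpf : ∀ i : ℕ, 0 < i → i < t → ∀ x ∈ P, y ^ i * x = x * y ^ i → x = 1)
    (hV : V ⊓ centralizer (P : Set G) = ⊥) (hVne : V ≠ ⊥)
    (hcop : (Nat.card P).Coprime (Nat.card V)) :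
    ∃ v ∈ V, (v * y) ^ t ≠ y ^ t := by
  classical
  by_contra hcon
  push Not at hcon
  have := Fintype.ofFinite P
  letI : CommGroup V :=
    { (inferInstance : Group V) with mul_comm := fun a b => Subtype.ext (hVc a a.2 b b.2) }
  let N := normalizer (V : Set G)
  let ρ : N →* MulAut V := V.normalizerMonoidHom
  have hρ : ∀ (g : N) (v : V), ((ρ g v : V) : G) = (g : G) * v * (g : G)⁻¹ := fun g v => rfl
  let yN : N := ⟨y, hyV⟩
  let incl : P → N := fun x => ⟨x, hPV x.2⟩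
  -- the norm
  have hpow : ∀ (v : V) (k : ℕ),
      ((v : G) * y) ^ k = ((∏ i ∈ Finset.range k, ρ (yN ^ i) v : V) : G) * y ^ k := by
    intro v k
    induction k with
    | zero => simp
    | succ k ih =>
      rw [pow_succ, ih, Finset.prod_range_succ, Subgroup.coe_mul, hρ, SubgroupClass.coe_pow, pow_succ]
      show _ * y ^ k * ((v : G) * y) = _ * (y ^ k * v * (y ^ k)⁻¹) * (y ^ k * y)
      group
  have hnorm : ∀ v : V, ∏ i ∈ Finset.range t, ρ (yN ^ i) v = 1 := fun v => by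
    have h := hcon v v.2
    rw [hpow v t] at h
    exact Subtype.ext (by simpa using h)
  have hsumP : ∀ u : V, ∏ x : P, ρ (incl x) u = 1 := by
    intro u
    have hmem : ((∏ x : P, ρ (incl x) u : V) : G) ∈ V ⊓ centralizer (P : Set G) := by
      refine ⟨SetLike.coe_mem _, mem_centralizer_iff.2 fun x₀ hx₀ => ?_⟩
      have hfix : ρ (incl ⟨x₀, hx₀⟩) (∏ x : P, ρ (incl x) u) = ∏ x : P, ρ (incl x) u := by
        rw [map_prod]
        refine Fintype.prod_equiv (Equiv.mulLeft (⟨x₀, hx₀⟩ : P)) _ _ fun x => ?_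
        rw [Equiv.coe_mulLeft, ← MulAut.mul_apply, ← map_mul]
        rfl
      have h := congrArg Subtype.val hfix
      rw [hρ] at h
      exact mul_inv_eq_iff_eq_mul.1 h
    rw [hV, mem_bot] at hmem
    exact Subtype.ext hmem
  obtain ⟨v₀, hv₀, hv₀1⟩ := V.bot_or_exists_ne_one.resolve_left hVne
  set v : V := ⟨v₀, hv₀⟩ with hv
  have hyi : ∀ i : ℕ, y ^ i ∈ normalizer (P : Set G) := fun i => pow_mem hyP i
  have hbij : ∀ i ∈ Finset.Ico 1 t, Function.Bijective fun x : P =>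
      (⟨(x : G) * (y ^ i * (x : G)⁻¹ * (y ^ i)⁻¹),
        P.mul_mem x.2 ((mem_normalizer_iff.1 (hyi i) _).1 (P.inv_mem x.2))⟩ : P) := by
    intro i hi
    rw [Finset.mem_Ico] at hi
    apply Finite.injective_iff_bijective.1
    intro a b hab
    simp only [Subtype.mk.injEq] at hab
    have h1 : (a : G) * y ^ i * (a : G)⁻¹ = (b : G) * y ^ i * (b : G)⁻¹ := by
      have := congrArg (· * y ^ i) hab
      simpa [mul_assoc] using this
    have hc : y ^ i * ((a : G)⁻¹ * b) = (a : G)⁻¹ * b * y ^ i :=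
      calc y ^ i * ((a : G)⁻¹ * b) = (a : G)⁻¹ * ((a : G) * y ^ i * (a : G)⁻¹) * b := by group
        _ = (a : G)⁻¹ * ((b : G) * y ^ i * (b : G)⁻¹) * b := by rw [h1]
        _ = (a : G)⁻¹ * b * y ^ i := by group
    exact Subtype.ext (inv_mul_eq_one.1 (hfpf i (by omega) hi.2 _ (P.mul_mem (P.inv_mem a.2) b.2) hc))
  have hsumT : ∀ x : P, ∏ i ∈ Finset.range t, ρ (incl x * yN ^ i * (incl x)⁻¹) v = 1 := by
    intro x
    have h1 : ∀ i : ℕ, ρ (incl x * yN ^ i * (incl x)⁻¹) v = ρ (incl x) (ρ (yN ^ i) (ρ (incl x)⁻¹ v)) := by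
      intro i; rw [map_mul, map_mul, MulAut.mul_apply, MulAut.mul_apply]
    simp only [h1, ← map_prod, hnorm, map_one]
  have hrow : ∀ i ∈ Finset.Ico 1 t, ∏ x : P, ρ (incl x * yN ^ i * (incl x)⁻¹) v = 1 := by
    intro i hi
    rw [← hsumP (ρ (yN ^ i) v)]
    refine Fintype.prod_bijective _ (hbij i hi) _ _ fun x => ?_
    simp only [← MulAut.mul_apply, ← map_mul]
    refine congrArg (fun g => ρ g v) (Subtype.ext ?_)
    show (x : G) * y ^ i * (x : G)⁻¹ = (x : G) * (y ^ i * (x : G)⁻¹ * (y ^ i)⁻¹) * y ^ i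
    group
  have htotal : ∏ x : P, ∏ i ∈ Finset.range t, ρ (incl x * yN ^ i * (incl x)⁻¹) v = 1 :=
    Finset.prod_eq_one fun x _ => hsumT x
  rw [Finset.prod_comm, Finset.range_eq_Ico, Finset.prod_eq_prod_Ico_succ_bot ht,
    Finset.prod_eq_one hrow, mul_one] at htotal
  simp only [pow_zero, mul_one, mul_inv_cancel, map_one, MulAut.one_apply, Finset.prod_const,
    Finset.card_univ, ← Nat.card_eq_fintype_card] at htotal
  exact hv₀1 (congrArg Subtype.val
    (orderOf_eq_one_iff.1 (Nat.eq_one_of_dvd_coprimes hcop (orderOf_dvd_of_pow_eq_one htotal)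
      (orderOf_dvd_natCard v))))

/-- A fixed point from the norm. -/
theorem exists_fixed (P V : Subgroup G) (y : G) (t : ℕ) (ht : 0 < t)
    (hVc : ∀ a ∈ V, ∀ b ∈ V, a * b = b * a)
    (hPV : P ≤ normalizer (V : Set G)) (hyV : y ∈ normalizer (V : Set G))
    (hyP : y ∈ normalizer (P : Set G)) (hyt : y ^ t ∈ centralizer (V : Set G))
    (hfpf : ∀ i : ℕ, 0 < i → i < t → ∀ x ∈ P, y ^ i * x = x * y ^ i → x = 1)
    (hV : V ⊓ centralizer (P : Set G) = ⊥) (hVne : V ≠ ⊥)
    (hcop : (Nat.card P).Coprime (Nat.card V)) :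
    ∃ v ∈ V, v ≠ 1 ∧ Commute y v := by
  obtain ⟨v, hv, hne⟩ := exists_norm_ne_one P V y t ht hVc hPV hyV hyP hfpf hV hVne hcop
  have hconjn : ∀ k : ℕ, ∀ u ∈ V, y ^ k * u * (y ^ k)⁻¹ ∈ V := fun k u hu =>
    (mem_normalizer_iff.1 (pow_mem hyV k) u).1 hu
  have hwV : ∀ k : ℕ, (v * y) ^ k * (y ^ k)⁻¹ ∈ V := by
    intro k
    induction k with
    | zero => simp
    | succ k ih =>
      rw [show (v * y) ^ (k + 1) * (y ^ (k + 1))⁻¹ =
          (v * y) ^ k * (y ^ k)⁻¹ * (y ^ k * v * (y ^ k)⁻¹) by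
        rw [pow_succ, pow_succ]; group]
      exact V.mul_mem ih (hconjn k v hv)
  set w := (v * y) ^ t * (y ^ t)⁻¹ with hw
  refine ⟨w, hwV t, fun h => hne (mul_inv_eq_one.1 h), ?_⟩
  have h1 : (v * y) ^ t = w * y ^ t := by rw [hw, inv_mul_cancel_right]
  have h2 : (y * v) ^ t = w * y ^ t :=
    calc (y * v) ^ t = (v⁻¹ * (v * y) * v⁻¹⁻¹) ^ t := by group
      _ = v⁻¹ * (v * y) ^ t * v⁻¹⁻¹ := conj_pow
      _ = v⁻¹ * (w * y ^ t) * v := by rw [h1, inv_inv]
      _ = v⁻¹ * w * (y ^ t * v) := by group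
      _ = v⁻¹ * w * (v * y ^ t) := by rw [← mem_centralizer_iff.1 hyt v hv]
      _ = v⁻¹ * (w * v) * y ^ t := by group
      _ = v⁻¹ * (v * w) * y ^ t := by rw [hVc w (hwV t) v hv]
      _ = w * y ^ t := by group
  have h3 : y * (v * y) ^ t * y⁻¹ = (y * v) ^ t := by
    rw [← conj_pow]; congr 1; group
  rw [h1, h2] at h3
  show y * w = w * y
  calc y * w = y * (w * y ^ t) * y⁻¹ * (y ^ t)⁻¹ * y := by group
    _ = w * y ^ t * (y ^ t)⁻¹ * y := by rw [h3]
    _ = w * y := by group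

/-- If all powers of `y` act fixed-point-freely on `P` and `y` has no fixed point on `V`, then `P`
centralises `V`. -/
theorem le_centralizer_of_no_fixed (P V : Subgroup G) (y : G) (t : ℕ) (ht : 0 < t)
    (hVc : ∀ a ∈ V, ∀ b ∈ V, a * b = b * a)
    (hPV : P ≤ normalizer (V : Set G)) (hyV : y ∈ normalizer (V : Set G))
    (hyP : y ∈ normalizer (P : Set G)) (hyt : y ^ t ∈ centralizer (V : Set G))
    (hfpf : ∀ i : ℕ, 0 < i → i < t → ∀ x ∈ P, y ^ i * x = x * y ^ i → x = 1)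
    (hfix : ∀ v ∈ V, Commute y v → v = 1)
    (hcop : (Nat.card P).Coprime (Nat.card V)) :
    P ≤ centralizer (V : Set G) := by
  have : IsMulCommutative V := ⟨⟨fun a b => Subtype.ext (hVc a a.2 b b.2)⟩⟩
  by_contra hne
  have hW : ⁅V, P⁆ ≠ ⊥ := fun h => hne
    (Subgroup.commutator_eq_bot_iff_le_centralizer.1 (Subgroup.commutator_comm P V ▸ h))
  have hle : ⁅V, P⁆ ≤ V := Coprime.commutator_le_of_normalizes hPV
  have hyW : y ∈ normalizer ((⁅V, P⁆ : Subgroup G) : Set G) := by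
    rw [mem_normalizer_iff_map_conj_eq, Subgroup.map_commutator]
    have h1 := mem_normalizer_iff_map_conj_eq.1 hyV
    have h2 := mem_normalizer_iff_map_conj_eq.1 hyP
    rw [h1, h2]
  obtain ⟨v, hv, hv1, hc⟩ := exists_fixed P ⁅V, P⁆ y t ht
    (fun a ha b hb => hVc a (hle ha) b (hle hb)) (Coprime.le_normalizer_commutator_right V P) hyW hyP
    (centralizer_le hle hyt) hfpf (Coprime.commutator_inf_centralizer_eq_bot P V hPV hcop) hW
    (hcop.coprime_dvd_right (Subgroup.card_dvd_of_le hle))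
  exact hv1 (hfix v (hle hv) hc)

/-- An element of prime order without fixed points on an abelian group centralises, modulo the
centraliser of that group, every abelian or odd subgroup of coprime prime-power order it normalises. -/
theorem commutator_le_centralizer {a b d : ℕ} [Fact a.Prime] [Fact b.Prime] [Fact d.Prime]
    (hba : b ≠ a) (hdb : d ≠ b) (hda : d ≠ a) (R V : Subgroup G) (δ : G) (hδ : orderOf δ = d)
    (hR : IsPGroup b R) (hV : IsPGroup a V) (hVc : ∀ x ∈ V, ∀ y ∈ V, x * y = y * x)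
    (hδR : δ ∈ normalizer (R : Set G)) (hRV : R ≤ normalizer (V : Set G))
    (hδV : δ ∈ normalizer (V : Set G)) (hfix : ∀ v ∈ V, Commute δ v → v = 1)
    (hRodd : b ≠ 2 ∨ IsMulCommutative R) :
    ⁅R, zpowers δ⁆ ≤ centralizer (V : Set G) := by
  have hzR : zpowers δ ≤ normalizer (R : Set G) := zpowers_le.2 hδR
  have hcd : Nat.card (zpowers δ) = d := by rw [Nat.card_zpowers, hδ]
  by_cases hd2 : d = 2
  · -- an involution inverts `V`
    have hδ2 : δ ^ 2 = 1 := by rw [← hd2, ← hδ, pow_orderOf_eq_one]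
    have hinv : ∀ v ∈ V, δ * v * δ⁻¹ = v⁻¹ := by
      intro v hv
      have hu : δ * v * δ⁻¹ ∈ V := (mem_normalizer_iff.1 hδV v).1 hv
      have hfixed : δ * (v * (δ * v * δ⁻¹)) * δ⁻¹ = v * (δ * v * δ⁻¹) :=
        calc δ * (v * (δ * v * δ⁻¹)) * δ⁻¹ = δ * v * δ⁻¹ * (δ ^ 2 * v * (δ ^ 2)⁻¹) := by
              rw [pow_two]; group
          _ = δ * v * δ⁻¹ * v := by rw [hδ2]; group
          _ = v * (δ * v * δ⁻¹) := hVc _ hu v hv
      exact eq_inv_of_mul_eq_one_right
        (hfix _ (V.mul_mem hv hu) (mul_inv_eq_iff_eq_mul.1 hfixed))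
    refine Subgroup.commutator_le.2 fun r hr g hg => ?_
    obtain ⟨k, rfl⟩ := (mem_powers_iff_mem_zpowers.2 hg)
    have hk : δ ^ k = 1 ∨ δ ^ k = δ := by
      rw [pow_eq_pow_mod k hδ2]
      rcases Nat.mod_two_eq_zero_or_one k with h | h <;> simp [h]
    show ⁅r, δ ^ k⁆ ∈ _
    rcases hk with hk | hk
    · rw [hk, commutatorElement_one_right]; exact one_mem _
    rw [hk]
    refine mem_centralizer_iff.2 fun v hv => ?_
    have h1 : δ⁻¹ * v * δ ∈ V := (mem_normalizer_iff''.1 hδV v).1 hv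
    have h2 : r⁻¹ * (δ⁻¹ * v * δ) * r ∈ V := (mem_normalizer_iff''.1 (hRV hr) _).1 h1
    have h3 : δ⁻¹ * v * δ = v⁻¹ := by
      rw [← inv_inj, inv_inv, ← hinv _ h1]; group
    have key : ⁅r, δ⁆ * v * ⁅r, δ⁆⁻¹ = v := by
      rw [commutatorElement_def]
      calc r * δ * r⁻¹ * δ⁻¹ * v * (r * δ * r⁻¹ * δ⁻¹)⁻¹
          = r * (δ * (r⁻¹ * (δ⁻¹ * v * δ) * r) * δ⁻¹) * r⁻¹ := by group
        _ = r * (r⁻¹ * (δ⁻¹ * v * δ) * r)⁻¹ * r⁻¹ := by rw [hinv _ h2]
        _ = (δ⁻¹ * v * δ)⁻¹ := by group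
        _ = v := by rw [h3, inv_inv]
    exact (mul_inv_eq_iff_eq_mul.1 key).symm
  by_cases hab : IsMulCommutative R
  · set P := ⁅R, zpowers δ⁆ with hP
    have hPR : P ≤ R := Coprime.commutator_le_of_normalizes hzR
    obtain ⟨k, hk⟩ := hR.exists_card_eq
    have hcopR : (Nat.card (zpowers δ)).Coprime (Nat.card R) := by
      rw [hcd, hk]; exact ((Nat.coprime_primes Fact.out Fact.out).2 hdb).pow_right k
    refine le_centralizer_of_no_fixed P V δ d (Fact.out : d.Prime).pos hVc (hPR.trans hRV) hδV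
      (Coprime.le_normalizer_commutator_right R _ (mem_zpowers δ))
      (by rw [← hδ, pow_orderOf_eq_one]; exact one_mem _) ?_ hfix ?_
    · intro i hi hid x hx hc
      have hmem : x ∈ P ⊓ centralizer (zpowers δ : Set G) := by
        refine ⟨hx, ?_⟩
        obtain ⟨j, hj⟩ := exists_pow_eq_self_of_coprime (x := δ) (n := i) (by
          rw [hδ]
          exact ((Fact.out : d.Prime).coprime_iff_not_dvd.2
            (Nat.not_dvd_of_pos_of_lt hi hid)).symm)
        have h1 : Commute δ x := hj ▸ (Commute.pow_left hc j)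
        exact mem_centralizer_iff.2 fun g hg => by
          obtain ⟨n, rfl⟩ := mem_zpowers_iff.1 hg
          exact (h1.zpow_left n).eq
      rw [hP, Coprime.commutator_inf_centralizer_eq_bot _ R hzR hcopR] at hmem
      exact mem_bot.1 hmem
    · obtain ⟨j, hj⟩ := (hR.to_le hPR).exists_card_eq
      obtain ⟨l, hl⟩ := hV.exists_card_eq
      rw [hj, hl]
      exact Nat.Coprime.pow j l ((Nat.coprime_primes Fact.out Fact.out).2 hba)
  · exact OddOrder41.commutator_le_centralizer_of_fpf (p := d) (q := b) (ℓ := a) hd2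
      (hRodd.resolve_right hab) hdb hda hba R (zpowers δ) V hR hcd hV hzR
      (sup_le hRV (zpowers_le.2 hδV))
      (eq_bot_iff.2 fun v hv => mem_bot.2 (hfix v hv.1
        (mem_centralizer_iff.1 hv.2 δ (mem_zpowers δ))))

end CfsgLib.SzSquare
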