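import Cfsg.Agent.Lib.SzSquare.FixedTool
import Cfsg.Agent.Lib.Solvable.CoprimeGeneration
import Cfsg.Agent.Lib.Solvable.Fitting

/-!
Pairs of independent commuting elements of the same prime order, and the absence of elements whose
order involves three primes of a given set.
-/

set_option autoImplicit false
set_option linter.style.haveILetI false

namespace CfsgLib.SzSquare

open Subgroup
open scoped commutatorElement

universe u

variable {G : Type u} [Group G]

/-- `H` contains two independent commuting elements of order `p`. -/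
def HasSquare (p : ℕ) (H : Subgroup G) : Prop :=
  ∃ x ∈ H, ∃ y ∈ H, orderOf x = p ∧ orderOf y = p ∧ Commute x y ∧ y ∉ zpowers x

theorem HasSquare.mono {p : ℕ} {H K : Subgroup G} (h : HasSquare p H) (hle : H ≤ K) :
    HasSquare p K := by
  obtain ⟨x, hx, y, hy, h⟩ := h
  exact ⟨x, hle hx, y, hle hy, h⟩

theorem mem_zpowers_of_not_square {p : ℕ} {H : Subgroup G} (h : ¬ HasSquare p H) {x y : G}
    (hx : x ∈ H) (hy : y ∈ H) (hox : orderOf x = p) (hoy : orderOf y = p) (hc : Commute x y) :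
    y ∈ zpowers x :=
  by_contra fun hn => h ⟨x, hx, y, hy, hox, hoy, hc, hn⟩

theorem HasSquare.map {G' : Type*} [Group G'] (f : G →* G') {p : ℕ} {H : Subgroup G}
    (h : HasSquare p H) (hinj : Set.InjOn f H) : HasSquare p (H.map f) := by
  obtain ⟨x, hx, y, hy, hox, hoy, hc, hn⟩ := h
  let g : H →* G' := f.comp H.subtype
  have hg : Function.Injective g := fun a b hab => Subtype.ext (hinj a.2 b.2 hab)
  refine ⟨f x, ⟨x, hx, rfl⟩, f y, ⟨y, hy, rfl⟩, ?_, ?_, hc.map f, fun hm => hn ?_⟩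
  · rw [show f x = g ⟨x, hx⟩ from rfl, orderOf_injective g hg, ← hox, ← Subgroup.orderOf_coe]
  · rw [show f y = g ⟨y, hy⟩ from rfl, orderOf_injective g hg, ← hoy, ← Subgroup.orderOf_coe]
  · obtain ⟨k, hk⟩ := mem_zpowers_iff.1 hm
    rw [← map_zpow] at hk
    exact ⟨k, hinj (H.zpow_mem hx k) hy hk⟩

/-- No element has order divisible by three distinct primes of `ρ`. -/
def NoTriple (ρ : Finset ℕ) (G : Type u) [Group G] : Prop :=
  ∀ g : G, ∀ p ∈ ρ, ∀ q ∈ ρ, ∀ r ∈ ρ, p ≠ q → p ≠ r → q ≠ r → ¬ p * q * r ∣ orderOf g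

variable [Finite G]

/-- Three pairwise commuting elements cannot involve three primes of `ρ`. -/
theorem NoTriple.false_of_commute {ρ : Finset ℕ} (hρ : ∀ p ∈ ρ, p.Prime) (hT : NoTriple ρ G)
    {p q r : ℕ} (hp : p ∈ ρ) (hq : q ∈ ρ) (hr : r ∈ ρ) (hpq : p ≠ q) (hpr : p ≠ r) (hqr : q ≠ r)
    {x y z : G} (hx : p ∣ orderOf x) (hy : q ∣ orderOf y) (hz : r ∣ orderOf z)
    (hxy : Commute x y) (hxz : Commute x z) (hyz : Commute y z) : False := by
  have hpow : ∀ {a : G} {s : ℕ}, s ∣ orderOf a → orderOf (a ^ (orderOf a / s)) = s := fun {a s} hs =>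
    orderOf_pow_orderOf_div (orderOf_pos a).ne' hs
  have cp := fun {a b : ℕ} (ha : a ∈ ρ) (hb : b ∈ ρ) (h : a ≠ b) =>
    (Nat.coprime_primes (hρ a ha) (hρ b hb)).2 h
  set a := x ^ (orderOf x / p)
  set b := y ^ (orderOf y / q)
  set c := z ^ (orderOf z / r)
  have hab : orderOf (a * b) = p * q := by
    rw [(hxy.pow_pow _ _).orderOf_mul_eq_mul_orderOf_of_coprime (by rw [hpow hx, hpow hy]; exact cp hp hq hpq),
      hpow hx, hpow hy]
  have habc : orderOf (a * b * c) = p * q * r := by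
    rw [((hxz.pow_pow _ _).mul_left (hyz.pow_pow _ _)).orderOf_mul_eq_mul_orderOf_of_coprime
      (by rw [hab, hpow hz]; exact Nat.Coprime.mul_left (cp hp hr hpr) (cp hq hr hqr)), hab, hpow hz]
  exact hT (a * b * c) p hp q hq r hr hpq hpr hqr habc.symm.dvd

omit [Finite G] in
theorem dvd_orderOf_of_mem {p : ℕ} [Fact p.Prime] {Q : Subgroup G} (hQ : IsPGroup p Q) {x : G}
    (hx : x ∈ Q) (hx1 : x ≠ 1) : p ∣ orderOf x := by
  obtain ⟨k, hk⟩ := IsPGroup.iff_orderOf.1 hQ ⟨x, hx⟩
  rw [← Subgroup.orderOf_coe] at hk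
  rcases k with _ | k
  · exact absurd (orderOf_eq_one_iff.1 (by simpa using hk)) hx1
  · rw [hk]; exact dvd_pow_self p (Nat.succ_ne_zero k)

/-- A nontrivial `p`-subgroup contains a central element of order `p`. -/
theorem exists_central {p : ℕ} [hp : Fact p.Prime] {Q : Subgroup G} (hQ : IsPGroup p Q) (h1 : Q ≠ ⊥) :
    ∃ z ∈ Q, orderOf z = p ∧ ∀ x ∈ Q, Commute z x := by
  haveI : Nontrivial Q := Q.nontrivial_iff_ne_bot.2 h1
  haveI := hQ.center_nontrivial
  obtain ⟨z₀, hz₀⟩ := exists_ne (1 : center Q)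
  obtain ⟨k, hk⟩ := (hQ.to_subgroup (center Q)).exists_card_eq
  have hd : p ∣ Nat.card (center Q) := by
    rcases k with _ | k
    · rw [pow_zero] at hk
      exact absurd ((Subgroup.card_eq_one.1 hk) ▸ z₀.2) (fun h => hz₀ (Subtype.ext (mem_bot.1 h)))
    · rw [hk]; exact dvd_pow_self p (Nat.succ_ne_zero k)
  obtain ⟨z, hz⟩ := exists_prime_orderOf_dvd_card' p hd
  refine ⟨((z : Q) : G), (z : Q).2, by rw [Subgroup.orderOf_coe, Subgroup.orderOf_coe, hz], fun x hx => ?_⟩
  exact congrArg Subtype.val (mem_center_iff.1 z.2 ⟨x, hx⟩).symm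

/-- A `p`-subgroup without a square has a subgroup of order `p` invariant under its normaliser. -/
theorem exists_normalised_prime {p : ℕ} [hp : Fact p.Prime] {Q : Subgroup G} (hQ : IsPGroup p Q)
    (h1 : Q ≠ ⊥) (hns : ¬ HasSquare p Q) :
    ∃ z ∈ Q, orderOf z = p ∧ (∀ x ∈ Q, Commute z x) ∧ (∀ x ∈ Q, orderOf x = p → x ∈ zpowers z) ∧
      ∀ g ∈ normalizer (Q : Set G), g * z * g⁻¹ ∈ zpowers z := by
  obtain ⟨z, hz, hzo, hzc⟩ := exists_central hQ h1
  have huniq : ∀ x ∈ Q, orderOf x = p → x ∈ zpowers z := fun x hx hxo =>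
    mem_zpowers_of_not_square hns hz hx hzo hxo (hzc x hx)
  refine ⟨z, hz, hzo, hzc, huniq, fun g hg => huniq _ ((mem_normalizer_iff.1 hg z).1 hz) ?_⟩
  rw [← MulAut.conj_apply, MulEquiv.orderOf_eq, hzo]

/-- Some element of a square has a nontrivial fixed point on a subgroup of coprime order. -/
theorem exists_square_fixed {p : ℕ} [hp : Fact p.Prime] {x y : G} (hx : orderOf x = p)
    (hy : orderOf y = p) (hc : Commute x y) (hn : y ∉ zpowers x) (K : Subgroup G) (hK : K ≠ ⊥)
    (hxK : x ∈ normalizer (K : Set G)) (hyK : y ∈ normalizer (K : Set G))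
    (hcop : ¬ p ∣ Nat.card K) :
    ∃ e ∈ closure ({x, y} : Set G), orderOf e = p ∧ ∃ k ∈ K, k ≠ 1 ∧ Commute e k := by
  set A := closure ({x, y} : Set G) with hA
  haveI : IsMulCommutative A := Subgroup.isMulCommutative_closure fun a ha b hb => by
    rcases ha with rfl | rfl <;> rcases hb with rfl | rfl
    exacts [rfl, hc.eq, hc.eq.symm, rfl]
  have hexp : ∀ a ∈ A, a ^ p = 1 := by
    intro a ha
    induction ha using closure_induction with
    | mem a ha =>
      rcases ha with rfl | rfl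
      · rw [← hx, pow_orderOf_eq_one]
      · rw [← hy, pow_orderOf_eq_one]
    | one => exact one_pow p
    | mul a b ha hb iha ihb =>
      rw [(show Commute a b from congrArg Subtype.val
        (mul_comm' (⟨a, ha⟩ : A) ⟨b, hb⟩)).mul_pow, iha, ihb, one_mul]
    | inv a _ iha => rw [inv_pow, iha, inv_one]
  have hord : ∀ a ∈ A, a ≠ 1 → orderOf a = p := fun a ha h1 => orderOf_eq_prime (hexp a ha) h1
  have hxA : x ∈ A := subset_closure (by simp)
  have hyA : y ∈ A := subset_closure (by simp)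
  have hnc : ¬ IsCyclic A := by
    intro h
    obtain ⟨⟨g, hg⟩, hgen⟩ := h.exists_generator
    have hgo : orderOf g ∣ p := orderOf_dvd_of_pow_eq_one (hexp g hg)
    have hcard : Nat.card A ∣ p := by
      rw [← orderOf_eq_card_of_forall_mem_zpowers hgen, ← Subgroup.orderOf_coe]; exact hgo
    have hz : Nat.card (zpowers x) = p := by rw [Nat.card_zpowers, hx]
    have : zpowers x = A := eq_of_le_of_card_ge (zpowers_le.2 hxA)
      (hz.symm ▸ Nat.le_of_dvd hp.out.pos hcard)
    exact hn (this.symm ▸ hyA)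
  have hAK : A ≤ normalizer (K : Set G) := (closure_le _).2 (by
    rintro a (rfl | rfl)
    exacts [hxK, hyK])
  have hcopA : (Nat.card A).Coprime (Nat.card K) := by
    have hA' : IsPGroup p A := fun a => ⟨1, Subtype.ext (by simpa using hexp a a.2)⟩
    obtain ⟨k, hk⟩ := hA'.exists_card_eq
    rw [hk]
    exact ((Nat.Prime.coprime_iff_not_dvd hp.out).2 hcop).pow_left k
  by_contra hcon
  push Not at hcon
  apply hK
  rw [← CoprimeGeneration.iSup_centralizer_eq A K hnc hAK hcopA, eq_bot_iff]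
  refine iSup₂_le fun a ha => fun k hk => mem_bot.2 ?_
  by_contra hk1
  exact hcon a ha.1 (hord a ha.1 ha.2) k hk.1 hk1 (mem_centralizer_singleton_iff.1 hk.2).symm

/-- An element of prime order `c` normalising a subgroup of prime order `l` with `c ∤ l - 1`
centralises it. -/
theorem commute_of_normalises {c l : ℕ} [Fact c.Prime] [hl : Fact l.Prime] {e z : G}
    (he : orderOf e = c) (hz : orderOf z = l) (hn : e * z * e⁻¹ ∈ zpowers z) (hd : ¬ c ∣ l - 1) :
    Commute e z := by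
  obtain ⟨i, hi⟩ := mem_powers_iff_mem_zpowers.2 hn
  simp only at hi
  have hz1 : z ^ l = 1 := by rw [← hz, pow_orderOf_eq_one]
  have hiter : ∀ k : ℕ, e ^ k * z * (e ^ k)⁻¹ = z ^ i ^ k := by
    intro k
    induction k with
    | zero => simp
    | succ k ih =>
      rw [pow_succ' e, show e * e ^ k * z * (e * e ^ k)⁻¹ = e * (e ^ k * z * (e ^ k)⁻¹) * e⁻¹ by group,
        ih, ← conj_pow, ← hi, ← pow_mul, pow_succ']
  have h := hiter c
  rw [← he, pow_orderOf_eq_one, one_mul, inv_one, mul_one, he] at h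
  have h1 : ((i : ZMod l)) ^ c = 1 := by
    have h2 : i ^ c ≡ 1 [MOD l] := by
      rw [← hz]; exact pow_eq_pow_iff_modEq.1 (by rw [pow_one, ← h])
    have := (ZMod.natCast_eq_natCast_iff' (i ^ c) 1 l).2 h2
    simpa using this
  have hord : orderOf (i : ZMod l) ∣ Nat.gcd c (l - 1) :=
    Nat.dvd_gcd (orderOf_dvd_of_pow_eq_one h1) (ZMod.orderOf_dvd_card_sub_one fun h0 => by
      rw [h0, zero_pow (Nat.Prime.ne_zero Fact.out)] at h1
      exact zero_ne_one h1)
  rw [Nat.Coprime.gcd_eq_one ((Nat.Prime.coprime_iff_not_dvd Fact.out).2 hd), Nat.dvd_one,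
    orderOf_eq_one_iff] at hord
  have hi1 : z ^ i = z := by
    conv_rhs => rw [← pow_one z]
    rw [pow_eq_pow_iff_modEq, hz]
    exact (ZMod.natCast_eq_natCast_iff i 1 l).1 (by simpa using hord)
  show e * z = z * e
  calc e * z = e * z * e⁻¹ * e := by group
    _ = z * e := by rw [← hi, hi1]

/-- Some element of a square centralises a normalised subgroup of prime order. -/
theorem exists_square_commute {p l : ℕ} [hp : Fact p.Prime] [hl : Fact l.Prime] {x y z : G}
    (hx : orderOf x = p) (hy : orderOf y = p) (hc : Commute x y) (hn : y ∉ zpowers x)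
    (hz : orderOf z = l) (hxz : x * z * x⁻¹ ∈ zpowers z) (hyz : y * z * y⁻¹ ∈ zpowers z) :
    ∃ e ∈ closure ({x, y} : Set G), orderOf e = p ∧ Commute e z := by
  obtain ⟨i, hi⟩ := mem_powers_iff_mem_zpowers.2 hxz
  obtain ⟨j, hj⟩ := mem_powers_iff_mem_zpowers.2 hyz
  simp only at hi hj
  have hxA : x ∈ closure ({x, y} : Set G) := subset_closure (by simp)
  have hyA : y ∈ closure ({x, y} : Set G) := subset_closure (by simp)
  by_cases hxc : Commute x z
  · exact ⟨x, hxA, hx, hxc⟩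
  have pw : ∀ (g : G) (a : ℕ), g * z * g⁻¹ = z ^ a → ∀ k : ℕ, g ^ k * z * (g ^ k)⁻¹ = z ^ a ^ k := by
    intro g a hg k
    induction k with
    | zero => simp
    | succ k ih =>
      rw [pow_succ' g, show g * g ^ k * z * (g * g ^ k)⁻¹ = g * (g ^ k * z * (g ^ k)⁻¹) * g⁻¹ by group,
        ih, ← conj_pow, hg, ← pow_mul, pow_succ']
  have toZ : ∀ a : ℕ, z ^ a = z → (a : ZMod l) = 1 := fun a ha => by
    have : z ^ a = z ^ 1 := by rw [pow_one, ha]
    rw [pow_eq_pow_iff_modEq, hz] at this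
    simpa using (ZMod.natCast_eq_natCast_iff a 1 l).2 this
  have ofZ : ∀ a b : ℕ, (a : ZMod l) = b → z ^ a = z ^ b := fun a b h => by
    rw [pow_eq_pow_iff_modEq, hz]; exact (ZMod.natCast_eq_natCast_iff a b l).1 h
  have root : ∀ (g : G) (a : ℕ), orderOf g = p → g * z * g⁻¹ = z ^ a → (a : ZMod l) ^ p = 1 := by
    intro g a hg ha
    have h := pw g a ha p
    rw [← hg, pow_orderOf_eq_one, one_mul, inv_one, mul_one, hg] at h
    simpa using toZ (a ^ p) h.symm
  have hi1 : (i : ZMod l) ≠ 1 := fun h => hxc (by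
    have h1 := ofZ i 1 (by simpa using h)
    rw [pow_one] at h1
    show x * z = z * x
    calc x * z = x * z * x⁻¹ * x := by group
      _ = z * x := by rw [← hi, h1])
  have hprim : IsPrimitiveRoot (i : ZMod l) p :=
    IsPrimitiveRoot.iff_orderOf.2 (orderOf_eq_prime (root x i hx hi.symm) hi1)
  obtain ⟨k, -, hk⟩ := hprim.eq_pow_of_pow_eq_one (root y j hy hj.symm)
  have hne : y * (x ^ k)⁻¹ ≠ 1 := fun h => hn (by rw [mul_inv_eq_one.1 h]; exact npow_mem_zpowers x k)
  refine ⟨y * (x ^ k)⁻¹, mul_mem hyA (inv_mem (pow_mem hxA k)), orderOf_eq_prime ?_ hne, ?_⟩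
  · rw [((hc.symm.pow_right k).inv_right).mul_pow, ← hy, pow_orderOf_eq_one, one_mul, hy, inv_pow,
      ← pow_mul, mul_comm, pow_mul, ← hx, pow_orderOf_eq_one, one_pow, inv_one]
  · have h1 : y * z * y⁻¹ = x ^ k * z * (x ^ k)⁻¹ := by
      rw [pw x i hi.symm k, ← hj]
      exact ofZ _ _ (by rw [← hk]; simp)
    show y * (x ^ k)⁻¹ * z = z * (y * (x ^ k)⁻¹)
    have h2 : (x ^ k)⁻¹ * y * z = z * ((x ^ k)⁻¹ * y) :=
      calc (x ^ k)⁻¹ * y * z = (x ^ k)⁻¹ * (y * z * y⁻¹) * y := by group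
        _ = z * ((x ^ k)⁻¹ * y) := by rw [h1]; group
    rwa [((hc.pow_left k).inv_left).eq] at h2

/-- A nontrivial solvable group has a nontrivial `p`-core for some prime divisor of its order. -/
theorem exists_core {Y : Subgroup G} (hs : Group.IsSolvable Y) (h1 : Y ≠ ⊥) :
    ∃ p : ℕ, p.Prime ∧ p ∣ Nat.card Y ∧ ∃ Q : Subgroup G, IsPGroup p Q ∧ Q ≤ Y ∧ Q ≠ ⊥ ∧
      normalizer (Y : Set G) ≤ normalizer (Q : Set G) := by
  haveI : Nontrivial Y := Y.nontrivial_iff_ne_bot.2 h1
  obtain ⟨p, hp, -, hne⟩ := Fitting.exists_pCore_ne_bot (G := Y)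
  haveI := Fact.mk hp
  haveI := Fitting.pCore_characteristic (G := Y) p
  obtain ⟨k, hk⟩ := (Fitting.pCore_isPGroup (G := Y) p).exists_card_eq
  refine ⟨p, hp, ?_, (Cfsg.pCore p Y).map Y.subtype,
    (Fitting.pCore_isPGroup (G := Y) p).map _, map_subtype_le _, ?_, ?_⟩
  · rcases k with _ | k
    · exact absurd (Subgroup.card_eq_one.1 (by simpa using hk)) hne
    · exact (hk ▸ dvd_pow_self p (Nat.succ_ne_zero k)).trans (Subgroup.card_subgroup_dvd_card _)
  · rw [Ne, map_eq_bot_iff_of_injective _ Y.subtype_injective]; exact hne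
  · intro g hg
    rw [mem_normalizer_iff_map_conj_eq, map_map]
    have hY := mem_normalizer_iff_map_conj_eq.1 hg
    let e : Y ≃* Y := ((MulAut.conj g).subgroupMap Y).trans (MulEquiv.subgroupCongr hY)
    have he : (Cfsg.pCore p Y).map e.toMonoidHom = Cfsg.pCore p Y :=
      Subgroup.characteristic_iff_map_eq.1 inferInstance e
    conv_rhs => rw [← he, map_map]
    rfl

/-- An element of a solvable group centralising all normal subgroups of prime-power order lies among
them. -/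
theorem mem_of_centralises {Y K : Subgroup G} (hs : Group.IsSolvable Y)
    (hK : ∀ (p : ℕ), p.Prime → ∀ Q : Subgroup G, IsPGroup p Q → Q ≤ Y →
      Y ≤ normalizer (Q : Set G) → Q ≤ K)
    {y : G} (hy : y ∈ Y) (hc : ∀ x ∈ K, Commute y x) : y ∈ K := by
  have hle : (Cfsg.fittingSubgroup Y).map Y.subtype ≤ K := by
    rw [Fitting.fitting_eq_iSup_pCore, Subgroup.map_iSup]
    refine iSup_le fun p => ?_
    have hp := Nat.prime_of_mem_primeFactors p.2
    haveI := Fact.mk hp
    haveI := Fitting.pCore_normal (G := Y) (p : ℕ)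
    refine hK p hp _ ((Fitting.pCore_isPGroup (G := Y) (p : ℕ)).map _) (map_subtype_le _) ?_
    intro g hg
    rw [mem_normalizer_iff_map_conj_eq, map_map]
    conv_rhs => rw [← Normal.map_conj_eq (Cfsg.pCore (p : ℕ) Y) ⟨g, hg⟩, map_map]
    rfl
  have : (⟨y, hy⟩ : Y) ∈ Cfsg.fittingSubgroup Y :=
    Fitting.centralizer_fitting_le (mem_centralizer_iff.2 fun x hx => Subtype.ext
      (hc (x : G) (hle ⟨x, hx, rfl⟩)).eq.symm)
  exact hle ⟨⟨y, hy⟩, this, rfl⟩

end CfsgLib.SzSquare
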