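import Cfsg.Agent.Lib.SzSquare.Model
import Cfsg.Agent.Lib.SzSquare.SquareTools
import Cfsg.Agent.Lib.PGroup.Frattini
import Cfsg.Agent.Lib.Coprime.Commutator
import Mathlib.GroupTheory.Perm.Cycle.Type
import Mathlib.GroupTheory.Frattini

/-!
Lifting elements of small order through extensions by solvable groups.
-/

set_option autoImplicit false
set_option linter.style.haveILetI false

namespace CfsgLib.SzSquare

open Subgroup
open scoped commutatorElement

universe u v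

variable {G : Type u} [Group G] [Finite G] {Q : Type v} [Group Q]

/-- An involution stabilising an odd coset fixes one of its elements. -/
theorem exists_fixed_in_coset (W : Subgroup G) (hW : Odd (Nat.card W)) {u g : G} (hu : u * u = 1)
    (huW : u ∈ normalizer (W : Set G)) (hg : u * g * u⁻¹ * g⁻¹ ∈ W) :
    ∃ w ∈ W, Commute u (w * g) := by
  classical
  have := Fintype.ofFinite W
  have hmem : ∀ w : W, u * ((w : G) * g) * u⁻¹ * g⁻¹ ∈ W := fun w => by
    rw [show u * ((w : G) * g) * u⁻¹ * g⁻¹ = u * w * u⁻¹ * (u * g * u⁻¹ * g⁻¹) by group]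
    exact W.mul_mem ((mem_normalizer_iff.1 huW _).1 w.2) hg
  let σ : W → W := fun w => ⟨_, hmem w⟩
  have hinv : Function.Involutive σ := fun w => Subtype.ext (by
    show u * (u * ((w : G) * g) * u⁻¹ * g⁻¹ * g) * u⁻¹ * g⁻¹ = w
    rw [show u * (u * ((w : G) * g) * u⁻¹ * g⁻¹ * g) * u⁻¹ * g⁻¹
      = u * u * w * g * (u * u)⁻¹ * g⁻¹ by group, hu]
    group)
  haveI : Fact (Nat.Prime 2) := ⟨Nat.prime_two⟩
  have hdvd : ¬ 2 ∣ Fintype.card W := by
    rw [← Nat.card_eq_fintype_card, ← even_iff_two_dvd, Nat.not_even_iff_odd]; exact hW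
  obtain ⟨w, hw⟩ := Equiv.Perm.exists_fixed_point_of_prime (n := 1) hdvd (σ := hinv.toPerm σ)
    (by ext x; simp [pow_succ, hinv x])
  refine ⟨w, w.2, ?_⟩
  have h : u * ((w : G) * g) * u⁻¹ * g⁻¹ = w := congrArg Subtype.val hw
  exact mul_inv_eq_iff_eq_mul.1 (mul_inv_eq_iff_eq_mul.1 h)

/-- A solvable normal subgroup has a normal elementary abelian section for each of its primes. -/
theorem exists_section {O : Subgroup G} (hO : O.Normal) (hs : Group.IsSolvable O) {r : ℕ}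
    (hr : r.Prime) (h : r ∣ Nat.card O) :
    ∃ U W : Subgroup G, U.Normal ∧ W.Normal ∧ W ≤ U ∧ U ≤ O ∧
      (∀ a ∈ U, ∀ b ∈ U, ⁅a, b⁆ ∈ W) ∧ (∀ a ∈ U, a ^ r ∈ W) ∧ ∃ a ∈ U, a ∉ W := by
  classical
  haveI := Fact.mk hr
  haveI := hO
  let D : ℕ → Subgroup G := fun i => (derivedSeries O i).map O.subtype
  have hDn : ∀ i, (D i).Normal := fun i => ConjAct.normal_of_characteristic_of_normal
  have hDsucc : ∀ i, ∀ a ∈ D i, ∀ b ∈ D i, ⁅a, b⁆ ∈ D (i + 1) := fun i a ha b hb => by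
    show _ ∈ (derivedSeries O (i + 1)).map O.subtype
    rw [derivedSeries_succ, map_commutator]
    exact commutator_mem_commutator ha hb
  have hanti : ∀ i, D (i + 1) ≤ D i := fun i => map_mono (derivedSeries_antitone O (Nat.le_succ i))
  obtain ⟨n, hn⟩ := hs.solvable
  have hex : ∃ i, ¬ r ∣ Nat.card (D i) := ⟨n, by simp [D, hn, hr.ne_one]⟩
  obtain ⟨i, hi⟩ : ∃ i, Nat.find hex = i + 1 := by
    refine Nat.exists_eq_succ_of_ne_zero fun h0 => Nat.find_spec hex ?_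
    rw [h0]
    show r ∣ Nat.card ((derivedSeries O 0).map O.subtype)
    rwa [derivedSeries_zero, ← MonoidHom.range_eq_map, range_subtype]
  have hW : ¬ r ∣ Nat.card (D (i + 1)) := hi ▸ Nat.find_spec hex
  have hUd : r ∣ Nat.card (D i) := not_not.1 (Nat.find_min hex (by omega))
  haveI := hDn (i + 1)
  let q := QuotientGroup.mk' (D (i + 1))
  have hq : ∀ a ∈ D i, ∀ b ∈ D i, Commute (q a) (q b) := fun a ha b hb => by
    rw [← commutatorElement_eq_one_iff_commute, ← map_commutatorElement]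
    exact (QuotientGroup.eq_one_iff _).2 (hDsucc i a ha b hb)
  have hmem : ∀ a : G, a ^ r ∈ D (i + 1) ↔ (q a) ^ r = 1 := fun a => by
    rw [← map_pow]; exact (QuotientGroup.eq_one_iff _).symm
  let U : Subgroup G :=
    { carrier := {a | a ∈ D i ∧ a ^ r ∈ D (i + 1)}
      one_mem' := ⟨one_mem _, by simp⟩
      mul_mem' := fun {a b} ha hb => ⟨mul_mem ha.1 hb.1, by
        rw [hmem, map_mul, (hq a ha.1 b hb.1).mul_pow, (hmem a).1 ha.2, (hmem b).1 hb.2, one_mul]⟩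
      inv_mem' := fun {a} ha => ⟨inv_mem ha.1, by rw [inv_pow]; exact inv_mem ha.2⟩ }
  refine ⟨U, D (i + 1), ⟨fun a ha g => ⟨(hDn i).conj_mem a ha.1 g, by
      rw [conj_pow]; exact (hDn (i + 1)).conj_mem _ ha.2 g⟩⟩, inferInstance,
    fun a ha => ⟨hanti i ha, pow_mem ha r⟩, fun a ha => map_subtype_le _ ha.1,
    fun a ha b hb => hDsucc i a ha.1 b hb.1, fun a ha => ha.2, ?_⟩
  obtain ⟨a, ha⟩ := exists_prime_orderOf_dvd_card' r hUd
  have ha' : orderOf (a : G) = r := by rw [Subgroup.orderOf_coe, ha]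
  refine ⟨a, ⟨a.2, ?_⟩, fun hm => hW (ha' ▸ Subgroup.orderOf_dvd_natCard _ hm)⟩
  rw [← ha', pow_orderOf_eq_one]; exact one_mem _

/-- An involution has a fixed point of order divisible by `r` in an odd normal solvable subgroup, or
inverts a section of it and lies outside the centraliser of that section. -/
theorem centralizer_dvd_or {O : Subgroup G} (hO : O.Normal) (hs : Group.IsSolvable O)
    (hodd : Odd (Nat.card O)) {r : ℕ} (hr : r.Prime) (hrd : r ∣ Nat.card O) {u : G} (hu : u * u = 1) :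
    (∃ v ∈ O, r ∣ orderOf v ∧ Commute u v) ∨
      ∃ C : Subgroup G, C.Normal ∧ (∀ g : G, g * u * g⁻¹ * u⁻¹ ∈ C) ∧ u ∉ C := by
  obtain ⟨U, W, hUn, hWn, hWU, hUO, hcomm, hexp, a, ha, haW⟩ := exists_section hO hs hr hrd
  have hWodd : Odd (Nat.card W) := hodd.of_dvd_nat (card_dvd_of_le (hWU.trans hUO))
  have hr2 : r ≠ 2 := fun e => Nat.not_even_iff_odd.2 hodd (even_iff_two_dvd.2 (e ▸ hrd))
  set q := QuotientGroup.mk' W with hq
  by_cases hfix : ∃ b ∈ U, b ∉ W ∧ u * b * u⁻¹ * b⁻¹ ∈ W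
  · obtain ⟨b, hb, hbW, hbu⟩ := hfix
    obtain ⟨w, hw, hwc⟩ := exists_fixed_in_coset W hWodd hu (normalizer_eq_top W ▸ mem_top u) hbu
    refine Or.inl ⟨w * b, mul_mem (hUO (hWU hw)) (hUO hb), ?_, hwc⟩
    haveI := Fact.mk hr
    have h1 : orderOf (q b) = r := by
      refine orderOf_eq_prime ?_ fun e => hbW ((QuotientGroup.eq_one_iff b).1 e)
      rw [hq, ← map_pow]; exact (QuotientGroup.eq_one_iff _).2 (hexp b hb)
    have h2 : q (w * b) = q b := by
      rw [map_mul, show q w = 1 from (QuotientGroup.eq_one_iff w).2 hw, one_mul]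
    exact h1 ▸ h2 ▸ orderOf_map_dvd q _
  right
  push Not at hfix
  have hqu : q u * q u = 1 := by rw [← map_mul, hu, map_one]
  have hcq : ∀ b ∈ U, ∀ c ∈ U, Commute (q b) (q c) := fun b hb c hc => by
    rw [← commutatorElement_eq_one_iff_commute, ← map_commutatorElement]
    exact (QuotientGroup.eq_one_iff _).2 (hcomm b hb c hc)
  have hinv : ∀ b ∈ U, q u * q b * (q u)⁻¹ = (q b)⁻¹ := by
    intro b hb
    have hc : u * b * u⁻¹ ∈ U := hUn.conj_mem b hb u
    have h1 : q (b * (u * b * u⁻¹)) = 1 := by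
      by_contra hne
      have hbW : b * (u * b * u⁻¹) ∉ W := fun h => hne ((QuotientGroup.eq_one_iff _).2 h)
      refine hfix _ (mul_mem hb hc) hbW ?_
      refine (QuotientGroup.eq_one_iff _).1 ?_
      show q (u * (b * (u * b * u⁻¹)) * u⁻¹ * (b * (u * b * u⁻¹))⁻¹) = 1
      rw [map_mul, map_inv, mul_inv_eq_one, show u * (b * (u * b * u⁻¹)) * u⁻¹ =
        u * b * u⁻¹ * (u * u * b * (u * u)⁻¹) by group, hu, one_mul, inv_one, mul_one, map_mul, map_mul q b]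
      exact (hcq _ hc _ hb).eq
    rw [map_mul, map_mul, map_mul, map_inv] at h1
    exact eq_inv_of_mul_eq_one_right h1
  refine ⟨(centralizer ((U.map q : Subgroup (G ⧸ W)) : Set (G ⧸ W))).comap q, ?_, fun g => ?_, fun hmem => ?_⟩
  · haveI := hUn.map q (QuotientGroup.mk'_surjective W)
    exact Normal.comap inferInstance q
  · rw [mem_comap, mem_centralizer_iff]
    rintro _ ⟨b, hb, rfl⟩
    have hb' : g⁻¹ * b * g ∈ U := by simpa using hUn.conj_mem b hb g⁻¹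
    have h1 : q g * q u * (q g)⁻¹ * q b * (q g * q u * (q g)⁻¹)⁻¹ = (q b)⁻¹ := by
      rw [show q g * q u * (q g)⁻¹ * q b * (q g * q u * (q g)⁻¹)⁻¹ =
        q g * (q u * ((q g)⁻¹ * q b * q g) * (q u)⁻¹) * (q g)⁻¹ by group,
        ← map_inv q g, ← map_mul, ← map_mul, hinv _ hb', map_mul, map_mul, map_inv]
      group
    have h2 : (q u)⁻¹ * q b * q u = (q b)⁻¹ := by
      rw [inv_eq_of_mul_eq_one_right hqu]
      have := hinv b hb
      rwa [inv_eq_of_mul_eq_one_right hqu] at this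
    have h3 : q (g * u * g⁻¹ * u⁻¹) * q b * (q (g * u * g⁻¹ * u⁻¹))⁻¹ = q b := by
      rw [map_mul, map_mul, map_mul, map_inv, map_inv]
      calc q g * q u * (q g)⁻¹ * (q u)⁻¹ * q b * (q g * q u * (q g)⁻¹ * (q u)⁻¹)⁻¹
          = q g * q u * (q g)⁻¹ * ((q u)⁻¹ * q b * q u) * (q g * q u * (q g)⁻¹)⁻¹ := by group
        _ = q g * q u * (q g)⁻¹ * (q b)⁻¹ * (q g * q u * (q g)⁻¹)⁻¹ := by rw [h2]
        _ = (q g * q u * (q g)⁻¹ * q b * (q g * q u * (q g)⁻¹)⁻¹)⁻¹ := by group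
        _ = q b := by rw [h1, inv_inv]
    exact (mul_inv_eq_iff_eq_mul.1 h3).symm
  · rw [mem_comap, mem_centralizer_iff] at hmem
    have h1 := hinv a ha
    rw [← hmem _ ⟨a, ha, rfl⟩, mul_inv_cancel_right] at h1
    have h2 : q a ^ 2 = 1 := by rw [pow_two]; exact mul_eq_one_iff_eq_inv.2 h1
    have h3 : q a ^ r = 1 := by rw [hq, ← map_pow]; exact (QuotientGroup.eq_one_iff _).2 (hexp a ha)
    have h4 : orderOf (q a) = 1 := Nat.eq_one_of_dvd_coprimes ((Nat.coprime_primes Nat.prime_two hr).2 hr2.symm)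
      (orderOf_dvd_of_pow_eq_one h2) (orderOf_dvd_of_pow_eq_one h3)
    exact haW ((QuotientGroup.eq_one_iff a).1 (orderOf_eq_one_iff.1 h4))

/-- A power trick: some odd power of an element is a `2`-element with the same image modulo powers of
exponent `4`. -/
theorem exists_two_power (h8 : ∀ g : G, ¬ 8 ∣ orderOf g) (g : G) :
    ∃ k : ℕ, (g ^ k) ^ 4 = 1 ∧ k % 4 = 1 := by
  obtain ⟨a, c, hc, hn⟩ := Nat.exists_eq_two_pow_mul_odd (orderOf_pos g).ne'
  refine ⟨c * c, ?_, ?_⟩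
  · have ha : a ≤ 2 := by
      by_contra h
      exact h8 g ((show (8 : ℕ) ∣ 2 ^ a from
        (show (8 : ℕ) = 2 ^ 3 by norm_num) ▸ pow_dvd_pow 2 (by omega)).trans (hn ▸ dvd_mul_right _ _))
    rw [← pow_mul, ← orderOf_dvd_iff_pow_eq_one, hn, show c * c * 4 = 2 ^ 2 * c * c by ring]
    exact (Nat.mul_dvd_mul_right (pow_dvd_pow 2 ha) c).trans (dvd_mul_right _ _)
  · rcases hc with ⟨l, rfl⟩
    rw [Nat.mul_mod]
    rcases Nat.mod_two_eq_zero_or_one l with h | h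
    · rw [show (2 * l + 1) % 4 = 1 by omega]
    · rw [show (2 * l + 1) % 4 = 3 by omega]

/-- A cyclic lift of the normaliser of an element of order five. -/
theorem exists_five_four_lift (h8 : ∀ g : G, ¬ 8 ∣ orderOf g) (π : G →* Q)
    (hπ : Function.Surjective π) {f x : Q} (hf : orderOf f = 5) (hx : x * f * x⁻¹ ∈ zpowers f)
    (hinv : x ^ 2 * f * (x ^ 2)⁻¹ = f⁻¹) :
    ∃ g y : G, IsPGroup 5 (zpowers g) ∧ y ^ 4 = 1 ∧ y * g * y⁻¹ ∈ zpowers g ∧
      y ^ 2 * g * (y ^ 2)⁻¹ = g⁻¹ ∧ π g ∈ zpowers f ∧ π g ≠ 1 := by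
  classical
  haveI : Fact (Nat.Prime 5) := ⟨Nat.prime_five⟩
  set Y := (zpowers f).comap π with hY
  have hxY : ∃ x₀ : G, π x₀ = x := hπ x
  obtain ⟨x₀, hx₀⟩ := hxY
  -- a Sylow subgroup over `zpowers f` normalised by a lift of `x`
  obtain ⟨i, hi⟩ := (isOfFinOrder_iff_pow_eq_one.2 ⟨5, by norm_num, hf ▸ pow_orderOf_eq_one f⟩).mem_powers_iff_mem_zpowers.2 hx
  simp only at hi
  have hxf : ∀ a ∈ zpowers f, x * a * x⁻¹ ∈ zpowers f := by
    intro a ha
    obtain ⟨j, rfl⟩ := mem_zpowers_iff.1 ha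
    rw [← conj_zpow]
    exact zpow_mem hx j
  have hx4 : x ^ 4 * f * (x ^ 4)⁻¹ = f := by
    rw [show x ^ 4 * f * (x ^ 4)⁻¹ = x ^ 2 * (x ^ 2 * f * (x ^ 2)⁻¹) * (x ^ 2)⁻¹ by group, hinv,
      show x ^ 2 * f⁻¹ * (x ^ 2)⁻¹ = (x ^ 2 * f * (x ^ 2)⁻¹)⁻¹ by group, hinv, inv_inv]
  have hx₀Y : x₀ ∈ normalizer (Y : Set G) := by
    have hle : Y.map (MulAut.conj x₀).toMonoidHom ≤ Y := by
      rintro _ ⟨a, ha, rfl⟩
      show π (x₀ * a * x₀⁻¹) ∈ zpowers f
      rw [map_mul, map_mul, map_inv, hx₀]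
      exact hxf _ ha
    rw [mem_normalizer_iff_map_conj_eq]
    exact eq_of_le_of_card_ge hle (card_map_of_injective (MulAut.conj x₀).injective).ge
  obtain ⟨S⟩ := (inferInstance : Nonempty (Sylow 5 Y))
  set P₀ : Subgroup G := (S : Subgroup Y).map Y.subtype with hP₀
  have hP₀p : IsPGroup 5 P₀ := S.isPGroup'.map _
  obtain ⟨h, hh⟩ : ∃ h : Y, ∀ a ∈ P₀, ((h : G) * x₀) * a * ((h : G) * x₀)⁻¹ ∈ P₀ := by
    let φ : Y ≃* Y := ((MulAut.conj x₀).subgroupMap Y).trans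
      (MulEquiv.subgroupCongr (mem_normalizer_iff_map_conj_eq.1 hx₀Y))
    obtain ⟨h, hh⟩ := MulAction.exists_smul_eq Y (S.mapSurjective (f := φ.toMonoidHom) φ.surjective) S
    refine ⟨h, ?_⟩
    rintro _ ⟨a, ha, rfl⟩
    refine ⟨h * φ a * h⁻¹, ?_, ?_⟩
    · rw [← hh]
      exact smul_mem_pointwise_smul _ _ _ ⟨a, ha, rfl⟩
    · show (h : G) * (x₀ * (a : G) * x₀⁻¹) * (h : G)⁻¹ = (h : G) * x₀ * (a : G) * ((h : G) * x₀)⁻¹
      group
  set y₀ := (h : G) * x₀ with hy₀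
  obtain ⟨k, hk4, hk⟩ := exists_two_power h8 y₀
  set y := y₀ ^ k with hy
  have hyP : ∀ a ∈ P₀, y * a * y⁻¹ ∈ P₀ := by
    rw [hy]
    clear hk4 hk hy y
    induction k with
    | zero => intro a ha; simpa using ha
    | succ k ih =>
      intro a ha
      rw [pow_succ', show y₀ * y₀ ^ k * a * (y₀ * y₀ ^ k)⁻¹ = y₀ * (y₀ ^ k * a * (y₀ ^ k)⁻¹) * y₀⁻¹ by group]
      exact hh _ (ih a ha)
  -- the action of `y` on `zpowers f`
  obtain ⟨j, hj⟩ := mem_zpowers_iff.1 (show π (h : G) ∈ zpowers f from h.2)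
  have hy₀f : ∀ a ∈ zpowers f, π y₀ * a * (π y₀)⁻¹ = x * a * x⁻¹ := by
    intro a ha
    obtain ⟨l, hl⟩ := mem_zpowers_iff.1 (hxf a ha)
    rw [hy₀, map_mul, hx₀, ← hj, show f ^ j * x * a * (f ^ j * x)⁻¹ = f ^ j * (x * a * x⁻¹) * (f ^ j)⁻¹ by group,
      ← hl, ← zpow_neg, ← zpow_add, ← zpow_add]
    congr 1; ring
  have hyf : π y * f * (π y)⁻¹ = f ^ i := by
    have key : ∀ l : ℕ, π y₀ ^ l * f * (π y₀ ^ l)⁻¹ = x ^ l * f * (x ^ l)⁻¹ ∧
        x ^ l * f * (x ^ l)⁻¹ ∈ zpowers f := by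
      intro l
      induction l with
      | zero => exact ⟨by simp, by simp⟩
      | succ l ih =>
        refine ⟨?_, ?_⟩
        · rw [pow_succ', pow_succ' x, show π y₀ * π y₀ ^ l * f * (π y₀ * π y₀ ^ l)⁻¹ =
            π y₀ * (π y₀ ^ l * f * (π y₀ ^ l)⁻¹) * (π y₀)⁻¹ by group, ih.1, hy₀f _ ih.2]
          group
        · rw [pow_succ' x, show x * x ^ l * f * (x * x ^ l)⁻¹ = x * (x ^ l * f * (x ^ l)⁻¹) * x⁻¹ by group]
          exact hxf _ ih.2
    rw [hy, map_pow, (key k).1]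
    have h1 : ∀ l : ℕ, (x ^ 4) ^ l * f * ((x ^ 4) ^ l)⁻¹ = f := by
      intro l
      induction l with
      | zero => simp
      | succ l ih =>
        rw [pow_succ, show (x ^ 4) ^ l * x ^ 4 * f * ((x ^ 4) ^ l * x ^ 4)⁻¹ =
          (x ^ 4) ^ l * (x ^ 4 * f * (x ^ 4)⁻¹) * ((x ^ 4) ^ l)⁻¹ by group, hx4, ih]
    rw [show k = 1 + 4 * (k / 4) by omega, pow_add, pow_one, pow_mul,
      show x * (x ^ 4) ^ (k / 4) * f * (x * (x ^ 4) ^ (k / 4))⁻¹ =
        x * ((x ^ 4) ^ (k / 4) * f * ((x ^ 4) ^ (k / 4))⁻¹) * x⁻¹ by group, h1, hi]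
  have hfi : f ^ (i * i) = f⁻¹ := by
    rw [← hinv, show x ^ 2 * f * (x ^ 2)⁻¹ = x * (x * f * x⁻¹) * x⁻¹ by rw [pow_two]; group, ← hi, ← conj_pow, ← hi,
      ← pow_mul]
  have hyπ : ∀ a ∈ zpowers f, π y * a * (π y)⁻¹ = a ^ i := by
    intro a ha
    obtain ⟨l, rfl⟩ := mem_zpowers_iff.1 ha
    rw [← conj_zpow, hyf, ← zpow_natCast f i, ← zpow_natCast (f ^ l) i, ← zpow_mul, ← zpow_mul, mul_comm]
  have hy2 : ∀ a ∈ zpowers f, π (y ^ 2) * a * (π (y ^ 2))⁻¹ = a⁻¹ := by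
    intro a ha
    have h1 : a ^ i ∈ zpowers f := pow_mem ha i
    rw [map_pow, show π y ^ 2 * a * (π y ^ 2)⁻¹ = π y * (π y * a * (π y)⁻¹) * (π y)⁻¹ by
      rw [pow_two]; group,
      hyπ a ha, hyπ _ h1, ← pow_mul]
    obtain ⟨l, rfl⟩ := mem_zpowers_iff.1 ha
    rw [← zpow_natCast (f ^ l), ← zpow_mul, mul_comm l, zpow_mul, zpow_natCast, hfi, inv_zpow]
  -- a minimal invariant subgroup covering `zpowers f`
  have hcover : ∃ a ∈ P₀, π a ≠ 1 := by
    by_contra hcon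
    push Not at hcon
    obtain ⟨f₀, hf₀⟩ := hπ f
    have hf₀Y : f₀ ∈ Y := show π f₀ ∈ zpowers f from hf₀ ▸ mem_zpowers f
    let Φ : Y →* Q := π.comp Y.subtype
    have hker : (S : Subgroup Y) ≤ Φ.ker := fun a ha => hcon (a : G) ⟨a, ha, rfl⟩
    have h1 : orderOf f ∣ (S : Subgroup Y).index := by
      refine dvd_trans ?_ (index_dvd_of_le hker)
      rw [index_ker]
      exact Subgroup.orderOf_dvd_natCard _ ⟨⟨f₀, hf₀Y⟩, hf₀⟩
    rw [hf] at h1
    exact S.not_dvd_index h1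
  obtain ⟨P, hP⟩ := ({P : Subgroup G | P ≤ P₀ ∧ (∀ a ∈ P, y * a * y⁻¹ ∈ P) ∧ ∃ a ∈ P, π a ≠ 1}).toFinite.exists_minimal
    ⟨P₀, le_rfl, hyP, hcover⟩
  obtain ⟨hPP₀, hPy, a, haP, ha1⟩ := hP.prop
  have hPp : IsPGroup 5 P := hP₀p.to_le hPP₀
  have hPf : ∀ b ∈ P, π b ∈ zpowers f := fun b hb => by
    obtain ⟨b', -, rfl⟩ := hPP₀ hb
    exact b'.2
  set u := y ^ 2 with hu
  have hPu : ∀ b ∈ P, u * b * u⁻¹ ∈ P := fun b hb => by
    rw [hu, show y ^ 2 * b * (y ^ 2)⁻¹ = y * (y * b * y⁻¹) * y⁻¹ by rw [pow_two]; group]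
    exact hPy _ (hPy b hb)
  have huu : u * u = 1 := by rw [hu, ← pow_add]; exact hk4
  -- an element inverted by `u`
  set b := a * (u * a * u⁻¹)⁻¹ with hb
  have hbP : b ∈ P := P.mul_mem haP (P.inv_mem (hPu a haP))
  have hbu : u * b * u⁻¹ = b⁻¹ := by
    rw [hb, show u * (a * (u * a * u⁻¹)⁻¹) * u⁻¹ = u * a * u⁻¹ * (u * u * a * (u * u)⁻¹)⁻¹ by group, huu,
      one_mul, inv_one, mul_one, mul_inv_rev, inv_inv]
  have h5 : ∀ c ∈ zpowers f, ∀ l : ℕ, ¬ 5 ∣ l → c ^ l = 1 → c = 1 := by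
    intro c hc l hl hcl
    refine orderOf_eq_one_iff.1 (Nat.eq_one_of_dvd_coprimes
      ((Nat.Prime.coprime_iff_not_dvd Nat.prime_five).2 hl) ?_ (orderOf_dvd_of_pow_eq_one hcl))
    rw [← hf, ← Nat.card_zpowers f]
    exact Subgroup.orderOf_dvd_natCard _ hc
  have hπb : π b = π a ^ 2 := by
    rw [hb, map_mul, map_inv, map_mul, map_mul, map_inv, hy2 _ (hPf a haP), inv_inv, pow_two]
  have hπb1 : π b ≠ 1 := fun h =>
    ha1 (h5 _ (hPf a haP) 2 (by norm_num) (hπb ▸ h))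
  set c := y * b * y⁻¹ * b ^ i with hc
  have hcP : c ∈ P := P.mul_mem (hPy b hbP) (P.pow_mem hbP i)
  have hi5 : ¬ 5 ∣ i := fun h => by
    have h1 : f ^ i = 1 := by rw [← orderOf_dvd_iff_pow_eq_one, hf]; exact h
    rw [pow_mul, h1, one_pow] at hfi
    rw [eq_comm, inv_eq_one] at hfi
    rw [hfi, orderOf_one] at hf
    norm_num at hf
  have hπc : π c ≠ 1 := by
    rw [hc, map_mul, map_mul, map_mul, map_inv, map_pow π b i, hyπ _ (hPf b hbP), ← pow_add]
    exact fun h => hπb1 (h5 _ (hPf b hbP) _ (fun h' => hi5 (by omega)) h)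
  let Φ : Subgroup P := frattini P
  haveI : Φ.Normal := inferInstance
  let q := QuotientGroup.mk' Φ
  have hqc : ∀ s t : P, Commute (q s) (q t) := fun s t => by
    rw [← commutatorElement_eq_one_iff_commute, ← map_commutatorElement]
    exact (QuotientGroup.eq_one_iff _).2
      (PGroup.commutator_le_frattini hPp (commutator_mem_commutator (mem_top s) (mem_top t)))
  have hq5 : ∀ s : P, q s ^ 5 = 1 := fun s => by
    rw [← map_pow]; exact (QuotientGroup.eq_one_iff _).2 (PGroup.pow_mem_frattini hPp s)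
  let T : P ≃* P :=
    { toFun := fun s => ⟨y * s * y⁻¹, hPy s s.2⟩
      invFun := fun s => ⟨y⁻¹ * s * y, by
        have h3 : y⁻¹ = y ^ 3 := inv_eq_of_mul_eq_one_right (by rw [← pow_succ']; exact hk4)
        have hh := hPy _ (hPu s s.2)
        rw [h3]
        rw [hu] at hh
        rw [show y ^ 3 * (s : G) * y = y * (y ^ 2 * s * (y ^ 2)⁻¹) * y⁻¹ * (y ^ 4) by group, hk4, mul_one]
        exact hh⟩
      left_inv := fun s => Subtype.ext (by show y⁻¹ * (y * (s : G) * y⁻¹) * y = s; group)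
      right_inv := fun s => Subtype.ext (by show y * (y⁻¹ * (s : G) * y) * y⁻¹ = s; group)
      map_mul' := fun s t => Subtype.ext (by
        show y * ((s : G) * t) * y⁻¹ = y * (s : G) * y⁻¹ * (y * (t : G) * y⁻¹); group) }
  have hii : (f ^ (i * i + 1) : Q) = 1 := by rw [pow_succ, hfi, inv_mul_cancel]
  have h55 : 5 ∣ i * i + 1 := by rw [← hf]; exact orderOf_dvd_of_pow_eq_one hii
  set bP : P := ⟨b, hbP⟩ with hbP'
  set cP : P := ⟨c, hcP⟩ with hcP'
  have hTc : q (T cP) = q cP ^ i := by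
    have hcdef : cP = T bP * bP ^ i := Subtype.ext rfl
    have hTT : T (T bP) = bP⁻¹ := Subtype.ext (by
      show y * (y * b * y⁻¹) * y⁻¹ = b⁻¹
      rw [← hbu, hu, pow_two]; group)
    obtain ⟨l, hl⟩ := h55
    rw [hcdef, map_mul T, map_pow T, hTT, map_mul, map_mul, map_pow, map_pow, map_inv,
      ((hqc (T bP) bP).pow_right i).mul_pow, ← pow_mul]
    have h6 : q bP ^ (i * i) = (q bP)⁻¹ := eq_inv_of_mul_eq_one_left (by
      rw [← pow_succ, hl, pow_mul, hq5, one_pow])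
    rw [h6]
    exact ((hqc _ _).pow_right i).inv_left.eq
  have hcyc : zpowers c = P := by
    have hinvK : ∀ s ∈ zpowers cP ⊔ Φ, T s ∈ zpowers cP ⊔ Φ := by
      intro s hs
      have : (zpowers cP ⊔ Φ).map T.toMonoidHom ≤ zpowers cP ⊔ Φ := by
        rw [Subgroup.map_sup, MonoidHom.map_zpowers]
        refine sup_le (zpowers_le.2 ?_) ((characteristic_iff_map_le.1 frattini_characteristic T).trans le_sup_right)
        rw [← comap_map_eq_self (f := q) (show q.ker ≤ zpowers cP ⊔ Φ by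
          rw [QuotientGroup.ker_mk']; exact le_sup_right), mem_comap]
        show q (T cP) ∈ _
        rw [hTc]
        exact pow_mem (mem_map_of_mem q (mem_sup_left (mem_zpowers cP))) i
      exact this ⟨s, hs, rfl⟩
    have hKP : (zpowers cP ⊔ Φ).map P.subtype = P := by
      refine le_antisymm (map_subtype_le _) (hP.2 ⟨(map_subtype_le _).trans hPP₀, ?_,
        c, ⟨cP, mem_sup_left (mem_zpowers cP), rfl⟩, hπc⟩ (map_subtype_le _))
      rintro _ ⟨s, hs, rfl⟩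
      exact ⟨T s, hinvK s hs, rfl⟩
    have htop : zpowers cP ⊔ Φ = ⊤ := map_injective P.subtype_injective
      (by rw [hKP, ← MonoidHom.range_eq_map, range_subtype])
    have := frattini_nongenerating htop
    rw [show zpowers c = (zpowers cP).map P.subtype by rw [MonoidHom.map_zpowers]; rfl, this,
      ← MonoidHom.range_eq_map, range_subtype]
  obtain ⟨l, hl⟩ := mem_zpowers_iff.1 (hcyc.symm ▸ hbP : b ∈ zpowers c)
  refine ⟨b, y, hPp.to_le (zpowers_le.2 hbP), hk4, ?_, hbu, hPf b hbP, hπb1⟩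
  obtain ⟨e, he⟩ := mem_zpowers_iff.1 (hcyc.symm ▸ hPy c hcP : y * c * y⁻¹ ∈ zpowers c)
  rw [← hl, ← conj_zpow, ← he, ← zpow_mul, mul_comm, zpow_mul]
  exact zpow_mem (mem_zpowers _) e

/-- An element of order prime to two, with a cyclic group of order four acting on it, centralises every
normal `2`-subgroup when no element has order divisible by eight. -/
theorem two_centralised (h8 : ∀ g : G, ¬ 8 ∣ orderOf g) (F : Subgroup G) (hF : IsPGroup 2 F)
    (hFn : F.Normal) {g y : G} (hg : IsPGroup 5 (zpowers g)) (hy4 : y ^ 4 = 1)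
    (hyg : y * g * y⁻¹ ∈ zpowers g) (hinv : y ^ 2 * g * (y ^ 2)⁻¹ = g⁻¹) :
    ∀ v ∈ F, Commute g v := by
  suffices key : ∀ (N : ℕ) (G : Type u) [Group G] [Finite G] (F : Subgroup G),
      Nat.card F ≤ N → (∀ g : G, ¬ 8 ∣ orderOf g) → IsPGroup 2 F → F.Normal →
      ∀ g y : G, IsPGroup 5 (zpowers g) → y ^ 4 = 1 → y * g * y⁻¹ ∈ zpowers g →
        y ^ 2 * g * (y ^ 2)⁻¹ = g⁻¹ → ∀ v ∈ F, Commute g v from
    key _ G F le_rfl h8 hF hFn g y hg hy4 hyg hinv
  clear! g y F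
  intro N
  induction N with
  | zero => intro G _ _ F hN; exact absurd hN (not_le.2 Nat.card_pos)
  | succ N ih =>
    intro G _ _ F hN h8 hF hFn g y hg hy4 hyg hinv v hv
    haveI : Fact (Nat.Prime 2) := ⟨Nat.prime_two⟩
    haveI : Fact (Nat.Prime 5) := ⟨Nat.prime_five⟩
    rcases eq_or_ne F ⊥ with hbot | hne
    · rw [hbot, mem_bot] at hv; rw [hv]; exact Commute.one_right g
    haveI := hFn
    set V := (center F).map F.subtype with hV
    haveI hVn : V.Normal := ConjAct.normal_of_characteristic_of_normal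
    have hVF : V ≤ F := map_subtype_le _
    have hVne : V ≠ ⊥ := by
      haveI : Nontrivial F := F.nontrivial_iff_ne_bot.2 hne
      haveI := hF.center_nontrivial
      rw [hV, Ne, map_eq_bot_iff_of_injective _ F.subtype_injective]
      exact (center F).nontrivial_iff_ne_bot.1 inferInstance
    have hVc : ∀ a ∈ V, ∀ b ∈ V, a * b = b * a := by
      rintro _ ⟨a, ha, rfl⟩ _ ⟨b, hb, rfl⟩
      exact congrArg Subtype.val (mem_center_iff.1 hb a)
    haveI : IsMulCommutative V := ⟨⟨fun a b => Subtype.ext (hVc a a.2 b b.2)⟩⟩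
    set P := zpowers g with hP
    obtain ⟨a5, ha5⟩ := hg.exists_card_eq
    obtain ⟨b2, hb2⟩ := (hF.to_le hVF).exists_card_eq
    have hcop : (Nat.card P).Coprime (Nat.card V) := by
      rw [ha5, hb2]; exact Nat.Coprime.pow a5 b2 (by norm_num)
    have hPV : P ≤ normalizer (V : Set G) := le_normalizer_of_normal
    have hgV : ∀ w ∈ V, Commute g w := by
      set V₁ := ⁅V, P⁆ with hV₁
      have hV₁V : V₁ ≤ V := Coprime.commutator_le_of_normalizes hPV
      rcases eq_or_ne V₁ ⊥ with h0 | h0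
      · intro w hw
        exact mem_centralizer_iff.1 (Subgroup.commutator_eq_bot_iff_le_centralizer.1 h0 hw) g (mem_zpowers g)
      exfalso
      have hyP : y ∈ normalizer (P : Set G) := by
        rw [mem_normalizer_iff_map_conj_eq]
        refine eq_of_le_of_card_ge ?_ (card_map_of_injective (MulAut.conj y).injective).ge
        rw [hP, MonoidHom.map_zpowers]
        exact zpowers_le.2 hyg
      have hyV : y ∈ normalizer (V₁ : Set G) := by
        rw [mem_normalizer_iff_map_conj_eq, hV₁, map_commutator,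
          mem_normalizer_iff_map_conj_eq.1 (normalizer_eq_top V ▸ mem_top y),
          mem_normalizer_iff_map_conj_eq.1 hyP]
      have hfpf : ∀ i : ℕ, 0 < i → i < 4 → ∀ x ∈ P, y ^ i * x = x * y ^ i → x = 1 := by
        intro i hi hi4 x hx hc
        have h2 : Commute (y ^ 2) x := by
          interval_cases i
          · rw [pow_one] at hc; exact Commute.pow_left hc 2
          · exact hc
          · have := Commute.pow_left (show Commute (y ^ 3) x from hc) 2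
            rwa [← pow_mul, show 3 * 2 = 4 + 2 by norm_num, pow_add, hy4, one_mul] at this
        obtain ⟨l, rfl⟩ := mem_zpowers_iff.1 hx
        have h3 : (g ^ l)⁻¹ = g ^ l := by
          rw [← inv_zpow, ← hinv, conj_zpow, h2.eq, mul_inv_cancel_right]
        have h4 : (g ^ l) ^ 2 = 1 := by
          rw [pow_two]; nth_rw 2 [← h3]; rw [mul_inv_cancel]
        refine orderOf_eq_one_iff.1 (Nat.eq_one_of_dvd_coprimes
          (show Nat.Coprime 2 (5 ^ a5) from (by norm_num : Nat.Coprime 2 5).pow_right a5)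
          (orderOf_dvd_of_pow_eq_one h4) (ha5 ▸ Subgroup.orderOf_dvd_natCard _ hx))
      obtain ⟨w, hw, hwne⟩ := exists_norm_ne_one P V₁ y 4 (by norm_num)
        (fun a ha b hb => hVc a (hV₁V ha) b (hV₁V hb))
        (Coprime.le_normalizer_commutator_right V P) hyV hyP hfpf
        (Coprime.commutator_inf_centralizer_eq_bot P V hPV hcop) h0
        (hcop.coprime_dvd_right (card_dvd_of_le hV₁V))
      rw [hy4] at hwne
      have hmem : ∀ k : ℕ, (w * y) ^ k * (y ^ k)⁻¹ ∈ V₁ := by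
        intro k
        induction k with
        | zero => simp
        | succ k ihk =>
          rw [show (w * y) ^ (k + 1) * (y ^ (k + 1))⁻¹ =
              (w * y) ^ k * (y ^ k)⁻¹ * (y ^ k * w * (y ^ k)⁻¹) by
            rw [pow_succ, pow_succ]; group]
          exact V₁.mul_mem ihk ((mem_normalizer_iff.1 (pow_mem hyV k) w).1 hw)
      have h4 := hmem 4
      rw [hy4, inv_one, mul_one] at h4
      have hdvd : orderOf (w * y) ∣ 2 ^ (2 + b2) := by
        refine orderOf_dvd_of_pow_eq_one ?_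
        rw [pow_add, pow_mul, ← orderOf_dvd_iff_pow_eq_one, ← hb2]
        exact Subgroup.orderOf_dvd_natCard _ (hV₁V h4)
      obtain ⟨c, -, hc⟩ := (Nat.dvd_prime_pow Nat.prime_two).1 hdvd
      refine h8 (w * y) ?_
      rw [hc]
      rcases Nat.lt_or_ge c 3 with hlt | hge
      · refine absurd ?_ hwne
        rw [← orderOf_dvd_iff_pow_eq_one, hc]
        exact pow_dvd_pow 2 (show c ≤ 2 by omega)
      · exact pow_dvd_pow 2 hge
    -- modulo the centre
    have hlt : Nat.card (F.map (QuotientGroup.mk' V)) ≤ N := by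
      have h1 := ((QuotientGroup.mk' V).comp F.subtype).ker.card_mul_index
      rw [index_ker, MonoidHom.range_comp, range_subtype, mul_comm] at h1
      have h2 : 1 < Nat.card ((QuotientGroup.mk' V).comp F.subtype).ker := by
        rw [Finite.one_lt_card_iff_nontrivial, nontrivial_iff_ne_bot]
        intro h3
        refine hVne (eq_bot_iff.2 fun x hx => mem_bot.2 ?_)
        have : (⟨x, hVF hx⟩ : F) ∈ ((QuotientGroup.mk' V).comp F.subtype).ker :=
          (QuotientGroup.eq_one_iff x).2 hx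
        rw [h3, mem_bot] at this
        exact congrArg Subtype.val this
      have hle : Nat.card (F.map (QuotientGroup.mk' V)) * 2 ≤ Nat.card F :=
        h1 ▸ Nat.mul_le_mul_left _ h2
      have := Nat.card_pos (α := F.map (QuotientGroup.mk' V))
      omega
    set q := QuotientGroup.mk' V with hq
    have hgo : IsPGroup 5 (zpowers (q g)) := by
      rw [← MonoidHom.map_zpowers]; exact hg.map q
    have h8' : ∀ x : G ⧸ V, ¬ 8 ∣ orderOf x := fun x hx => by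
      obtain ⟨x, rfl⟩ := QuotientGroup.mk'_surjective V x
      exact h8 x (hx.trans (orderOf_map_dvd q x))
    have hcq := ih (G ⧸ V) (F.map q) hlt h8' (hF.map q)
      (hFn.map q (QuotientGroup.mk'_surjective V)) (q g) (q y) hgo
      (by rw [← map_pow, hy4, map_one])
      (by rw [← map_inv, ← map_mul, ← map_mul, ← MonoidHom.map_zpowers]; exact mem_map_of_mem q hyg)
      (by rw [← map_pow, ← map_inv, ← map_mul, ← map_mul, hinv, map_inv]) (q v) (mem_map_of_mem q hv)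
    have hc : g * v * g⁻¹ * v⁻¹ ∈ V := (QuotientGroup.eq_one_iff _).1 (by
      show q (g * v * g⁻¹ * v⁻¹) = 1
      rw [map_mul, map_mul, map_mul, map_inv, map_inv, hcq.eq, mul_inv_cancel_right, mul_inv_cancel])
    set c := g * v * g⁻¹ * v⁻¹ with hcdef
    have hgc : Commute g c := hgV c hc
    have hiter : ∀ k : ℕ, g ^ k * v * (g ^ k)⁻¹ = c ^ k * v := by
      intro k
      induction k with
      | zero => simp
      | succ k ihk =>
        calc g ^ (k + 1) * v * (g ^ (k + 1))⁻¹ = g * (g ^ k * v * (g ^ k)⁻¹) * g⁻¹ := by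
              rw [pow_succ']; group
          _ = g * (c ^ k * v) * g⁻¹ := by rw [ihk]
          _ = g * c ^ k * g⁻¹ * (g * v * g⁻¹ * v⁻¹) * v := by group
          _ = c ^ (k + 1) * v := by
            rw [(hgc.pow_right k).eq, mul_inv_cancel_right, ← hcdef, pow_succ]
    have h1 := hiter (orderOf g)
    rw [pow_orderOf_eq_one, one_mul, inv_one, mul_one] at h1
    have h2 : c ^ orderOf g = 1 := mul_eq_right.1 h1.symm
    have h3 : c = 1 := orderOf_eq_one_iff.1 (Nat.eq_one_of_dvd_coprimes hcop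
      ((orderOf_dvd_of_pow_eq_one h2).trans (by rw [hP, Nat.card_zpowers]))
      (Subgroup.orderOf_dvd_natCard _ hc))
    exact mul_inv_eq_iff_eq_mul.1 (mul_inv_eq_one.1 (hcdef ▸ h3))

omit [Finite G] in
/-- In a central extension of a Suzuki group the involutions lift. -/
theorem exists_involution_lift {Q : Type v} [Group Q] [Finite Q] (π : G →* Q)
    (hπ : Function.Surjective π) (hker : ∀ z, π z = 1 → ∀ g : G, Commute z g)
    {n : ℕ} {T : Sylow 2 Q} {Z : Subgroup Q} {t : Q} (hd : ThreeFree.SzData Q n T Z t) :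
    ∃ u : G, u * u = 1 ∧ π u ∈ Z ∧ π u ≠ 1 := by
  classical
  have := Fintype.ofFinite Z
  have hcard : 8 ≤ Fintype.card Z := by
    rw [← Nat.card_eq_fintype_card, hd.card_Z, show (8 : ℕ) = 2 ^ 3 by norm_num]
    exact Nat.pow_le_pow_right two_pos hd.three_le
  have pick : ∀ s : Finset Z, s.card < 8 → ∃ z : Z, z ∉ s := fun s hs => by
    by_contra h
    push Not at h
    have := Finset.eq_univ_iff_forall.2 h
    rw [this, Finset.card_univ] at hs
    omega
  obtain ⟨z₁, hz₁⟩ := pick {1} (by simp)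
  simp only [Finset.mem_singleton] at hz₁
  obtain ⟨z₂, hz₂⟩ := pick {1, z₁} (lt_of_le_of_lt (Finset.card_le_two) (by norm_num))
  obtain ⟨z₃, hz₃⟩ := pick {1, z₁, z₂, z₁ * z₂}
    (lt_of_le_of_lt Finset.card_le_four (by norm_num))
  simp only [Finset.mem_insert, Finset.mem_singleton, not_or] at hz₂ hz₃
  have hsq : ∀ z : Z, z * z = 1 := fun z => Subtype.ext (hd.Z_sq z z.2)
  have h23 : z₂ * z₃ ≠ 1 ∧ z₂ * z₃ ≠ z₁ := by
    refine ⟨fun h => hz₃.2.2.1 ?_, fun h => hz₃.2.2.2 ?_⟩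
    · exact (eq_inv_of_mul_eq_one_right h).trans (eq_inv_of_mul_eq_one_right (hsq z₂)).symm
    · have h1 : z₃ = z₂ * z₁ := by rw [← h, ← mul_assoc, hsq, one_mul]
      rw [h1]; exact Subtype.ext (hd.Z_comm z₂ z₂.2 z₁ (hd.Z_le z₁.2))
  obtain ⟨t₀, ht₀⟩ := hπ t
  obtain ⟨a₀, ha₀⟩ := hπ (z₁ : Q)
  have hker2 : ∀ (a : G) (z : Z), π a = z → π (a * a) = 1 := fun a z h => by
    rw [map_mul, h]; exact hd.Z_sq z z.2
  have hs : ∀ (a : G) (z : Z), z ≠ 1 → π a = z → ∃ d, π d = 1 ∧ a * a = a₀ * a₀ * (d * d) := by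
    intro a z hz ha
    obtain ⟨k, hk⟩ := hd.trans z₁ z₁.2 z z.2 (fun h => hz₁ (Subtype.ext h)) (fun h => hz (Subtype.ext h))
    set b := t₀ ^ k * a₀ * (t₀ ^ k)⁻¹ with hb
    have hbz : π b = z := by rw [hb, map_mul, map_mul, map_inv, map_pow, ht₀, ha₀, hk]
    set d := b⁻¹ * a with hdd
    have hd1 : π d = 1 := by rw [hdd, map_mul, map_inv, hbz, ha, inv_mul_cancel]
    refine ⟨d, hd1, ?_⟩
    have hbb : b * b = a₀ * a₀ := by
      rw [hb, show t₀ ^ k * a₀ * (t₀ ^ k)⁻¹ * (t₀ ^ k * a₀ * (t₀ ^ k)⁻¹) =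
        t₀ ^ k * (a₀ * a₀) * (t₀ ^ k)⁻¹ by group,
        ← (hker _ (hker2 a₀ z₁ ha₀) (t₀ ^ k)).eq, mul_inv_cancel_right]
    calc a * a = b * d * (b * d) := by rw [hdd, mul_inv_cancel_left]
      _ = b * b * (d * d) := by
        rw [show b * d * (b * d) = b * (d * b) * d by group, (hker d hd1 b).eq]; group
      _ = a₀ * a₀ * (d * d) := by rw [hbb]
  obtain ⟨b, hb⟩ := hπ (z₂ : Q)
  obtain ⟨c, hc⟩ := hπ (z₃ : Q)
  -- commutators of lifts
  have he : ∀ (b : G) (z : Z), z ≠ 1 → z ≠ z₁ → π b = z → ∃ e d, π e = 1 ∧ π d = 1 ∧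
      b * a₀ = a₀ * b * e ∧ e * (a₀ * a₀) = d * d := by
    intro b z hz hzne hbz
    refine ⟨(a₀ * b)⁻¹ * (b * a₀), ?_⟩
    set e := (a₀ * b)⁻¹ * (b * a₀) with hedef
    have he1 : π e = 1 := by
      rw [hedef, map_mul, map_inv, map_mul, map_mul, ha₀, hbz, inv_mul_eq_one]
      exact hd.Z_comm z₁ z₁.2 z (hd.Z_le z.2)
    have hzz : z₁ * z ≠ 1 := fun h => hzne (by
      rw [← mul_eq_one_iff_inv_eq.1 h, mul_eq_one_iff_inv_eq.1 (hsq z₁)])
    obtain ⟨d₂, hd₂, hbb⟩ := hs b z hz hbz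
    obtain ⟨d₃, hd₃, hab⟩ := hs (a₀ * b) (z₁ * z) hzz (by rw [map_mul, ha₀, hbz]; rfl)
    refine ⟨d₃ * d₂⁻¹, he1, by rw [map_mul, map_inv, hd₂, hd₃, inv_one, mul_one],
      by rw [hedef, mul_inv_cancel_left], ?_⟩
    have hba : b * a₀ = a₀ * b * e := by rw [hedef, mul_inv_cancel_left]
    have h1 : a₀ * a₀ * (e * (a₀ * a₀) * (d₂ * d₂)) = a₀ * a₀ * (d₃ * d₃) :=
      calc a₀ * a₀ * (e * (a₀ * a₀) * (d₂ * d₂)) = a₀ * a₀ * (b * b * e) := by
            rw [mul_assoc e, ← hbb, (hker e he1 (b * b)).eq]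
        _ = a₀ * a₀ * b * (b * e) := by group
        _ = a₀ * (a₀ * b * e) * b := by rw [← (hker e he1 b).eq]; group
        _ = a₀ * b * (a₀ * b) := by rw [← hba]; group
        _ = a₀ * a₀ * (d₃ * d₃) := hab
    have h2 := mul_left_cancel h1
    calc e * (a₀ * a₀) = d₃ * d₃ * (d₂ * d₂)⁻¹ := by rw [← h2, mul_inv_cancel_right]
      _ = d₃ * (d₃ * d₂⁻¹) * d₂⁻¹ := by group
      _ = d₃ * (d₂⁻¹ * d₃) * d₂⁻¹ := by rw [(hker d₃ hd₃ d₂⁻¹).eq]
      _ = d₃ * d₂⁻¹ * (d₃ * d₂⁻¹) := by group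
  obtain ⟨e₂, x₂, he₂, hx₂, hba, h2⟩ := he b z₂ hz₂.1 hz₂.2 hb
  obtain ⟨e₃, x₃, he₃, hx₃, hca, h3⟩ := he c z₃ hz₃.1 hz₃.2.1 hc
  obtain ⟨e, x, he', hx, hbca, h1⟩ := he (b * c) (z₂ * z₃) h23.1 h23.2 (by rw [map_mul, hb, hc]; rfl)
  have hee : e = e₂ * e₃ := by
    refine mul_left_cancel (a := a₀ * (b * c)) ?_
    rw [← hbca, mul_assoc b c a₀, hca,
      show b * (a₀ * c * e₃) = b * a₀ * c * e₃ by group, hba,
      show a₀ * b * e₂ * c * e₃ = a₀ * b * (e₂ * c) * e₃ by group, (hker e₂ he₂ c).eq]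
    group
  set w := a₀ * a₀ with hw
  have hw1 : π w = 1 := hker2 a₀ z₁ ha₀
  have h4 : w = x₂ * x₂ * (x₃ * x₃) * (x * x)⁻¹ := by
    rw [← h2, ← h3, ← h1, hee,
      (hker e₂ he₂ w).eq]
    group
  set d := x₂ * x₃ * x⁻¹ with hdd
  have hd1 : π d = 1 := by rw [hdd, map_mul, map_mul, map_inv, hx₂, hx₃, hx, inv_one, mul_one, mul_one]
  have hdd2 : d * d = w := by
    rw [h4, hdd, show x₂ * x₃ * x⁻¹ * (x₂ * x₃ * x⁻¹) = x₂ * (x₃ * x⁻¹ * x₂) * (x₃ * x⁻¹) by group,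
      ← (hker x₂ hx₂ (x₃ * x⁻¹)).eq,
      show x₂ * (x₂ * (x₃ * x⁻¹)) * (x₃ * x⁻¹) = x₂ * x₂ * x₃ * (x⁻¹ * x₃) * x⁻¹ by group,
      ← (hker x₃ hx₃ x⁻¹).eq]
    group
  refine ⟨a₀ * d⁻¹, ?_, ?_, ?_⟩
  · rw [show a₀ * d⁻¹ * (a₀ * d⁻¹) = a₀ * (d⁻¹ * a₀) * d⁻¹ by group,
      (hker d⁻¹ (by rw [map_inv, hd1, inv_one]) a₀).eq,
      show a₀ * (a₀ * d⁻¹) * d⁻¹ = a₀ * a₀ * (d * d)⁻¹ by group, hdd2, ← hw, mul_inv_cancel]
  · rw [map_mul, map_inv, hd1, inv_one, mul_one, ha₀]; exact z₁.2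
  · rw [map_mul, map_inv, hd1, inv_one, mul_one, ha₀]; exact fun h => hz₁ (Subtype.ext h)

end CfsgLib.SzSquare
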