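import Cfsg.Agent.Lib.SzSquare.TwoFactor
import Cfsg.Agent.Lib.SzSquare.Criterion

/-!
A group with the element orders of the square of a Suzuki group is that square.
-/

set_option autoImplicit false
set_option linter.style.haveILetI false

namespace CfsgLib.SzSquare

open Subgroup
open scoped commutatorElement Pointwise

universe u v

variable {m : ℕ} {G : Type u} [Group G]

theorem Full.of_equiv {H : Type v} [Group H] (h : Full m G) (e : G ≃* H) : Full m H :=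
  ⟨h.spec.of_surjective e.toMonoidHom e.surjective, fun i j hij => by
    obtain ⟨g, hg⟩ := h.edge i j hij
    exact ⟨e g, by rw [MulEquiv.orderOf_eq, hg]⟩⟩

/-- No element of the Suzuki group has order a product of primes of the split and a nonsplit torus. -/
theorem IsSz.not_pair {L : Type u} [Group L] (h : IsSz m L) {r s : ℕ} (hr : r.Prime) (hs : s.Prime)
    (hr1 : r ∣ cls m 1) (hs2 : s ∣ cls m 2 ∨ s ∣ cls m 3) (x : L) : orderOf x ≠ r * s := by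
  obtain ⟨hk, F, iF, iT, hF, ⟨ψ⟩⟩ := h
  have hsq : s ∣ (2 ^ (2 * m + 1)) ^ 2 + 1 := by
    rw [← SuzukiGroup.toA_mul_toB]
    rcases hs2 with h | h
    exacts [dvd_mul_of_dvd_left h _, dvd_mul_of_dvd_right h _]
  have := CITThree.SzGraph.pair hF hk hr hs hr1 hsq (ψ x)
  rwa [MulEquiv.orderOf_eq] at this

theorem IsSz.param {L : Type u} [Group L] {k : ℕ} (h : IsSz k L) {p : ℕ} (hp : p.Prime) (hp2 : p ≠ 2)
    (hpd : p ∣ Nat.card L) (hkey : ∀ l : ℕ, p ∣ 2 ^ (4 * (2 * l + 1)) - 1 → 2 * m + 1 ∣ 2 * l + 1)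
    (hle : 2 * k + 1 ∣ 2 * m + 1) : k = m := by
  have := Nat.dvd_antisymm hle (hkey k (dvd_szOrder hp hp2 (h.card ▸ hpd)))
  omega

/-- A group without solvable normal subgroups with exactly two components. -/
structure Pair (G : Type u) [Group G] (S₁ S₂ : Subgroup G) : Prop where
  rad : Cfsg.solvableRadical G = ⊥
  h₁ : Cfsg.IsComponent S₁
  h₂ : Cfsg.IsComponent S₂
  ne : S₁ ≠ S₂
  only : ∀ K, Cfsg.IsComponent K → K = S₁ ∨ K = S₂

namespace Pair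

variable [Finite G] {S₁ S₂ : Subgroup G}

/-- The product of the two components. -/
def prod (S₁ S₂ : Subgroup G) (hc : ∀ a ∈ S₁, ∀ b ∈ S₂, Commute a b) : Subgroup G where
  carrier := {g | ∃ a ∈ S₁, ∃ b ∈ S₂, g = a * b}
  one_mem' := ⟨1, one_mem _, 1, one_mem _, (one_mul 1).symm⟩
  mul_mem' := by
    rintro _ _ ⟨a, ha, b, hb, rfl⟩ ⟨a', ha', b', hb', rfl⟩
    exact ⟨a * a', mul_mem ha ha', b * b', mul_mem hb hb', Commute.mul_mul_mul_comm (hc a' ha' b hb).symm a b'⟩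
  inv_mem' := by
    rintro _ ⟨a, ha, b, hb, rfl⟩
    exact ⟨a⁻¹, inv_mem ha, b⁻¹, inv_mem hb, by rw [mul_inv_rev, ((hc a ha b hb).inv_inv).eq]⟩

theorem comm (d : Pair G S₁ S₂) : ∀ a ∈ S₁, ∀ b ∈ S₂, Commute a b :=
  fun _ ha _ hb => components_commute d.h₁ d.h₂ d.ne ha hb

/-- The product of the components. -/
def N (d : Pair G S₁ S₂) : Subgroup G := prod S₁ S₂ d.comm

theorem eq_one (d : Pair G S₁ S₂) {g : G} (h₁ : ∀ x ∈ S₁, Commute g x) (h₂ : ∀ x ∈ S₂, Commute g x) :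
    g = 1 :=
  eq_one_of_commute_components d.rad fun K hK => by
    rcases d.only K hK with rfl | rfl
    exacts [h₁, h₂]

theorem disjoint (d : Pair G S₁ S₂) {x : G} (h₁ : x ∈ S₁) (h₂ : x ∈ S₂) : x = 1 :=
  components_inter d.rad d.h₁ d.h₂ d.ne h₁ h₂

theorem unique (d : Pair G S₁ S₂) {a a' b b' : G} (ha : a ∈ S₁) (ha' : a' ∈ S₁) (hb : b ∈ S₂)
    (hb' : b' ∈ S₂) (h : a * b = a' * b') : a = a' ∧ b = b' := by
  have h1 : a'⁻¹ * a = b' * b⁻¹ := by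
    rw [inv_mul_eq_iff_eq_mul, ← mul_assoc, ← h, mul_inv_cancel_right]
  have h2 := d.disjoint (mul_mem (inv_mem ha') ha) (h1.symm ▸ mul_mem hb' (inv_mem hb))
  have h3 := inv_mul_eq_one.1 h2
  exact ⟨h3.symm, mul_left_cancel (h3.symm ▸ h)⟩

theorem swap (d : Pair G S₁ S₂) : Pair G S₂ S₁ :=
  ⟨d.rad, d.h₂, d.h₁, d.ne.symm, fun K hK => (d.only K hK).symm⟩

theorem conj_cases (d : Pair G S₁ S₂) (g : G) :
    (S₁.map (MulAut.conj g).toMonoidHom = S₁ ∧ S₂.map (MulAut.conj g).toMonoidHom = S₂) ∨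
      (S₁.map (MulAut.conj g).toMonoidHom = S₂ ∧ S₂.map (MulAut.conj g).toMonoidHom = S₁) := by
  have hne : S₁.map (MulAut.conj g).toMonoidHom ≠ S₂.map (MulAut.conj g).toMonoidHom :=
    fun h => d.ne (map_injective (f := (MulAut.conj g).toMonoidHom) (MulAut.conj g).injective h)
  rcases d.only _ (component_conj d.h₁ g) with h | h <;>
    rcases d.only _ (component_conj d.h₂ g) with h' | h'
  · exact absurd (h.trans h'.symm) hne
  · exact Or.inl ⟨h, h'⟩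
  · exact Or.inr ⟨h, h'⟩
  · exact absurd (h.trans h'.symm) hne

theorem map_mul_conj (S : Subgroup G) (g h : G) :
    S.map (MulAut.conj (g * h)).toMonoidHom =
      (S.map (MulAut.conj h).toMonoidHom).map (MulAut.conj g).toMonoidHom := by
  rw [map_map, map_mul]; rfl

theorem fixes_sq (d : Pair G S₁ S₂) (g : G) :
    g * g ∈ normalizer (S₁ : Set G) ∧ g * g ∈ normalizer (S₂ : Set G) := by
  constructor <;> rw [mem_normalizer_iff_map_conj_eq] <;>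
  · show Subgroup.map (MulAut.conj (g * g)).toMonoidHom _ = _
    rcases d.conj_cases g with ⟨h, h'⟩ | ⟨h, h'⟩
    · rw [map_mul_conj]; simp only [h, h']
    · rw [map_mul_conj]; simp only [h, h']

theorem pow_mem (d : Pair G S₁ S₂) {k₁ k₂ : ℕ} (hk₁ : IsSz k₁ S₁) (hk₂ : IsSz k₂ S₂)
    (hd₁ : 2 * k₁ + 1 ∣ 2 * m + 1) (hd₂ : 2 * k₂ + 1 ∣ 2 * m + 1) {g : G}
    (hg₁ : g ∈ normalizer (S₁ : Set G)) (hg₂ : g ∈ normalizer (S₂ : Set G)) :
    g ^ (2 * m + 1) ∈ d.N := by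
  have key : ∀ {S : Subgroup G} {k : ℕ}, IsSz k S → 2 * k + 1 ∣ 2 * m + 1 →
      ∀ h : g ∈ normalizer (S : Set G), ∃ s : S, conjAut S (g ^ (2 * m + 1)) (Subgroup.pow_mem _ h _) = MulAut.conj s := by
    intro S k hk hd h
    obtain ⟨j, hj⟩ := hd
    obtain ⟨s, hs⟩ := hk.aut_pow (conjAut S g h)
    refine ⟨s ^ j, ?_⟩
    rw [← conjAut_pow S g h, hj, pow_mul, hs, map_pow]
  obtain ⟨a, ha⟩ := key hk₁ hd₁ hg₁
  obtain ⟨b, hb⟩ := key hk₂ hd₂ hg₂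
  set G' := g ^ (2 * m + 1)
  have h := d.eq_one (g := ((a : G) * b)⁻¹ * G') (fun x hx => ?_) fun x hx => ?_
  · exact ⟨a, a.2, b, b.2, (inv_mul_eq_one.1 h).symm⟩
  · have h1 := commute_of_conjAut_eq S₁ _ _ a ha hx
    have h2 : Commute (b : G) x := (d.comm x hx b b.2).symm
    rw [mul_inv_rev, mul_assoc]
    exact h2.inv_left.mul_left h1
  · have h1 := commute_of_conjAut_eq S₂ _ _ b hb hx
    have h2 : Commute (a : G) x := d.comm a a.2 x hx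
    rw [(d.comm a a.2 b b.2).eq, mul_inv_rev, mul_assoc]
    exact h2.inv_left.mul_left h1

theorem mem_of_coprime (d : Pair G S₁ S₂) {k₁ k₂ : ℕ} (hk₁ : IsSz k₁ S₁) (hk₂ : IsSz k₂ S₂)
    (hd₁ : 2 * k₁ + 1 ∣ 2 * m + 1) (hd₂ : 2 * k₂ + 1 ∣ 2 * m + 1) {g : G}
    (hco : (2 * (2 * m + 1)).Coprime (orderOf g)) : g ∈ d.N := by
  have h : g ^ (2 * (2 * m + 1)) ∈ d.N := by
    rw [pow_mul, pow_two]
    exact d.pow_mem hk₁ hk₂ hd₁ hd₂ (d.fixes_sq g).1 (d.fixes_sq g).2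
  exact (zpowers_le.2 h) (mem_zpowers_pow_of_coprime hco)

theorem dvd_comp (d : Pair G S₁ S₂) {p : ℕ} (hp : p.Prime) {a b : G} (ha : a ∈ S₁) (hb : b ∈ S₂)
    (h : p ∣ orderOf (a * b)) : p ∣ orderOf a ∨ p ∣ orderOf b :=
  hp.dvd_mul.1 ((h.trans (d.comm a ha b hb).orderOf_mul_dvd_lcm).trans (Nat.lcm_dvd_mul _ _))

end Pair

theorem Pair.degree_eq [Finite G] {S₁ S₂ : Subgroup G} (hm : 1 ≤ m) (hFull : Full m G)
    (d : Pair G S₁ S₂) {k₂ : ℕ} (hk₁ : IsSz m S₁) (hk₂ : IsSz k₂ S₂)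
    (hd₂ : 2 * k₂ + 1 ∣ 2 * m + 1) : k₂ = m := by
  obtain ⟨p, hp, hp1, hpn, hpkey⟩ := exists_ppd_one hm
  obtain ⟨w, hw, hwc, hwn, hwkey⟩ := exists_ppd_four hm
  obtain ⟨j, hj, hwj⟩ : ∃ j : Fin 4, (j = 2 ∨ j = 3) ∧ w ∣ cls m j := by
    rcases hwc with h | h
    exacts [⟨2, Or.inl rfl, h⟩, ⟨3, Or.inr rfl, h⟩]
  have hne : (1 : Fin 4) ≠ j := by rcases hj with rfl | rfl <;> decide
  obtain ⟨a, b, hao, hbo, hab, -⟩ := hFull.pair hne hp1 hwj hp.pos hw.pos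
  have hcop : ∀ {q : ℕ}, q.Prime → ¬ q ∣ 2 * (2 * m + 1) → (2 * (2 * m + 1)).Coprime q :=
    fun hq h => (hq.coprime_iff_not_dvd.2 h).symm
  obtain ⟨a₁, ha₁, a₂, ha₂, rfl⟩ := d.mem_of_coprime hk₁ hk₂ dvd_rfl hd₂ (g := a) (hao ▸ hcop hp hpn)
  obtain ⟨b₁, hb₁, b₂, hb₂, rfl⟩ := d.mem_of_coprime hk₁ hk₂ dvd_rfl hd₂ (g := b) (hbo ▸ hcop hw hwn)
  have h2 : ∀ {q : ℕ} {x : G}, q.Prime → ¬ q ∣ 2 * (2 * m + 1) →
      (∀ l : ℕ, q ∣ 2 ^ (4 * (2 * l + 1)) - 1 → 2 * m + 1 ∣ 2 * l + 1) → x ∈ S₂ → q ∣ orderOf x → k₂ = m :=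
    fun hq hqn hkey hx hqx => hk₂.param hq (fun e => hqn (by rw [e]; exact dvd_mul_right 2 _))
      (hqx.trans (Subgroup.orderOf_dvd_natCard _ hx)) hkey hd₂
  rcases d.dvd_comp hp ha₁ ha₂ hao.symm.dvd with hpa | hpa
  swap
  · exact h2 hp hpn hpkey ha₂ hpa
  rcases d.dvd_comp hw hb₁ hb₂ hbo.symm.dvd with hwb | hwb
  swap
  · exact h2 hw hwn hwkey hb₂ hwb
  exfalso
  have e : a₁ * b₁ = b₁ * a₁ := by
    refine (d.unique (mul_mem ha₁ hb₁) (mul_mem hb₁ ha₁) (mul_mem ha₂ hb₂) (mul_mem hb₂ ha₂) ?_).1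
    rw [← Commute.mul_mul_mul_comm (d.comm b₁ hb₁ a₂ ha₂).symm,
      ← Commute.mul_mul_mul_comm (d.comm a₁ ha₁ b₂ hb₂).symm]
    exact hab.eq
  set x := a₁ ^ (orderOf a₁ / p) * b₁ ^ (orderOf b₁ / w)
  have hpw : p ≠ w := fun h => hne (cls_unique hp hp1 (h ▸ hwj))
  have hxo : orderOf x = p * w := by
    rw [((show Commute a₁ b₁ from e).pow_pow _ _).orderOf_mul_eq_mul_orderOf_of_coprime,
      orderOf_pow_orderOf_div (orderOf_pos a₁).ne' hpa, orderOf_pow_orderOf_div (orderOf_pos b₁).ne' hwb]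
    rw [orderOf_pow_orderOf_div (orderOf_pos a₁).ne' hpa, orderOf_pow_orderOf_div (orderOf_pos b₁).ne' hwb]
    exact (Nat.coprime_primes hp hw).2 hpw
  exact hk₁.not_pair hp hw hp1 (by rcases hj with rfl | rfl <;> [left; right] <;> exact hwj)
    ⟨x, mul_mem (Subgroup.pow_mem _ ha₁ _) (Subgroup.pow_mem _ hb₁ _)⟩ (by rw [← Subgroup.orderOf_coe]; exact hxo)

theorem Pair.no_swap [Finite G] {S₁ S₂ : Subgroup G} (hs : SpecLe m G) (d : Pair G S₁ S₂)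
    (hk₁ : IsSz m S₁) (hk₂ : IsSz m S₂) (g : G) :
    g ∈ normalizer (S₁ : Set G) ∧ g ∈ normalizer (S₂ : Set G) := by
  rcases d.conj_cases g with ⟨h, h'⟩ | ⟨h, h'⟩
  · exact ⟨mem_normalizer_iff_map_conj_eq.2 h, mem_normalizer_iff_map_conj_eq.2 h'⟩
  exfalso
  set h₀ := g ^ (2 * m + 1) with hh₀
  have hswap : ∀ x ∈ S₁, h₀ * x * h₀⁻¹ ∈ S₂ := by
    intro x hx
    have h1 : (g * g) ^ m ∈ normalizer (S₁ : Set G) := Subgroup.pow_mem _ (d.fixes_sq g).1 m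
    have h2 : (g * g) ^ m * x * ((g * g) ^ m)⁻¹ ∈ S₁ := (mem_normalizer_iff.1 h1 x).1 hx
    rw [hh₀, pow_succ', pow_mul, pow_two,
      show g * (g * g) ^ m * x * (g * (g * g) ^ m)⁻¹ = g * ((g * g) ^ m * x * ((g * g) ^ m)⁻¹) * g⁻¹ by group,
      ← h]
    exact ⟨_, h2, rfl⟩
  have hsq : h₀ * h₀ ∈ d.N := by
    rw [hh₀, ← (Commute.refl g).mul_pow]
    exact d.pow_mem hk₁ hk₂ dvd_rfl dvd_rfl (d.fixes_sq g).1 (d.fixes_sq g).2
  obtain ⟨a, ha, b, hb, hab⟩ := hsq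
  obtain ⟨-, x, -, hx, -, hxo⟩ := exists_elements hk₁
  set y := x * a⁻¹ * h₀ with hy
  set c := h₀ * (x * a⁻¹) * h₀⁻¹ * b with hc
  have hcS : c ∈ S₂ := mul_mem (hswap _ (mul_mem hx (inv_mem ha))) hb
  have hcs : h₀ * (x * a⁻¹) * h₀⁻¹ ∈ S₂ := hswap _ (mul_mem hx (inv_mem ha))
  have hy2 : y ^ 2 = x * c := by
    calc y ^ 2 = x * a⁻¹ * (h₀ * (x * a⁻¹) * h₀⁻¹) * (h₀ * h₀) := by rw [pow_two, hy]; group
      _ = x * a⁻¹ * (h₀ * (x * a⁻¹) * h₀⁻¹ * a) * b := by rw [hab]; group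
      _ = x * c := by rw [← (d.comm a ha _ hcs).eq, hc]; group
  refine hs.not_eight y ?_
  have h4 : 4 ∣ orderOf (y ^ 2) := by
    rw [← hxo]
    refine orderOf_dvd_of_pow_eq_one ?_
    have h1 := pow_orderOf_eq_one (y ^ 2)
    rw [hy2, (d.comm x hx c hcS).mul_pow] at h1
    exact hy2 ▸ d.disjoint (Subgroup.pow_mem _ hx _)
      ((eq_inv_of_mul_eq_one_left h1) ▸ inv_mem (Subgroup.pow_mem _ hcS _))
  have h4' : 4 ∣ orderOf y := h4.trans (orderOf_pow_dvd 2)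
  rw [orderOf_pow' y two_ne_zero, Nat.gcd_eq_right ((show 2 ∣ 4 by norm_num).trans h4')] at h4
  obtain ⟨l, hl⟩ := h4
  exact ⟨l, by have := Nat.div_mul_cancel ((show 2 ∣ 4 by norm_num).trans h4'); omega⟩

theorem Pair.eq_top [Finite G] {S₁ S₂ : Subgroup G} (hm2 : m ≠ 2) (hs : SpecLe m G) (d : Pair G S₁ S₂)
    (hk₁ : IsSz m S₁) (hk₂ : IsSz m S₂) (g : G) : g ∈ d.N := by
  classical
  by_contra hg
  have hfix := d.no_swap hs hk₁ hk₂
  haveI hN : d.N.Normal := ⟨by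
    rintro _ ⟨a, ha, b, hb, rfl⟩ t
    refine ⟨t * a * t⁻¹, (mem_normalizer_iff.1 (hfix t).1 a).1 ha, t * b * t⁻¹,
      (mem_normalizer_iff.1 (hfix t).2 b).1 hb, by group⟩⟩
  set q := QuotientGroup.mk' d.N with hq
  have hqg : q g ≠ 1 := fun h => hg ((QuotientGroup.eq_one_iff g).1 h)
  obtain ⟨p, hp, hpd⟩ := Nat.exists_prime_and_dvd (n := orderOf (q g))
    (fun h => hqg (orderOf_eq_one_iff.1 h))
  haveI := Fact.mk hp
  have hpn : p ∣ 2 * m + 1 := hpd.trans (orderOf_dvd_of_pow_eq_one (by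
    rw [← map_pow]
    exact (QuotientGroup.eq_one_iff _).2 (d.pow_mem hk₁ hk₂ dvd_rfl dvd_rfl (hfix g).1 (hfix g).2)))
  set g' := g ^ (orderOf (q g) / p) with hg'
  have hqg' : orderOf (q g') = p := by
    rw [hg', map_pow, orderOf_pow_orderOf_div (orderOf_pos _).ne' hpd]
  obtain ⟨a, ha, b, hb, hab⟩ : g' ^ p ∈ d.N := (QuotientGroup.eq_one_iff _).1 (by
    show q (g' ^ p) = 1
    rw [map_pow, ← hqg', pow_orderOf_eq_one])
  obtain ⟨s₁, hp₁, ⟨f₁, hf₁o, hf₁⟩, ⟨x₁, hx₁o, hx₁⟩, hy₁⟩ := hk₁.exists_fixing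
    (conjAut S₁ g' (hfix g').1) hp ⟨⟨a, ha⟩, by
      rw [conjAut_pow]
      refine MulEquiv.ext fun x => Subtype.ext ?_
      rw [conjAut_apply, hab, show a * b * (x : G) * (a * b)⁻¹ = a * (b * x * b⁻¹) * a⁻¹ by group,
        ← (d.comm _ x.2 b hb).eq, mul_inv_cancel_right]
      rfl⟩
  obtain ⟨s₂, hp₂, ⟨f₂, hf₂o, hf₂⟩, -, hy₂⟩ := hk₂.exists_fixing
    (conjAut S₂ g' (hfix g').2) hp ⟨⟨b, hb⟩, by
      rw [conjAut_pow]
      refine MulEquiv.ext fun x => Subtype.ext ?_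
      rw [conjAut_apply, hab, (d.comm a ha b hb).eq,
        show b * a * (x : G) * (b * a)⁻¹ = b * (a * x * a⁻¹) * b⁻¹ by group,
        (d.comm a ha _ x.2).eq, mul_inv_cancel_right]
      rfl⟩
  set t := (s₁ : G) * s₂ * g' with ht
  have hc₁ : conjAut S₁ t (hfix t).1 = MulAut.conj s₁ * conjAut S₁ g' (hfix g').1 := by
    refine MulEquiv.ext fun x => Subtype.ext ?_
    show t * (x : G) * t⁻¹ = (s₁ : G) * (g' * x * g'⁻¹) * (s₁ : G)⁻¹
    have hy := (mem_normalizer_iff.1 (hfix g').1 (x : G)).1 x.2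
    rw [ht, show (s₁ : G) * s₂ * g' * x * ((s₁ : G) * s₂ * g')⁻¹ =
      s₁ * (s₂ * (g' * x * g'⁻¹) * (s₂ : G)⁻¹) * (s₁ : G)⁻¹ by group,
      ← (d.comm _ hy s₂ s₂.2).eq, mul_inv_cancel_right]
  have hc₂ : conjAut S₂ t (hfix t).2 = MulAut.conj s₂ * conjAut S₂ g' (hfix g').2 := by
    refine MulEquiv.ext fun x => Subtype.ext ?_
    show t * (x : G) * t⁻¹ = (s₂ : G) * (g' * x * g'⁻¹) * (s₂ : G)⁻¹
    have hy : (s₂ : G) * (g' * x * g'⁻¹) * (s₂ : G)⁻¹ ∈ S₂ :=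
      mul_mem (mul_mem s₂.2 ((mem_normalizer_iff.1 (hfix g').2 (x : G)).1 x.2)) (inv_mem s₂.2)
    rw [ht, show (s₁ : G) * s₂ * g' * x * ((s₁ : G) * s₂ * g')⁻¹ =
      s₁ * ((s₂ : G) * (g' * x * g'⁻¹) * (s₂ : G)⁻¹) * (s₁ : G)⁻¹ by group,
      (d.comm s₁ s₁.2 _ hy).eq, mul_inv_cancel_right]
  have htN : t ∉ d.N := fun h => by
    have h1 : (s₁ : G) * s₂ ∈ d.N := ⟨_, s₁.2, _, s₂.2, rfl⟩
    have h2 : g' ∈ d.N := by
      have := mul_mem (inv_mem h1) h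
      rwa [ht, inv_mul_cancel_left] at this
    have h3 : q g' = 1 := (QuotientGroup.eq_one_iff g').2 h2
    rw [h3, orderOf_one] at hqg'
    exact hp.ne_one hqg'.symm
  have htp : t ^ p = 1 := by
    refine d.eq_one (fun x hx => ?_) fun x hx => ?_
    · have := commute_of_conjAut_eq S₁ (t ^ p) (Subgroup.pow_mem _ (hfix t).1 p) 1
        (by rw [← conjAut_pow S₁ t (hfix t).1, hc₁, hp₁, map_one]) hx
      simpa using this
    · have := commute_of_conjAut_eq S₂ (t ^ p) (Subgroup.pow_mem _ (hfix t).2 p) 1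
        (by rw [← conjAut_pow S₂ t (hfix t).2, hc₂, hp₂, map_one]) hx
      simpa using this
  have hto : orderOf t = p := orderOf_eq_prime htp fun h => htN (h ▸ one_mem _)
  have hfix₁ : ∀ z : S₁, (MulAut.conj s₁ * conjAut S₁ g' (hfix g').1) z = z → Commute t (z : G) := by
    intro z hz
    rw [← hc₁] at hz
    exact mul_inv_eq_iff_eq_mul.1 (congrArg Subtype.val hz)
  have hfix₂ : ∀ z : S₂, (MulAut.conj s₂ * conjAut S₂ g' (hfix g').2) z = z → Commute t (z : G) := by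
    intro z hz
    rw [← hc₂] at hz
    exact mul_inv_eq_iff_eq_mul.1 (congrArg Subtype.val hz)
  obtain ⟨i, hi⟩ := hs.exists_cls hp (hto ▸ orderOf_dvd_natCard t)
  have hp2 : p ≠ 2 := fun e => by subst e; omega
  have hi0 : i ≠ 0 := fun e => hp2 ((Nat.prime_dvd_prime_iff_eq hp Nat.prime_two).1
    (hp.dvd_of_dvd_pow (show p ∣ 2 ^ 2 from by rw [e] at hi; exact hi)))
  obtain ⟨c, hc, hc5⟩ := five_cls m
  have hx4 : 2 ∣ orderOf (x₁ : G) := by rw [Subgroup.orderOf_coe, hx₁o]; norm_num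
  by_cases hic : i = c
  · have hpn' : p ≠ 2 * m + 1 := by
      intro e
      haveI := Fact.mk hp
      have h1 : p ∣ 4 ^ (2 * m + 1) + 1 := by
        rw [← cls_mul]
        rcases hc with rfl | rfl <;> subst hic
        exacts [dvd_mul_of_dvd_left hi _, dvd_mul_of_dvd_right hi _]
      rw [← e, ← ZMod.natCast_eq_zero_iff] at h1
      push_cast at h1
      rw [ZMod.pow_card] at h1
      have h5 : p ∣ 5 := (ZMod.natCast_eq_zero_iff 5 p).1 (by norm_num at h1 ⊢; exact h1)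
      have h6 := (Nat.prime_dvd_prime_iff_eq hp Nat.prime_five).1 h5
      exact hm2 (by clear * - e h6; omega)
    obtain ⟨r, y, hr, hrd, hyo, hy⟩ := hy₂ hpn'
    exact hs.false_of_commute hp Nat.prime_two hr (i := i) (j := 0) (k := 1) hi (by norm_num) hrd hi0
      (by rw [hic]; rcases hc with rfl | rfl <;> decide) (by decide) hto.symm.dvd hx4
      (by rw [Subgroup.orderOf_coe, hyo]) (hfix₁ x₁ hx₁) (hfix₂ y hy) (d.comm x₁ x₁.2 y y.2)
  · exact hs.false_of_commute hp Nat.prime_two Nat.prime_five (i := i) (j := 0) (k := c) hi (by norm_num)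
      hc5 hi0 hic (by rcases hc with rfl | rfl <;> decide) hto.symm.dvd hx4
      (by rw [Subgroup.orderOf_coe, hf₂o]) (hfix₁ x₁ hx₁) (hfix₂ f₂ hf₂) (d.comm x₁ x₁.2 f₂ f₂.2)

theorem not_solvable [Finite G] (hm : 1 ≤ m) (hFull : Full m G) : ¬ Group.IsSolvable G := by
  classical
  have h : ∀ i : Fin 4, ∃ p, p.Prime ∧ p ∣ cls m i :=
    fun i => Nat.exists_prime_and_dvd (one_lt_cls hm i).ne'
  choose P hP hPd using h
  have hinj : Function.Injective P := fun i j e => cls_unique (hP i) (hPd i) (e ▸ hPd j)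
  refine not_isSolvable_of_four (ρ := Finset.univ.image P) ?_ ?_ ?_ ?_
  · intro p hp
    obtain ⟨i, -, rfl⟩ := Finset.mem_image.1 hp
    exact hP i
  · rw [Finset.card_image_of_injective _ hinj]; rfl
  · intro g p hp q hq r hr hpq hpr hqr hd
    obtain ⟨i, -, rfl⟩ := Finset.mem_image.1 hp
    obtain ⟨j, -, rfl⟩ := Finset.mem_image.1 hq
    obtain ⟨l, -, rfl⟩ := Finset.mem_image.1 hr
    exact hFull.spec.no_three (hP i) (hP j) (hP l) (hPd i) (hPd j) (hPd l) (fun e => hpq (by rw [e]))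
      (fun e => hpr (by rw [e])) (fun e => hqr (by rw [e])) g
      ((dvd_mul_of_dvd_left (dvd_mul_right _ _) _).trans hd)
      ((dvd_mul_of_dvd_left (dvd_mul_left _ _) _).trans hd) ((dvd_mul_left _ _).trans hd)
  · intro p hp q hq hne
    obtain ⟨i, -, rfl⟩ := Finset.mem_image.1 hp
    obtain ⟨j, -, rfl⟩ := Finset.mem_image.1 hq
    obtain ⟨a, b, -, -, -, hab⟩ := hFull.pair (fun e => hne (by rw [e])) (hPd i) (hPd j) (hP i).pos (hP j).pos
    exact ⟨a * b, hab⟩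

/-- The recognition theorem. -/
theorem exists_equiv [Finite G] (hm : 1 ≤ m) (hm2 : m ≠ 2) (hFull : Full m G) :
    ∃ (H : Type u) (_ : Group H), IsSz m H ∧ ∃ (K : Type u) (_ : Group K), IsSz m K ∧
      Nonempty (G ≃* H × K) := by
  classical
  haveI : (Cfsg.solvableRadical G).Normal := Structure.solvableRadical_normal
  set π := QuotientGroup.mk' (Cfsg.solvableRadical G) with hπ
  have hker : Group.IsSolvable π.ker := by
    rw [hπ, QuotientGroup.ker_mk']; exact Structure.isSolvable_solvableRadical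
  have hrad := Structure.solvableRadical_quotient (G := G)
  haveI : Nontrivial (G ⧸ Cfsg.solvableRadical G) := by
    rw [← not_subsingleton_iff_nontrivial]
    intro hsub
    refine not_solvable hm hFull (Structure.solvableRadical_eq_top_iff.1 ?_)
    refine eq_top_iff.2 fun g _ => (QuotientGroup.eq_one_iff g).1 (Subsingleton.elim _ _)
  have hπs : Function.Surjective π := QuotientGroup.mk'_surjective _
  have hsQ := hFull.spec.of_surjective π hπs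
  rcases components_cases hrad hsQ with ⟨S, hS, honly⟩ | ⟨S₁, S₂, hne, h₁, h₂, honly⟩
  · exact (one_factor_false hm hm2 hFull π hπs hker hrad hS honly).elim
  obtain ⟨k₁, hk₁, hd₁⟩ := component_isSz hrad hsQ h₁
  obtain ⟨k₂, hk₂, hd₂⟩ := component_isSz hrad hsQ h₂
  have T : TwoData m π S₁ S₂ := ⟨hFull.spec, hπs, hker, hrad, h₁, h₂, hne⟩
  have d : Pair (G ⧸ Cfsg.solvableRadical G) S₁ S₂ := ⟨hrad, h₁, h₂, hne, honly⟩
  -- one of the factors has full degree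
  obtain ⟨w, hw, hwc, hwn, hwkey⟩ := exists_ppd_four hm
  have hw2 : w ≠ 2 := fun e => hwn (by rw [e]; exact dvd_mul_right 2 _)
  obtain ⟨j, hj, hwj⟩ : ∃ j : Fin 4, (j = 2 ∨ j = 3) ∧ w ∣ cls m j := by
    rcases hwc with h | h
    exacts [⟨2, Or.inl rfl, h⟩, ⟨3, Or.inr rfl, h⟩]
  have hj1 : (1 : Fin 4) ≠ j := by rcases hj with rfl | rfl <;> decide
  haveI := Fact.mk hw
  obtain ⟨p, hp, hpd⟩ : ∃ p, p.Prime ∧ p ∣ cls m 1 := Nat.exists_prime_and_dvd (one_lt_cls hm 1).ne'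
  obtain ⟨-, g, -, hgo, -, -⟩ := hFull.pair hj1 hpd hwj hp.pos hw.pos
  have hwg : orderOf (π g) = w := by
    refine orderOf_eq_prime (by rw [← map_pow, ← hgo, pow_orderOf_eq_one, map_one]) fun h => hj1 ?_
    exact cls_unique hw (T.ker_class_and_trivial.1 w hw (hgo ▸ Subgroup.orderOf_dvd_natCard _ h)) hwj
  obtain ⟨a, ha, b, hb, hab⟩ := d.mem_of_coprime hk₁ hk₂ hd₁ hd₂ (g := π g)
    (hwg ▸ (hw.coprime_iff_not_dvd.2 hwn).symm)
  have htriv : π.ker = ⊥ := by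
    rcases d.dvd_comp hw ha hb (hab ▸ hwg.symm.dvd) with h | h
    · exact T.swap.ker_class_and_trivial.2 k₁ hk₁
        (hk₁.param hw hw2 (h.trans (Subgroup.orderOf_dvd_natCard _ ha)) hwkey hd₁)
    · exact T.ker_class_and_trivial.2 k₂ hk₂
        (hk₂.param hw hw2 (h.trans (Subgroup.orderOf_dvd_natCard _ hb)) hwkey hd₂)
  let e : G ≃* G ⧸ Cfsg.solvableRadical G :=
    MulEquiv.ofBijective π ⟨(MonoidHom.ker_eq_bot_iff π).1 htriv, hπs⟩
  have hFQ : Full m (G ⧸ Cfsg.solvableRadical G) := hFull.of_equiv e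
  have hboth : k₁ = m ∧ k₂ = m := by
    rcases d.dvd_comp hw ha hb (hab ▸ hwg.symm.dvd) with h | h
    · have e₁ := hk₁.param hw hw2 (h.trans (Subgroup.orderOf_dvd_natCard _ ha)) hwkey hd₁
      subst e₁
      exact ⟨rfl, d.degree_eq hm hFQ hk₁ hk₂ hd₂⟩
    · have e₂ := hk₂.param hw hw2 (h.trans (Subgroup.orderOf_dvd_natCard _ hb)) hwkey hd₂
      subst e₂
      exact ⟨d.swap.degree_eq hm hFQ hk₂ hk₁ hd₁, rfl⟩
  obtain ⟨rfl, rfl⟩ := hboth
  refine ⟨S₁, inferInstance, hk₁, S₂, inferInstance, hk₂, ?_⟩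
  let φ : S₁ × S₂ →* G ⧸ Cfsg.solvableRadical G :=
    S₁.subtype.noncommCoprod S₂.subtype fun x y => d.comm x x.2 y y.2
  have hφ : ∀ x : S₁ × S₂, φ x = (x.1 : G ⧸ Cfsg.solvableRadical G) * x.2 := fun x => rfl
  have hbij : Function.Bijective φ := by
    refine ⟨fun x y h => ?_, fun z => ?_⟩
    · obtain ⟨h1, h2⟩ := d.unique x.1.2 y.1.2 x.2.2 y.2.2 (by rw [← hφ, ← hφ, h])
      exact Prod.ext (Subtype.ext h1) (Subtype.ext h2)
    · obtain ⟨a, ha, b, hb, rfl⟩ := d.eq_top hm2 hsQ hk₁ hk₂ z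
      exact ⟨(⟨a, ha⟩, ⟨b, hb⟩), rfl⟩
  exact ⟨e.trans (MulEquiv.ofBijective φ hbij).symm⟩

end CfsgLib.SzSquare
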