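import Cfsg.Agent.Lib.SuzukiGroup.Automorphisms
import Cfsg.Agent.Lib.SuzukiGroup.Subfield
import Cfsg.Agent.Lib.SuzukiGroup.SubgroupBasic
import Cfsg.Agent.Lib.ThreeFree.SzFacts
import Cfsg.Agent.Lib.CITThree.SzGraph
import Mathlib.FieldTheory.Finite.Basic
import Cfsg.Prelude.Def_Local

/-!
Facts on a group isomorphic to a Suzuki group used in the recognition of the square of one.
-/

set_option autoImplicit false
set_option linter.style.haveILetI false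
set_option linter.unusedSectionVars false

open scoped MatrixGroups Matrix

namespace CfsgLib.SzSquare

open CfsgLib.SuzukiGroup Subgroup

universe u v

/-- `L` is the Suzuki group over the field of `2 ^ (2 k + 1)` elements. -/
def IsSz (k : ℕ) (L : Type u) [Group L] : Prop :=
  1 ≤ k ∧ ∃ (F : Type) (_ : Field F) (_ : Fintype F),
    Fintype.card F = 2 ^ (2 * k + 1) ∧ Nonempty (L ≃* ↥(Cfsg.Lie.Sz F (2 ^ (k + 1))))

theorem exists_isSz {L : Type u} [Group L] (h : Cfsg.Lie.IsoSuzuki L) : ∃ k, IsSz k L := by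
  obtain ⟨F, iF, iT, k, hk, hF, he⟩ := h
  exact ⟨k, hk, F, iF, iT, hF, he⟩

theorem IsSz.congr {k : ℕ} {L : Type u} [Group L] {M : Type v} [Group M] (h : IsSz k L) (e : L ≃* M) :
    IsSz k M := by
  obtain ⟨hk, F, iF, iT, hF, ⟨ψ⟩⟩ := h
  exact ⟨hk, F, iF, iT, hF, ⟨e.symm.trans ψ⟩⟩

theorem zmod_five_sq : ∀ w : ZMod 5, w * w = 1 → w ≠ 1 → w = 4 := by decide

theorem zmod_five_four : (4 : ZMod 5) + 1 = 0 := by decide

section model

variable {F : Type*} [Field F] [Fintype F] [CharP F 2] {m : ℕ}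
variable (P : Params F (2 ^ (m + 1))) (hF : Fintype.card F = 2 ^ (2 * m + 1)) (hm : 1 ≤ m)

include P hF

theorem card_gal : Nat.card (F ≃+* F) = 2 * m + 1 := by
  haveI : Fact (Nat.Prime 2) := ⟨Nat.prime_two⟩
  letI : Algebra (ZMod 2) F := ZMod.algebra F 2
  have hfin : Module.finrank (ZMod 2) F = 2 * m + 1 := by
    have h := Module.natCard_eq_pow_finrank (K := ZMod 2) (V := F)
    rw [Nat.card_eq_fintype_card, hF, Nat.card_zmod] at h
    exact (Nat.pow_right_injective le_rfl h).symm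
  let toAlg : (F ≃+* F) ≃ (F ≃ₐ[ZMod 2] F) :=
    { toFun := fun σ => AlgEquiv.ofRingEquiv (f := σ) fun r => by
        exact RingHom.congr_fun (RingHom.ext_zmod ((σ : F →+* F).comp (algebraMap (ZMod 2) F)) (algebraMap (ZMod 2) F)) r
      invFun := fun τ => τ.toRingEquiv
      left_inv := fun σ => RingEquiv.ext fun x => rfl
      right_inv := fun τ => AlgEquiv.ext fun x => rfl }
  rw [Nat.card_congr toAlg,
    ← Nat.card_eq_of_bijective _ (FiniteField.bijective_frobeniusAlgEquivOfAlgebraic_pow (ZMod 2) F),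
    Nat.card_fin, hfin]

theorem exists_frobenius_eq (σ : F ≃+* F) : ∃ i : ℕ, ∀ x : F, σ x = x ^ 2 ^ i := by
  haveI : Fact (Nat.Prime 2) := ⟨Nat.prime_two⟩
  letI : Algebra (ZMod 2) F := ZMod.algebra F 2
  obtain ⟨i, hi⟩ := (FiniteField.bijective_frobeniusAlgEquivOfAlgebraic_pow (ZMod 2) F).2
    (AlgEquiv.ofRingEquiv (f := σ) fun r => by
      exact RingHom.congr_fun (RingHom.ext_zmod ((σ : F →+* F).comp (algebraMap (ZMod 2) F)) (algebraMap (ZMod 2) F)) r)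
  refine ⟨(i : ℕ), fun x => ?_⟩
  have h := AlgEquiv.congr_fun hi x
  refine h.symm.trans ?_
  have h2 : ∀ (k : ℕ) (y : F),
      (FiniteField.frobeniusAlgEquivOfAlgebraic (ZMod 2) F ^ k) y = y ^ 2 ^ k := by
    intro k
    induction k with
    | zero => simp
    | succ k ih =>
      intro y
      rw [pow_succ', AlgEquiv.mul_apply, ih,
        FiniteField.coe_frobeniusAlgEquivOfAlgebraic]
      simp only [ZMod.card, ← pow_mul, ← pow_succ]
  exact h2 _ x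

include hm

theorem exists_five_four : ∃ f x : ↥(Cfsg.Lie.Sz F (2 ^ (m + 1))), orderOf f = 5 ∧ orderOf x = 4 ∧
    x * f * x⁻¹ ∈ zpowers f ∧ x ^ 2 * f * (x ^ 2)⁻¹ = f⁻¹ ∧
    ∀ σ : F ≃+* F, fieldAut P σ f = f ∧ fieldAut P σ x = x := by
  haveI : Fact (Nat.Prime 2) := ⟨Nat.prime_two⟩
  haveI : Fact (Nat.Prime 5) := ⟨Nat.prime_five⟩
  set L : Subfield F := ⊥ with hL
  have hmemL : ∀ a : F, a ∈ L → a = 0 ∨ a = 1 := by
    intro a ha
    rw [hL, ← Subfield.closure_empty] at ha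
    induction ha using Subfield.closure_induction with
    | mem x hx => exact absurd hx (Set.notMem_empty x)
    | one => exact Or.inr rfl
    | add a b _ _ ha hb =>
      rcases ha with rfl | rfl <;> rcases hb with rfl | rfl <;> simp [CharTwo.add_self_eq_zero]
    | neg a _ ha => rwa [CharTwo.neg_eq]
    | inv a _ ha => rcases ha with rfl | rfl <;> simp
    | mul a b _ _ ha hb => rcases ha with rfl | rfl <;> rcases hb with rfl | rfl <;> simp
  have hL2 : Nat.card ↥L = 2 := by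
    have hset : (L : Set F) = {0, 1} := Set.eq_of_subset_of_subset (fun a ha => by simpa using hmemL a ha)
      (by rintro a (rfl | rfl); exacts [zero_mem _, one_mem _])
    show Nat.card ↥(L : Set F) = 2
    rw [hset, Nat.card_coe_set_eq, Set.ncard_pair zero_ne_one]
  set K := subGroup (e := 2 ^ (m + 1)) L with hK
  have hK20 : Nat.card ↥K = 20 := by rw [hK, card_subGroup P L, hL2]; norm_num
  obtain ⟨f₀, hf₀⟩ := exists_prime_orderOf_dvd_card' (G := ↥K) 5 (by rw [hK20]; norm_num)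
  have hF5 : Nat.card ↥(zpowers f₀) = 5 := by rw [Nat.card_zpowers, hf₀]
  have hfK : (f₀ : ↥(Cfsg.Lie.Sz F (2 ^ (m + 1)))) ∈ K := f₀.2
  obtain ⟨S, hS⟩ := (IsPGroup.of_card (p := 5) (n := 1) (by rw [hF5, pow_one])).exists_le_sylow
  have hScard : Nat.card (S : Subgroup ↥K) = 5 := by
    rw [S.card_eq_multiplicity, hK20, show (20 : ℕ).factorization 5 = 1 by
      rw [show (20 : ℕ) = 5 * 4 by norm_num, Nat.factorization_mul (by norm_num) (by norm_num)]
      simp [Nat.factorization_eq_zero_of_not_dvd (show ¬ 5 ∣ 4 by norm_num),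
        (Nat.prime_five).factorization_self]]
    norm_num
  have hSf : (S : Subgroup ↥K) = zpowers f₀ :=
    (eq_of_le_of_card_ge hS (by rw [hScard, hF5])).symm
  have huniq : ∀ T : Sylow 5 ↥K, T = S := by
    intro T
    have h1 := card_sylow_modEq_one 5 ↥K
    have h2 : Nat.card (Sylow 5 ↥K) ∣ 4 := by
      have := S.card_dvd_index
      have h3 := (S : Subgroup ↥K).card_mul_index
      rw [hScard, hK20] at h3
      rwa [show (S : Subgroup ↥K).index = 4 by omega] at this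
    have h4 : Nat.card (Sylow 5 ↥K) = 1 := by
      have h5 := Nat.le_of_dvd (by norm_num) h2
      have h6 : 0 < Nat.card (Sylow 5 ↥K) := Nat.card_pos
      unfold Nat.ModEq at h1
      interval_cases (Nat.card (Sylow 5 ↥K)) <;> simp_all
    haveI := (Nat.card_eq_one_iff_unique.1 h4).1
    exact Subsingleton.elim T S
  set x : ↥(Cfsg.Lie.Sz F (2 ^ (m + 1))) := uEl P 1 0 with hx
  have hxK : x ∈ K := (uEl_mem_subGroup P L).2 ⟨one_mem _, zero_mem _⟩
  have hxo : orderOf x = 4 := orderOf_uEl P 0 one_ne_zero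
  set f : ↥(Cfsg.Lie.Sz F (2 ^ (m + 1))) := (f₀ : ↥(Cfsg.Lie.Sz F (2 ^ (m + 1)))) with hf
  have hfo : orderOf f = 5 := by rw [hf, Subgroup.orderOf_coe, hf₀]
  have hnorm : ∀ y : ↥K, (y : ↥(Cfsg.Lie.Sz F (2 ^ (m + 1)))) * f * (y : ↥(Cfsg.Lie.Sz F (2 ^ (m + 1))))⁻¹ ∈ zpowers f := by
    intro y
    have h1 : MulAut.conj y • f₀ ∈ ((y • S : Sylow 5 ↥K) : Subgroup ↥K) := by
      rw [Sylow.coe_subgroup_smul]
      exact smul_mem_pointwise_smul _ _ _ (hSf ▸ mem_zpowers f₀)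
    rw [huniq (y • S), hSf] at h1
    obtain ⟨i, hi⟩ := mem_zpowers_iff.1 h1
    exact ⟨i, by simpa [hf] using congrArg (Subtype.val) hi⟩
  refine ⟨f, x, hfo, hxo, hnorm ⟨x, hxK⟩, ?_, fun σ => ?_⟩
  · obtain ⟨i, hi⟩ := mem_powers_iff_mem_zpowers.2 (hnorm ⟨x, hxK⟩)
    simp only at hi
    have h2 : x ^ 2 * f * (x ^ 2)⁻¹ = f ^ (i * i) := by
      rw [pow_two, show x * x * f * (x * x)⁻¹ = x * (x * f * x⁻¹) * x⁻¹ by group, ← hi, ← conj_pow, ← hi,
        ← pow_mul]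
    have h4 : f ^ (i * i * (i * i)) = f := by
      rw [pow_mul, ← h2, conj_pow, ← h2]
      rw [show x ^ 2 * (x ^ 2 * f * (x ^ 2)⁻¹) * (x ^ 2)⁻¹ = x ^ 4 * f * (x ^ 4)⁻¹ by group,
        (by have h := pow_orderOf_eq_one x; rwa [hxo] at h : x ^ 4 = 1)]
      group
    have hne : f ^ (i * i) ≠ f := fun e => by
      rw [e] at h2
      have hx2 : x ^ 2 ≠ 1 := pow_ne_one_of_lt_orderOf (by norm_num) (by rw [hxo]; norm_num)
      have hx2u : x ^ 2 ∈ unip P := ⟨0, 1 * P.θ 1, by rw [hx, uEl_sq]⟩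
      have hcen : f ∈ centralizer ({x ^ 2} : Set _) := mem_centralizer_singleton_iff.2
        (show f * x ^ 2 = x ^ 2 * f from (mul_inv_eq_iff_eq_mul.1 h2).symm)
      have hfu := centralizer_le_unip P hx2u hx2 hcen
      have h4' : orderOf f ∣ 4 := orderOf_dvd_four P (k := 1) (by simpa using hfu)
      rw [hfo] at h4'; norm_num at h4'
    have e1 : ((i * i * (i * i) : ℕ) : ZMod 5) = 1 := by
      have : f ^ (i * i * (i * i)) = f ^ 1 := by rw [h4, pow_one]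
      rw [pow_eq_pow_iff_modEq, hfo] at this
      simpa using (ZMod.natCast_eq_natCast_iff _ _ _).2 this
    have e2 : ((i * i : ℕ) : ZMod 5) ≠ 1 := fun e => hne (by
      conv_rhs => rw [← pow_one f]
      rw [pow_eq_pow_iff_modEq, hfo, ← ZMod.natCast_eq_natCast_iff]
      simpa using e)
    have e3 : ((i * i : ℕ) : ZMod 5) = 4 := by
      rw [Nat.cast_mul] at e1
      generalize ((i * i : ℕ) : ZMod 5) = w at e1 e2 ⊢
      exact zmod_five_sq w e1 e2
    rw [h2, ← mul_left_inj f, inv_mul_cancel, ← pow_succ, ← orderOf_dvd_iff_pow_eq_one, hfo,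
      ← ZMod.natCast_eq_zero_iff, Nat.cast_succ, e3]
    exact zmod_five_four
  · have hfix : ∀ g ∈ K, fieldAut P σ g = g := by
      intro g hg
      refine mat_ext ?_
      show mat (fieldHom P σ g) = mat g
      rw [mat_fieldHom]
      ext i j
      rw [Matrix.map_apply]
      rcases hmemL _ ((mem_subGroup L).1 hg i j) with h | h <;> rw [h] <;> simp
    exact ⟨hfix f hfK, hfix x hxK⟩

omit hm in
theorem gal_comm (σ τ : F ≃+* F) : σ * τ = τ * σ := by
  obtain ⟨i, hi⟩ := exists_frobenius_eq P hF σ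
  obtain ⟨j, hj⟩ := exists_frobenius_eq P hF τ
  refine RingEquiv.ext fun x => ?_
  show σ (τ x) = τ (σ x)
  rw [hi, hj, hj, hi, ← pow_mul, ← pow_mul, mul_comm]

theorem exists_decomp (α : MulAut ↥(Cfsg.Lie.Sz F (2 ^ (m + 1)))) :
    ∃ (g : ↥(Cfsg.Lie.Sz F (2 ^ (m + 1)))) (σ : F ≃+* F), α = MulAut.conj g * fieldAut P σ := by
  obtain ⟨g, hg⟩ := exists_normalised hm hF P α
  obtain ⟨σ, hσ⟩ := normalised_eq_fieldAut hm hF P hg
  exact ⟨g⁻¹, σ, by rw [← hσ, map_inv, inv_mul_cancel_left]⟩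

theorem aut_comm (α β : MulAut ↥(Cfsg.Lie.Sz F (2 ^ (m + 1)))) :
    ∃ s, α * β = MulAut.conj s * (β * α) := by
  obtain ⟨a, σ, rfl⟩ := exists_decomp P hF hm α
  obtain ⟨b, τ, rfl⟩ := exists_decomp P hF hm β
  have key : ∀ (a b : ↥(Cfsg.Lie.Sz F (2 ^ (m + 1)))) (σ τ : F ≃+* F),
      MulAut.conj a * fieldAut P σ * (MulAut.conj b * fieldAut P τ) =
        MulAut.conj (a * fieldAut P σ b) * fieldAut P (σ * τ) := by
    intro a b σ τ
    rw [map_mul, map_mul]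
    refine MulEquiv.ext fun x => ?_
    simp only [MulAut.mul_apply, MulAut.conj_apply, map_mul, map_inv]
  refine ⟨a * fieldAut P σ b * (b * fieldAut P τ a)⁻¹, ?_⟩
  rw [key, key, gal_comm P hF τ σ, ← mul_assoc, ← map_mul, inv_mul_cancel_right]

omit P hF hm in
theorem conj_mul_pow {G : Type*} [Group G] (g : G) (α : MulAut G) (p : ℕ) :
    ∃ s, (MulAut.conj g * α) ^ p = MulAut.conj s * α ^ p := by
  induction p with
  | zero => exact ⟨1, by simp⟩
  | succ p ih =>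
    obtain ⟨s, hs⟩ := ih
    refine ⟨s * (α ^ p) g, ?_⟩
    rw [pow_succ, hs, pow_succ, map_mul]
    refine MulEquiv.ext fun x => ?_
    simp only [MulAut.mul_apply, MulAut.conj_apply, map_mul, map_inv]

theorem aut_pow (α : MulAut ↥(Cfsg.Lie.Sz F (2 ^ (m + 1)))) :
    ∃ s, α ^ (2 * m + 1) = MulAut.conj s := by
  obtain ⟨a, σ, rfl⟩ := exists_decomp P hF hm α
  obtain ⟨s, hs⟩ := conj_mul_pow a (fieldAut P σ) (2 * m + 1)
  refine ⟨s, ?_⟩
  rw [hs, ← map_pow, ← card_gal P hF, pow_card_eq_one', map_one, mul_one]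

/-- A representative of an automorphism modulo the inner ones which fixes elements of small order. -/
theorem exists_fixing (α : MulAut ↥(Cfsg.Lie.Sz F (2 ^ (m + 1)))) {p : ℕ} (hp : p.Prime)
    (hα : ∃ s, α ^ p = MulAut.conj s) :
    ∃ s, (MulAut.conj s * α) ^ p = 1 ∧
      (∃ f, orderOf f = 5 ∧ (MulAut.conj s * α) f = f) ∧
      (∃ x, orderOf x = 4 ∧ (MulAut.conj s * α) x = x) ∧
      (p ≠ 2 * m + 1 → ∃ (r : ℕ) (y : ↥(Cfsg.Lie.Sz F (2 ^ (m + 1)))), r.Prime ∧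
        r ∣ 2 ^ (2 * m + 1) - 1 ∧ orderOf y = r ∧ (MulAut.conj s * α) y = y) := by
  obtain ⟨a, σ, rfl⟩ := exists_decomp P hF hm α
  refine ⟨a⁻¹, ?_⟩
  rw [map_inv, inv_mul_cancel_left]
  obtain ⟨s, hs⟩ := hα
  obtain ⟨s', hs'⟩ := conj_mul_pow a (fieldAut P σ) p
  have hσp : σ ^ p = 1 := eq_one_of_fieldAut_inner hm hF P (g := s'⁻¹ * s) (by
    rw [map_pow, map_mul, map_inv, ← hs, hs', inv_mul_cancel_left])
  obtain ⟨f, x, hf, hx, -, -, hfix⟩ := exists_five_four P hF hm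
  refine ⟨by rw [← map_pow, hσp, map_one], ⟨f, hf, (hfix σ).1⟩, ⟨x, hx, (hfix σ).2⟩, fun hpn => ?_⟩
  obtain ⟨i, hi⟩ := exists_frobenius_eq P hF σ
  obtain ⟨g, hg⟩ := IsCyclic.exists_generator (α := Fˣ)
  have hgo : orderOf g = 2 ^ (2 * m + 1) - 1 := by
    rw [orderOf_eq_card_of_forall_mem_zpowers hg, Nat.card_units, Nat.card_eq_fintype_card, hF]
  have hpow : ∀ (l : ℕ) (z : F), (σ ^ l) z = z ^ 2 ^ (i * l) := by
    intro l
    induction l with
    | zero => intro z; simp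
    | succ l ih =>
      intro z
      rw [pow_succ, RingAut.mul_apply, ih, hi, ← pow_mul, ← pow_add]
      congr 2; ring
  have hdiv : 2 * m + 1 ∣ i * p := by
    have h1 : g ^ (2 ^ (i * p) - 1) = 1 := by
      have h2 := hpow p (g : F)
      rw [hσp] at h2
      rw [pow_sub g Nat.one_le_two_pow, pow_one, mul_inv_eq_one]
      exact Units.ext (by simpa using h2.symm)
    have h3 := orderOf_dvd_of_pow_eq_one h1
    rw [hgo] at h3
    have h4 := Nat.gcd_eq_left h3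
    rw [Nat.pow_sub_one_gcd_pow_sub_one] at h4
    have h5 : (2 * m + 1).gcd (i * p) = 2 * m + 1 := by
      refine Nat.pow_right_injective le_rfl ?_
      show 2 ^ _ = 2 ^ _
      have := Nat.two_pow_pos ((2 * m + 1).gcd (i * p))
      have := Nat.two_pow_pos (2 * m + 1)
      omega
    exact Nat.gcd_eq_left_iff_dvd.1 h5
  obtain ⟨d, hd2, hdn, hdi⟩ : ∃ d, 2 ≤ d ∧ d ∣ 2 * m + 1 ∧ d ∣ i := by
    by_cases hpd : p ∣ 2 * m + 1
    · obtain ⟨d, hd⟩ := hpd
      refine ⟨d, ?_, ⟨p, by rw [hd, mul_comm]⟩, ?_⟩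
      · rcases d with _ | _ | d
        · simp at hd
        · exact absurd (by omega) hpn
        · omega
      · rw [hd, mul_comm p d] at hdiv
        exact Nat.dvd_of_mul_dvd_mul_right hp.pos hdiv
    · exact ⟨2 * m + 1, by omega, dvd_rfl,
        ((hp.coprime_iff_not_dvd.2 hpd).symm).dvd_of_dvd_mul_right hdiv⟩
  have hd4 : 2 ^ 2 ≤ 2 ^ d := Nat.pow_le_pow_right two_pos hd2
  obtain ⟨r, hr, hrd⟩ := Nat.exists_prime_and_dvd (n := 2 ^ d - 1) (by omega)
  have hrq : r ∣ 2 ^ (2 * m + 1) - 1 := hrd.trans (Nat.pow_sub_one_dvd_pow_sub_one 2 hdn)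
  haveI : Fact r.Prime := ⟨hr⟩
  obtain ⟨z, hz⟩ := exists_prime_orderOf_dvd_card' (G := Fˣ) r (by
    rw [Nat.card_units, Nat.card_eq_fintype_card, hF]; exact hrq)
  have hzσ : Units.map σ.toMonoidHom z = z := by
    obtain ⟨j, hj⟩ := hdi
    have h1 : r ∣ 2 ^ i - 1 := hrd.trans (Nat.pow_sub_one_dvd_pow_sub_one 2 ⟨j, hj⟩)
    have h2 : z ^ 2 ^ i = z := by
      obtain ⟨c, hc⟩ := h1
      rw [show 2 ^ i = r * c + 1 by have := Nat.two_pow_pos i; omega, pow_succ, pow_mul, ← hz,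
        pow_orderOf_eq_one, one_pow, one_mul]
    refine Units.ext ?_
    show σ (z : F) = z
    rw [hi, ← Units.val_pow_eq_pow_val, h2]
  refine ⟨r, dEl P z, hr, hrq, ?_, by rw [fieldAut_dEl, hzσ]⟩
  refine orderOf_eq_prime ?_ fun h => ?_
  · have hpw : ∀ l : ℕ, dEl P z ^ l = dEl P (z ^ l) := fun l => by
      induction l with
      | zero => rw [pow_zero, pow_zero]; exact (dEl_one P).symm
      | succ l ih => rw [pow_succ (dEl P z), ih, pow_succ z, dEl_mul]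
    rw [hpw, ← hz, pow_orderOf_eq_one, dEl_one]
  · have hz1 : z = 1 := dEl_inj P (h.trans (dEl_one P).symm)
    rw [hz1, orderOf_one] at hz
    exact hr.ne_one hz.symm

end model

theorem IsSz.card {k : ℕ} {L : Type u} [Group L] (h : IsSz k L) :
    Nat.card L = (2 ^ (2 * k + 1)) ^ 2 * (2 ^ (2 * k + 1) - 1) * ((2 ^ (2 * k + 1)) ^ 2 + 1) := by
  obtain ⟨hk, F, iF, iT, hF, ⟨ψ⟩⟩ := h
  rw [Nat.card_congr ψ.toEquiv, CITThree.SzGraph.card_eq hF]

theorem IsSz.finite {k : ℕ} {L : Type u} [Group L] (h : IsSz k L) : Finite L := by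
  obtain ⟨hk, F, iF, iT, hF, ⟨ψ⟩⟩ := h
  exact Finite.of_equiv _ ψ.symm.toEquiv

theorem IsSz.exists_prime_order {k : ℕ} {L : Type u} [Group L] (h : IsSz k L) {p : ℕ} [Fact p.Prime]
    (hp : p ∣ (2 ^ (2 * k + 1)) ^ 2 * (2 ^ (2 * k + 1) - 1) * ((2 ^ (2 * k + 1)) ^ 2 + 1)) :
    ∃ g : L, orderOf g = p := by
  haveI := h.finite
  exact exists_prime_orderOf_dvd_card' p (h.card ▸ hp)

theorem IsSz.five_four {k : ℕ} {L : Type u} [Group L] (h : IsSz k L) :
    ∃ f x : L, orderOf f = 5 ∧ orderOf x = 4 ∧ x * f * x⁻¹ ∈ zpowers f ∧ x ^ 2 * f * (x ^ 2)⁻¹ = f⁻¹ := by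
  obtain ⟨hk, F, iF, iT, hF, ⟨ψ⟩⟩ := h
  obtain ⟨hC, ⟨P⟩⟩ := exists_params hF
  haveI := hC
  obtain ⟨f, x, hf, hx, hn, hi, -⟩ := exists_five_four P hF hk
  obtain ⟨i, hi'⟩ := mem_zpowers_iff.1 hn
  refine ⟨ψ.symm f, ψ.symm x, by rw [MulEquiv.orderOf_eq, hf], by rw [MulEquiv.orderOf_eq, hx],
    ⟨i, ?_⟩, ?_⟩
  · simpa using congrArg ψ.symm hi'
  · simpa using congrArg ψ.symm hi

theorem IsSz.cyclic_centralizer {k : ℕ} {L : Type u} [Group L] (h : IsSz k L) {g : L}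
    (hg : ¬ orderOf g ∣ 4) : IsCyclic ↥(centralizer ({g} : Set L)) := by
  obtain ⟨hk, F, iF, iT, hF, ⟨ψ⟩⟩ := h
  obtain ⟨hC, ⟨P⟩⟩ := exists_params hF
  haveI := hC
  haveI := (oddTI P hF hk).cyclic (ψ g) (by rwa [MulEquiv.orderOf_eq])
  refine isCyclic_of_injective (((ψ.toMonoidHom.comp (centralizer ({g} : Set L)).subtype).codRestrict
    (centralizer ({ψ g} : Set _)) fun x => mem_centralizer_singleton_iff.2 ?_)) ?_
  · show ψ x * ψ g = ψ g * ψ x
    rw [← map_mul, ← map_mul, mem_centralizer_singleton_iff.1 x.2]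
  · intro a b hab
    exact Subtype.ext (ψ.injective (congrArg Subtype.val hab))

theorem IsSz.aut_comm {k : ℕ} {L : Type u} [Group L] (h : IsSz k L) (α β : MulAut L) :
    ∃ s, α * β = MulAut.conj s * (β * α) := by
  obtain ⟨hk, F, iF, iT, hF, ⟨ψ⟩⟩ := h
  obtain ⟨hC, ⟨P⟩⟩ := exists_params hF
  haveI := hC
  obtain ⟨s, hs⟩ := SzSquare.aut_comm P hF hk (MulAut.congr ψ α) (MulAut.congr ψ β)
  refine ⟨ψ.symm s, (MulAut.congr ψ).injective ?_⟩
  rw [map_mul, hs, map_mul, map_mul]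
  congr 1
  refine MulEquiv.ext fun x => ?_
  simp [MulAut.congr]

theorem congr_conj {L : Type u} [Group L] {M : Type v} [Group M] (ψ : L ≃* M) (s : M) :
    MulAut.congr ψ (MulAut.conj (ψ.symm s)) = MulAut.conj s :=
  MulEquiv.ext fun x => by simp [MulAut.congr]

theorem IsSz.aut_pow {k : ℕ} {L : Type u} [Group L] (h : IsSz k L) (α : MulAut L) :
    ∃ s, α ^ (2 * k + 1) = MulAut.conj s := by
  obtain ⟨hk, F, iF, iT, hF, ⟨ψ⟩⟩ := h
  obtain ⟨hC, ⟨P⟩⟩ := exists_params hF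
  haveI := hC
  obtain ⟨s, hs⟩ := SzSquare.aut_pow P hF hk (MulAut.congr ψ α)
  refine ⟨ψ.symm s, (MulAut.congr ψ).injective ?_⟩
  rw [map_pow, hs, congr_conj]

theorem IsSz.exists_fixing {k : ℕ} {L : Type u} [Group L] (h : IsSz k L) (α : MulAut L) {p : ℕ}
    (hp : p.Prime) (hα : ∃ s, α ^ p = MulAut.conj s) :
    ∃ s, (MulAut.conj s * α) ^ p = 1 ∧
      (∃ f, orderOf f = 5 ∧ (MulAut.conj s * α) f = f) ∧
      (∃ x, orderOf x = 4 ∧ (MulAut.conj s * α) x = x) ∧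
      (p ≠ 2 * k + 1 → ∃ (r : ℕ) (y : L), r.Prime ∧
        r ∣ 2 ^ (2 * k + 1) - 1 ∧ orderOf y = r ∧ (MulAut.conj s * α) y = y) := by
  obtain ⟨hk, F, iF, iT, hF, ⟨ψ⟩⟩ := h
  obtain ⟨hC, ⟨P⟩⟩ := exists_params hF
  haveI := hC
  obtain ⟨s₀, hs₀⟩ := hα
  obtain ⟨s, hp1, ⟨f, hf, hff⟩, ⟨x, hx, hxx⟩, hy⟩ := SzSquare.exists_fixing P hF hk
    (MulAut.congr ψ α) hp ⟨ψ s₀, by
      rw [← map_pow, hs₀, ← congr_conj ψ (ψ s₀), ψ.symm_apply_apply]⟩
  have hc : MulAut.congr ψ (MulAut.conj (ψ.symm s) * α) = MulAut.conj s * MulAut.congr ψ α := by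
    rw [map_mul, congr_conj]
  have hfix : ∀ z, (MulAut.conj s * MulAut.congr ψ α) z = z →
      (MulAut.conj (ψ.symm s) * α) (ψ.symm z) = ψ.symm z := by
    intro z hz
    apply ψ.injective
    rw [ψ.apply_symm_apply]
    conv_rhs => rw [← hz, ← hc]
    rfl
  refine ⟨ψ.symm s, (MulAut.congr ψ).injective ?_, ⟨ψ.symm f, by rw [MulEquiv.orderOf_eq, hf], hfix f hff⟩,
    ⟨ψ.symm x, by rw [MulEquiv.orderOf_eq, hx], hfix x hxx⟩, fun hpn => ?_⟩
  · rw [map_pow, hc, hp1, map_one]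
  · obtain ⟨r, y, hr, hrd, hyo, hyy⟩ := hy hpn
    exact ⟨r, ψ.symm y, hr, hrd, by rw [MulEquiv.orderOf_eq, hyo], hfix y hyy⟩

/-- The torus normalising a Sylow `2`-subgroup. -/
theorem IsSz.torus {k : ℕ} {L : Type u} [Group L] [Finite L] (h : IsSz k L) (T : Sylow 2 L) :
    ∃ (Z : Subgroup L) (t : L), ThreeFree.SzData L (2 * k + 1) T Z t := by
  haveI : Fact (Nat.Prime 2) := ⟨Nat.prime_two⟩
  have hiso : Cfsg.Lie.IsoSuzuki L := by
    obtain ⟨hk, F, iF, iT, hF, e⟩ := h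
    exact ⟨F, iF, iT, k, hk, hF, e⟩
  obtain ⟨n, Z, t, hd⟩ := ThreeFree.szFactsHold L hiso T
  have e : n = 2 * k + 1 := by
    have h1 := hd.card_T
    rw [T.card_eq_multiplicity, h.card, ← pow_mul] at h1
    have hodd : ∀ N : ℕ, Odd N → N.factorization 2 = 0 := fun N hN =>
      Nat.factorization_eq_zero_of_not_dvd (Nat.two_dvd_ne_zero.2 (Nat.odd_iff.1 hN))
    have hD : Odd (2 ^ (2 * k + 1) - 1) :=
      Nat.Even.sub_odd Nat.one_le_two_pow (Nat.even_pow.2 ⟨even_two, by omega⟩) odd_one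
    have hQ : Odd ((2 ^ (2 * k + 1)) ^ 2 + 1) :=
      ((Nat.even_pow.2 ⟨even_two, by omega⟩).pow_of_ne_zero two_ne_zero).add_one
    rw [← pow_mul (2 : ℕ)] at hQ
    have h0 : (2 : ℕ) ^ ((2 * k + 1) * 2) ≠ 0 := by positivity
    rw [Nat.factorization_mul (Nat.mul_ne_zero h0 hD.pos.ne') hQ.pos.ne',
      Nat.factorization_mul h0 hD.pos.ne'] at h1
    simp only [Finsupp.add_apply, hodd _ hD, hodd _ hQ, add_zero, ← pow_mul,
      Nat.Prime.factorization_pow Nat.prime_two, Finsupp.single_eq_same] at h1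
    have := Nat.pow_right_injective le_rfl h1
    omega
  exact ⟨Z, t, e ▸ hd⟩

theorem IsSz.equiv {k : ℕ} {L : Type u} [Group L] (h : IsSz k L) {F : Type v} [Field F] [Fintype F]
    (hF : Fintype.card F = 2 ^ (2 * k + 1)) : Nonempty (L ≃* ↥(Cfsg.Lie.Sz F (2 ^ (k + 1)))) := by
  obtain ⟨hk, K, iK, iT, hK, ⟨ψ⟩⟩ := h
  obtain ⟨e⟩ := CITThree.SzGraph.nonempty_equiv hF hK
  exact ⟨ψ.trans e⟩

end CfsgLib.SzSquare
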