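import Cfsg.Agent.Lib.SzSquare.Socle
import Cfsg.Agent.Lib.SzSquare.Descent
import Cfsg.Agent.Lib.Spectrum.Solvable

/-!
The quotient by the radical of a group with the element orders of the square of a Suzuki group does
not have a simple socle.
-/

set_option autoImplicit false
set_option linter.style.haveILetI false

namespace CfsgLib.SzSquare

open Subgroup
open scoped commutatorElement Pointwise

universe u v

variable {m : ℕ} {G : Type u} [Group G] [Finite G] {Q : Type v} [Group Q] [Finite Q]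

/-- The element orders of the square of the Suzuki group. -/
structure Full (m : ℕ) (G : Type u) [Group G] : Prop where
  spec : SpecLe m G
  edge : ∀ i j : Fin 4, i ≠ j → ∃ g : G, orderOf g = cls m i * cls m j

theorem Full.pair (h : Full m G) {i j : Fin 4} (hij : i ≠ j) {p q : ℕ} (hp : p ∣ cls m i)
    (hq : q ∣ cls m j) (hp0 : 0 < p) (hq0 : 0 < q) :
    ∃ a b : G, orderOf a = p ∧ orderOf b = q ∧ Commute a b ∧ orderOf (a * b) = p * q := by
  obtain ⟨g, hg⟩ := h.edge i j hij
  have hpq : p.Coprime q := ((coprime_cls m hij).coprime_dvd_left hp).coprime_dvd_right hq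
  refine ⟨g ^ (orderOf g / p), g ^ (orderOf g / q),
    orderOf_pow_orderOf_div (orderOf_pos g).ne' (hp.trans (hg ▸ dvd_mul_right _ _)),
    orderOf_pow_orderOf_div (orderOf_pos g).ne' (hq.trans (hg ▸ dvd_mul_left _ _)),
    Commute.pow_pow (Commute.refl g) _ _, ?_⟩
  rw [(Commute.pow_pow (Commute.refl g) _ _).orderOf_mul_eq_mul_orderOf_of_coprime,
    orderOf_pow_orderOf_div (orderOf_pos g).ne' (hp.trans (hg ▸ dvd_mul_right _ _)),
    orderOf_pow_orderOf_div (orderOf_pos g).ne' (hq.trans (hg ▸ dvd_mul_left _ _))]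
  rwa [orderOf_pow_orderOf_div (orderOf_pos g).ne' (hp.trans (hg ▸ dvd_mul_right _ _)),
    orderOf_pow_orderOf_div (orderOf_pos g).ne' (hq.trans (hg ▸ dvd_mul_left _ _))]

/-- Conjugation on a normalised subgroup. -/
noncomputable def conjAut (S : Subgroup G) (g : G) (h : g ∈ normalizer (S : Set G)) : MulAut S :=
  S.normalizerMonoidHom ⟨g, h⟩

omit [Finite G] in
theorem conjAut_apply (S : Subgroup G) (g : G) (h : g ∈ normalizer (S : Set G)) (x : S) :
    ((conjAut S g h x : S) : G) = g * x * g⁻¹ := rfl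

omit [Finite G] in
theorem commute_of_conjAut_eq (S : Subgroup G) (g : G) (h : g ∈ normalizer (S : Set G)) (s : S)
    (he : conjAut S g h = MulAut.conj s) {x : G} (hx : x ∈ S) : Commute ((s : G)⁻¹ * g) x := by
  have h1 : g * x * g⁻¹ = (s : G) * x * (s : G)⁻¹ := by
    have := congrArg (fun φ : MulAut S => ((φ ⟨x, hx⟩ : S) : G)) he
    simpa [conjAut_apply] using this
  show (s : G)⁻¹ * g * x = x * ((s : G)⁻¹ * g)
  calc (s : G)⁻¹ * g * x = (s : G)⁻¹ * (g * x * g⁻¹) * g := by group
    _ = x * ((s : G)⁻¹ * g) := by rw [h1]; group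

omit [Finite G] in
theorem conjAut_pow (S : Subgroup G) (g : G) (h : g ∈ normalizer (S : Set G)) (k : ℕ) :
    conjAut S g h ^ k = conjAut S (g ^ k) (pow_mem h k) := by
  rw [conjAut, conjAut, ← map_pow]; rfl

omit [Finite G] in
theorem mem_zpowers_pow_of_coprime {g : G} {n : ℕ} (h : n.Coprime (orderOf g)) : g ∈ zpowers (g ^ n) := by
  obtain ⟨k, hk⟩ := exists_pow_eq_self_of_coprime (x := g) h
  exact ⟨k, (zpow_natCast _ _).trans hk⟩

theorem one_factor_false (hm : 1 ≤ m) (hm2 : m ≠ 2) (hFull : Full m G) (π : G →* Q)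
    (hπ : Function.Surjective π) (hker : Group.IsSolvable π.ker) (hR : Cfsg.solvableRadical Q = ⊥)
    {S : Subgroup Q} (hS : Cfsg.IsComponent S)
    (honly : ∀ K : Subgroup Q, Cfsg.IsComponent K → K = S) : False := by
  classical
  have hsQ : SpecLe m Q := hFull.spec.of_surjective π hπ
  haveI hSsimple := component_simple hR hS
  obtain ⟨k, hk, hkm⟩ := component_isSz hR hsQ hS
  have hnorm : ∀ g : Q, g ∈ normalizer (S : Set Q) := fun g =>
    mem_normalizer_iff_map_conj_eq.2 (honly _ (component_conj hS g))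
  haveI hSn : S.Normal := normalizer_eq_top_iff.1 (eq_top_iff.2 fun g _ => hnorm g)
  have hC : ∀ g : Q, (∀ x ∈ S, Commute g x) → g = 1 := fun g hg =>
    eq_one_of_commute_components hR fun K hK => (honly K hK).symm ▸ hg
  have hpowS : ∀ g : Q, g ^ (2 * m + 1) ∈ S := by
    intro g
    obtain ⟨s, hs⟩ := hk.aut_pow (conjAut S g (hnorm g))
    rw [conjAut_pow] at hs
    have h1 := hC _ fun x hx => commute_of_conjAut_eq S _ _ s hs hx
    obtain ⟨j, hj⟩ := hkm
    rw [hj, pow_mul]
    refine pow_mem ?_ j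
    rw [← inv_mul_eq_one.1 h1]
    exact s.2
  have hcommS : ∀ a b : Q, a * b * (b * a)⁻¹ ∈ S := by
    intro a b
    obtain ⟨s, hs⟩ := hk.aut_comm (conjAut S a (hnorm a)) (conjAut S b (hnorm b))
    have hab : conjAut S (a * b * (b * a)⁻¹) (hnorm _) = MulAut.conj s := by
      have e : ∀ x y : Q, conjAut S (x * y) (hnorm _) = conjAut S x (hnorm x) * conjAut S y (hnorm y) := by
        intro x y
        rw [conjAut, conjAut, conjAut, ← map_mul]; rfl
      have e2 : conjAut S (b * a)⁻¹ (hnorm _) = (conjAut S (b * a) (hnorm _))⁻¹ := by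
        rw [conjAut, conjAut, ← map_inv]; rfl
      rw [e, e2, e, e, hs, mul_inv_cancel_right]
    have h1 := hC _ fun x hx => commute_of_conjAut_eq S _ _ s hab hx
    rw [← inv_mul_eq_one.1 h1]
    exact s.2
  obtain ⟨five, hfive, h5⟩ := five_cls m
  have hprimes : ∀ i : Fin 4, ∃ p : ℕ, p.Prime ∧ p ∣ cls m i ∧ (i ≠ 0 → ¬ p ∣ 2 * (2 * m + 1)) := by
    intro i
    rcases eq_or_ne i 0 with rfl | hi
    · exact ⟨2, Nat.prime_two, by norm_num, fun h => absurd rfl h⟩
    · obtain ⟨p, h1, h2, h3⟩ := exists_prime_not_dvd hm hm2 hi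
      exact ⟨p, h1, h2, fun _ => h3⟩
  choose P hP hPd hPn using hprimes
  have hPinj : ∀ {i j : Fin 4}, i ≠ j → P i ≠ P j := fun {i j} hij e =>
    hij (cls_unique (hP i) (hPd i) (e ▸ hPd j))
  -- Higman's lemma in a centraliser
  have higman : ∀ (i : Fin 4) (a b c : Fin 4), a ≠ b → a ≠ c → b ≠ c → i ≠ a → i ≠ b → i ≠ c →
      ∀ z : G, P i ∣ orderOf z → ∀ H : Subgroup G, Group.IsSolvable H → (∀ h ∈ H, Commute z h) →
      P a ∣ Nat.card H → P b ∣ Nat.card H → P c ∣ Nat.card H → False := by
    intro i a b c hab hac hbc hia hib hic z hz H hH hzH ha hb hc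
    obtain ⟨s, hs, t, ht, hst, g, hg⟩ := Spectrum.exists_orderOf_mul_of_solvable_three hH (hP a) (hP b)
      (hP c) (hPinj hab) (hPinj hac) (hPinj hbc) ha hb hc
    have hcls : ∀ s ∈ ({P a, P b, P c} : Finset ℕ), ∃ j, j ≠ i ∧ s = P j := by
      intro s hs
      simp only [Finset.mem_insert, Finset.mem_singleton] at hs
      rcases hs with rfl | rfl | rfl
      exacts [⟨a, hia.symm, rfl⟩, ⟨b, hib.symm, rfl⟩, ⟨c, hic.symm, rfl⟩]
    obtain ⟨js, hjs, rfl⟩ := hcls s hs
    obtain ⟨jt, hjt, rfl⟩ := hcls t ht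
    rw [← Subgroup.orderOf_coe] at hg
    exact hFull.spec.false_of_commute (hP i) (hP js) (hP jt) (hPd i) (hPd js) (hPd jt) hjs.symm
      hjt.symm (fun e => hst (by rw [e])) hz (hg ▸ dvd_mul_right _ _) (hg ▸ dvd_mul_left _ _)
      (hzH _ g.2) (hzH _ g.2) (Commute.refl _)
  -- each odd class has a prime in the kernel
  have hdiv : ∀ i : Fin 4, i ≠ 0 → P i ∣ Nat.card π.ker := by
    intro i hi
    by_contra hnd
    haveI := Fact.mk (hP i)
    obtain ⟨T⟩ := (inferInstance : Nonempty (Sylow (P i) G))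
    have hp2 : P i ≠ 2 := fun e => hPn i hi (by rw [e]; exact dvd_mul_right 2 _)
    have hinj : ∀ z ∈ (T : Subgroup G), π z = 1 → z = 1 := by
      intro z hz hz1
      by_contra hne
      exact hnd ((dvd_orderOf_of_mem T.isPGroup' hz hne).trans (Subgroup.orderOf_dvd_natCard _ hz1))
    have hinS : ∀ z ∈ (T : Subgroup G), π z ∈ S := by
      intro z hz
      obtain ⟨l, hl⟩ := IsPGroup.iff_orderOf.1 T.isPGroup' ⟨z, hz⟩
      rw [← Subgroup.orderOf_coe] at hl
      have hcop : (2 * m + 1).Coprime (orderOf (π z)) := by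
        refine (Nat.Coprime.coprime_dvd_right (orderOf_map_dvd π z) ?_)
        rw [show orderOf z = P i ^ l from hl]
        exact (((hP i).coprime_iff_not_dvd.2 fun h => hPn i hi (dvd_mul_of_dvd_right h 2)).pow_left l).symm
      exact zpowers_le.2 (hpowS (π z)) (mem_zpowers_pow_of_coprime hcop)
    have hTne : (T : Subgroup G) ≠ ⊥ := by
      obtain ⟨j, hj⟩ : ∃ j, j ≠ i := exists_ne i
      obtain ⟨a, -, ha, -, -, -⟩ := hFull.pair hj.symm (hPd i) (hPd j) (hP i).pos (hP j).pos
      refine T.ne_bot_of_dvd_card ?_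
      exact ha ▸ orderOf_dvd_natCard a
    obtain ⟨x, hxT, hxo, hxc⟩ := exists_central T.isPGroup' hTne
    have hπx1 : π x ≠ 1 := fun h => (hP i).ne_one (by rw [← hxo, hinj x hxT h, orderOf_one])
    have hπxo : orderOf (π x) = P i :=
      orderOf_eq_prime (by rw [← map_pow, ← hxo, pow_orderOf_eq_one, map_one]) hπx1
    set xS : S := ⟨π x, hinS x hxT⟩ with hxS
    have hxS4 : ¬ orderOf xS ∣ 4 := by
      rw [← Subgroup.orderOf_coe, hπxo]
      exact fun h => hp2 ((Nat.prime_dvd_prime_iff_eq (hP i) Nat.prime_two).1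
        ((hP i).dvd_of_dvd_pow (show P i ∣ 2 ^ 2 from h)))
    haveI := hk.cyclic_centralizer hxS4
    haveI : IsCyclic (T : Subgroup G) := by
      let φ₀ : (T : Subgroup G) →* S :=
        (π.comp (T : Subgroup G).subtype).codRestrict S fun z => hinS z z.2
      let φ : (T : Subgroup G) →* centralizer ({xS} : Set S) :=
        φ₀.codRestrict _ fun z => mem_centralizer_singleton_iff.2 (Subtype.ext (by
          show π (z : G) * π x = π x * π (z : G)
          rw [← map_mul, ← map_mul, (hxc z z.2).eq]))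
      refine isCyclic_of_injective φ ((injective_iff_map_eq_one φ).2 fun z hz => Subtype.ext (hinj z z.2 ?_))
      exact congrArg (fun w : centralizer ({xS} : Set S) => ((w : S) : Q)) hz
    have hothers : ∀ j, j ≠ i → P j ∣ Nat.card (centralizer ({x} : Set G)) := by
      intro j hj
      obtain ⟨a, b, ha, hb, hab, -⟩ := hFull.pair hj.symm (hPd i) (hPd j) (hP i).pos (hP j).pos
      obtain ⟨T', hT'⟩ := (IsPGroup.of_card (n := 1) (by rw [Nat.card_zpowers, ha, pow_one]) :
        IsPGroup (P i) (zpowers a)).exists_le_sylow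
      obtain ⟨h, hh⟩ := MulAction.exists_smul_eq G T' T
      have haT : h * a * h⁻¹ ∈ (T : Subgroup G) := by
        rw [← hh, Sylow.coe_subgroup_smul]
        exact smul_mem_pointwise_smul a (MulAut.conj h) _ (hT' (mem_zpowers a))
      have hao : orderOf (h * a * h⁻¹) = P i := by rw [← MulAut.conj_apply, MulEquiv.orderOf_eq, ha]
      obtain ⟨l, hl⟩ := mem_zpowers_iff.1
        (mem_zpowers_of_cyclic (hP i) haT hxT hao (hxo ▸ pow_orderOf_eq_one x))
      have hbmem : h * b * h⁻¹ ∈ centralizer ({x} : Set G) := by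
        rw [mem_centralizer_singleton_iff, ← hl]
        exact ((hab.map (MulAut.conj h)).zpow_left l).eq.symm
      exact hb ▸ (MulEquiv.orderOf_eq (MulAut.conj h) b) ▸ Subgroup.orderOf_dvd_natCard _ hbmem
    have hsolQ : Group.IsSolvable (centralizer ({π x} : Set Q)) := by
      set H := centralizer ({π x} : Set Q) with hH
      set A := (S.subgroupOf H) with hA
      haveI : Group.IsSolvable A := by
        refine Group.isSolvable_of_comm fun a b => Subtype.ext (Subtype.ext ?_)
        have key : ∀ z : A, (⟨((z : H) : Q), mem_subgroupOf.1 z.2⟩ : S) ∈ centralizer ({xS} : Set S) :=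
          fun z => mem_centralizer_singleton_iff.2 (Subtype.ext (mem_centralizer_singleton_iff.1 (z : H).2))
        letI := IsCyclic.commGroup (α := centralizer ({xS} : Set S))
        exact congrArg (fun w : centralizer ({xS} : Set S) => ((w : S) : Q))
          (mul_comm (⟨_, key a⟩ : centralizer ({xS} : Set S)) ⟨_, key b⟩)
      haveI : Group.IsSolvable (Q ⧸ S) := Group.isSolvable_of_comm fun a b => by
        induction a using QuotientGroup.induction_on with
        | H a =>
          induction b using QuotientGroup.induction_on with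
          | H b =>
            rw [← QuotientGroup.mk_mul, ← QuotientGroup.mk_mul, ← mul_inv_eq_one, ← QuotientGroup.mk_inv,
              ← QuotientGroup.mk_mul, QuotientGroup.eq_one_iff]
            exact hcommS a b
      refine Group.isSolvable_of_ker_le_range A.subtype ((QuotientGroup.mk' S).comp H.subtype) fun z hz => ?_
      exact ⟨⟨z, mem_subgroupOf.2 ((QuotientGroup.eq_one_iff _).1 hz)⟩, rfl⟩
    have hsolC : Group.IsSolvable (centralizer ({x} : Set G)) := by
      set C := centralizer ({x} : Set G) with hC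
      haveI := hker
      haveI : Group.IsSolvable (π.ker.subgroupOf C) := by
        let f : π.ker.subgroupOf C →* π.ker :=
          (C.subtype.comp (π.ker.subgroupOf C).subtype).codRestrict π.ker fun z => mem_subgroupOf.1 z.2
        exact Group.isSolvable_of_isSolvable_injective (f := f)
          fun a b hab => Subtype.ext (Subtype.ext (congrArg (fun z : π.ker => (z : G)) hab))
      haveI := hsolQ
      let ψ : C →* centralizer ({π x} : Set Q) :=
        (π.comp C.subtype).codRestrict _ fun z => mem_centralizer_singleton_iff.2 (by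
          show π (z : G) * π x = π x * π (z : G)
          rw [← map_mul, ← map_mul, mem_centralizer_singleton_iff.1 z.2])
      refine Group.isSolvable_of_ker_le_range (π.ker.subgroupOf C).subtype ψ fun z hz => ?_
      exact ⟨⟨z, mem_subgroupOf.2 (congrArg Subtype.val hz)⟩, rfl⟩
    obtain ⟨a, b, c, hab, hac, hbc, hia, hib, hic⟩ : ∃ a b c : Fin 4,
        a ≠ b ∧ a ≠ c ∧ b ≠ c ∧ i ≠ a ∧ i ≠ b ∧ i ≠ c := by
      exact (show ∀ i : Fin 4, ∃ a b c : Fin 4,
        a ≠ b ∧ a ≠ c ∧ b ≠ c ∧ i ≠ a ∧ i ≠ b ∧ i ≠ c by decide) i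
    exact higman i a b c hab hac hbc hia hib hic x hxo.symm.dvd _ hsolC
      (fun h hh => (mem_centralizer_singleton_iff.1 hh).symm)
      (hothers a hia.symm) (hothers b hib.symm) (hothers c hic.symm)
  -- an involution centralising elements of the three orders
  obtain ⟨L, hperf, hmap, hLn⟩ := exists_perfect_preimage π hπ (component_perfect hS)
  obtain ⟨O, hOn, hOR, hOodd, hOmax⟩ := exists_odd_core π.ker
  haveI := hOn
  have hLO := commutator_mem_core hFull.spec.not_eight π hker hSsimple hk hperf hmap hOR hOodd hOmax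
  set q := QuotientGroup.mk' O with hq
  set π₁ : G ⧸ O →* Q := QuotientGroup.lift O π hOR with hπ₁
  set L₁ := L.map q with hL₁
  have hL₁S : ∀ z : L₁, π₁ (z : G ⧸ O) ∈ S := by
    rintro ⟨_, l, hl, rfl⟩
    rw [← hmap]
    exact ⟨l, hl, rfl⟩
  let ρ : L₁ →* S := (π₁.comp L₁.subtype).codRestrict S hL₁S
  have hρ : Function.Surjective ρ := fun s => by
    obtain ⟨l, hl, hls⟩ : (s : Q) ∈ L.map π := by rw [hmap]; exact s.2
    exact ⟨⟨q l, mem_map_of_mem q hl⟩, Subtype.ext hls⟩
  have hcentral : ∀ z, ρ z = 1 → ∀ g : L₁, Commute z g := by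
    rintro ⟨_, l, hl, rfl⟩ hz ⟨_, g, hg, rfl⟩
    refine Subtype.ext ?_
    show q l * q g = q g * q l
    have hlk : π l = 1 := congrArg Subtype.val hz
    have h1 : q ⁅g, l⁆ = 1 := (QuotientGroup.eq_one_iff _).2 (hLO g hg l hlk)
    rw [map_commutatorElement] at h1
    exact (commutatorElement_eq_one_iff_commute.1 h1).symm.eq
  obtain ⟨T⟩ := (inferInstance : Nonempty (Sylow 2 S))
  obtain ⟨Z, t, hd⟩ := hk.torus T
  obtain ⟨⟨_, l, hl, rfl⟩, hu2, -, hu1⟩ := exists_involution_lift ρ hρ hcentral hd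
  have hl2 : l * l ∈ O := (QuotientGroup.eq_one_iff _).1 (congrArg Subtype.val hu2)
  obtain ⟨e, he2, heπ⟩ := exists_involution_power π hOodd hOR hl2
  set u := l ^ e with hu
  have huL : u ∈ L := pow_mem hl e
  have hπu : π u ∈ S := hmap ▸ mem_map_of_mem π huL
  have hπu1 : π u ≠ 1 := fun h => hu1 (Subtype.ext (heπ.symm.trans h))
  set W := π.ker ⊓ centralizer ({u} : Set G) with hW
  have hWdiv : ∀ i : Fin 4, i ≠ 0 → P i ∣ Nat.card W := by
    intro i hi
    haveI := Fact.mk (hP i)
    obtain ⟨v, hvR, hvd, hvc⟩ : ∃ v ∈ π.ker, P i ∣ orderOf v ∧ Commute u v := by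
      by_cases hrO : P i ∣ Nat.card O
      · haveI := hker
        rcases centralizer_dvd_or hOn (Structure.isSolvable_of_le hOR hker) hOodd (hP i) hrO he2 with
          ⟨v, hv, h1, h2⟩ | ⟨C, hCn, hgu, huC⟩
        · exact ⟨v, hOR hv, h1, h2⟩
        exfalso
        obtain ⟨s, hs⟩ : ∃ s : S, ¬ Commute s ⟨π u, hπu⟩ := by
          by_contra hcon
          push Not at hcon
          have : (⟨π u, hπu⟩ : S) ∈ center S := mem_center_iff.2 fun s => (hcon s).eq
          rw [component_center hR hS, mem_bot] at this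
          exact hπu1 (congrArg Subtype.val this)
        obtain ⟨g, hg, hgs⟩ : (s : Q) ∈ L.map π := by rw [hmap]; exact s.2
        refine huC (perfect_le_of_mem π hker hSsimple hperf hmap C hCn
          (mul_mem (mul_mem (mul_mem hg huL) (inv_mem hg)) (inv_mem huL)) (hgu g) (fun h => hs ?_) huL)
        refine Subtype.ext ?_
        show (s : Q) * π u = π u * (s : Q)
        rw [map_mul, map_mul, map_mul, map_inv, map_inv, hgs] at h
        exact mul_inv_eq_iff_eq_mul.1 (mul_inv_eq_one.1 h)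
      · obtain ⟨r₀, hr₀⟩ := exists_prime_orderOf_dvd_card' (P i) (hdiv i hi)
        have hr' : orderOf (r₀ : G) = P i := by rw [Subgroup.orderOf_coe, hr₀]
        have hnO : (r₀ : G) ∉ O := fun h => hrO (hr' ▸ Subgroup.orderOf_dvd_natCard _ h)
        obtain ⟨w, hw, hwc⟩ := exists_fixed_in_coset O hOodd he2 (normalizer_eq_top O ▸ mem_top u)
          (g := (r₀ : G)) (hLO u huL r₀ r₀.2)
        refine ⟨w * r₀, mul_mem (hOR hw) r₀.2, ?_, hwc⟩
        have h1 : orderOf (q (r₀ : G)) = P i := orderOf_eq_prime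
          (by rw [← map_pow, ← hr', pow_orderOf_eq_one, map_one])
          fun h => hnO ((QuotientGroup.eq_one_iff _).1 h)
        have h2 : q (w * r₀) = q (r₀ : G) := by
          rw [map_mul, show q w = 1 from (QuotientGroup.eq_one_iff w).2 hw, one_mul]
        exact h1 ▸ h2 ▸ orderOf_map_dvd q _
    exact hvd.trans (Subgroup.orderOf_dvd_natCard _ (mem_inf.2 ⟨hvR, mem_centralizer_singleton_iff.2 hvc.eq.symm⟩))
  have huo : orderOf u = 2 := orderOf_eq_prime (by rw [pow_two]; exact he2)
    fun h => hπu1 (by rw [h, map_one])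
  have hP0 : P 0 = 2 := (Nat.prime_dvd_prime_iff_eq (hP 0) Nat.prime_two).1
    ((hP 0).dvd_of_dvd_pow (show P 0 ∣ 2 ^ 2 from hPd 0))
  exact higman 0 1 2 3 (by decide) (by decide) (by decide) (by decide) (by decide) (by decide) u
    (by rw [hP0, huo]) W (Structure.isSolvable_of_le inf_le_left hker)
    (fun h hh => (mem_centralizer_singleton_iff.1 hh.2).symm) (hWdiv 1 (by decide)) (hWdiv 2 (by decide))
    (hWdiv 3 (by decide))

end CfsgLib.SzSquare
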