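import Cfsg.Agent.Lib.SzSquare.Spec
import Cfsg.Agent.Lib.Components.FStar
import Cfsg.Agent.Lib.Structure.SolvableRadical
import Cfsg.Agent.Lib.ThreeFree.Final

/-!
The simple subnormal subgroups of a group without solvable normal subgroups and with element orders
among those of the square of a Suzuki group.
-/

set_option autoImplicit false
set_option linter.style.haveILetI false

namespace CfsgLib.SzSquare

open Subgroup

universe u

variable {m : ℕ} {Q : Type u} [Group Q] [Finite Q]

theorem component_center (hR : Cfsg.solvableRadical Q = ⊥) {K : Subgroup Q}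
    (hK : Cfsg.IsComponent K) : center K = ⊥ := by
  have hs : ((center K).map K.subtype).IsSubnormal :=
    Subgroup.IsSubnormal.trans' (inferInstance : (center K).Normal).isSubnormal hK.1
  have hsol : Group.IsSolvable ((center K).map K.subtype) :=
    haveI : Group.IsSolvable (center K) :=
      Group.isSolvable_of_comm fun a b => Subtype.ext (mem_center_iff.1 b.2 a)
    Group.isSolvable_of_surjective (MonoidHom.subgroupMap_surjective K.subtype _)
  have := Structure.le_solvableRadical_of_isSubnormal hs hsol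
  rw [hR, le_bot_iff, map_eq_bot_iff_of_injective _ K.subtype_injective] at this
  exact this

theorem component_simple (hR : Cfsg.solvableRadical Q = ⊥) {K : Subgroup Q}
    (hK : Cfsg.IsComponent K) : IsSimpleGroup K := by
  haveI := Components.quasisimple_nontrivial hK.2
  exact ⟨fun N hN => by
    haveI := hN
    rcases Components.quasisimple_normal_eq_top_or_le_center hK.2 N with h | h
    · exact Or.inr h
    · exact Or.inl (le_bot_iff.1 (component_center hR hK ▸ h))⟩

theorem component_perfect {K : Subgroup Q} (hK : Cfsg.IsComponent K) : ⁅K, K⁆ = K :=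
  Components.component_commutator_self hK

theorem component_isSz (hR : Cfsg.solvableRadical Q = ⊥) (hs : SpecLe m Q) {K : Subgroup Q}
    (hK : Cfsg.IsComponent K) : ∃ k, IsSz k K ∧ 2 * k + 1 ∣ 2 * m + 1 := by
  haveI := component_simple hR hK
  obtain ⟨k, hk⟩ := exists_isSz (ThreeFree.threeFreeSimple K inferInstance
    (Components.quasisimple_not_isMulCommutative hK.2)
    fun h => hs.not_three (h.trans (card_subgroup_dvd_card K)))
  exact ⟨k, hk, hs.degree_dvd hk⟩

omit [Finite Q] in
theorem components_commute' {K K' : Subgroup Q} (h : ⁅K, K'⁆ = ⊥) {x y : Q} (hx : x ∈ K)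
    (hy : y ∈ K') : Commute x y :=
  Components.commute_of_commutator_eq_bot h hx hy

theorem components_commute {K K' : Subgroup Q} (hK : Cfsg.IsComponent K) (hK' : Cfsg.IsComponent K')
    (hne : K ≠ K') {x y : Q} (hx : x ∈ K) (hy : y ∈ K') : Commute x y :=
  components_commute' (Components.commutator_components_eq_bot hK hK' hne) hx hy

theorem components_inter (hR : Cfsg.solvableRadical Q = ⊥) {K K' : Subgroup Q}
    (hK : Cfsg.IsComponent K) (hK' : Cfsg.IsComponent K') (hne : K ≠ K') {x : Q} (hx : x ∈ K)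
    (hx' : x ∈ K') : x = 1 := by
  have : (⟨x, hx⟩ : K) ∈ center K := mem_center_iff.2 fun y =>
    Subtype.ext (components_commute hK hK' hne y.2 hx').eq
  rw [component_center hR hK, mem_bot] at this
  exact congrArg Subtype.val this

theorem eq_one_of_commute_components (hR : Cfsg.solvableRadical Q = ⊥) {g : Q}
    (h : ∀ K : Subgroup Q, Cfsg.IsComponent K → ∀ x ∈ K, Commute g x) : g = 1 := by
  have hF : Cfsg.fittingSubgroup Q = ⊥ := Structure.solvableRadical_eq_bot_iff.1 hR
  have hlay : Cfsg.layer Q ≤ centralizer ({g} : Set Q) :=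
    sSup_le fun K hK x hx => mem_centralizer_singleton_iff.2 (h K hK x hx).eq.symm
  have hg : g ∈ centralizer (Cfsg.generalizedFittingSubgroup Q : Set Q) := by
    refine mem_centralizer_iff.2 fun x hx => ?_
    rw [Cfsg.generalizedFittingSubgroup, hF, sup_bot_eq] at hx
    exact mem_centralizer_singleton_iff.1 (hlay hx)
  have := Components.centralizer_generalizedFitting_le_fitting hg
  rw [hF, mem_bot] at this
  exact this

omit [Finite Q] in
theorem component_conj {K : Subgroup Q} (hK : Cfsg.IsComponent K) (g : Q) :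
    Cfsg.IsComponent (K.map (MulAut.conj g).toMonoidHom) :=
  Components.isComponent_map_equiv (MulAut.conj g) hK

/-- An element of each prime dividing a class of a section's degree, and of order five and four. -/
theorem exists_elements {K : Subgroup Q} {k : ℕ} (hk : IsSz k K) :
    ∃ f x : Q, f ∈ K ∧ x ∈ K ∧ orderOf f = 5 ∧ orderOf x = 4 := by
  obtain ⟨f, x, hf, hx, -, -⟩ := hk.five_four
  exact ⟨f, x, f.2, x.2, by rw [Subgroup.orderOf_coe, hf], by rw [Subgroup.orderOf_coe, hx]⟩

/-- An element of the split torus of prime order in a section. -/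
theorem exists_split {K : Subgroup Q} {k : ℕ} (hk : IsSz k K) (hd : 2 * k + 1 ∣ 2 * m + 1) :
    ∃ (p : ℕ) (y : Q), p.Prime ∧ p ∣ cls m 1 ∧ y ∈ K ∧ orderOf y = p := by
  have h4 : 2 ^ 2 ≤ 2 ^ (2 * k + 1) := Nat.pow_le_pow_right two_pos (by have := hk.1; omega)
  obtain ⟨p, hp, hpd⟩ := Nat.exists_prime_and_dvd (n := 2 ^ (2 * k + 1) - 1) (by omega)
  haveI := Fact.mk hp
  obtain ⟨y, hy⟩ := hk.exists_prime_order (p := p)
    (dvd_mul_of_dvd_left (dvd_mul_of_dvd_right hpd _) _)
  exact ⟨p, y, hp, hpd.trans (Nat.pow_sub_one_dvd_pow_sub_one 2 hd), y.2, by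
    rw [Subgroup.orderOf_coe, hy]⟩

/-- There are one or two components. -/
theorem components_cases [Nontrivial Q] (hR : Cfsg.solvableRadical Q = ⊥) (hs : SpecLe m Q) :
    (∃ S : Subgroup Q, Cfsg.IsComponent S ∧ ∀ K, Cfsg.IsComponent K → K = S) ∨
      ∃ S₁ S₂ : Subgroup Q, S₁ ≠ S₂ ∧ Cfsg.IsComponent S₁ ∧ Cfsg.IsComponent S₂ ∧
        ∀ K, Cfsg.IsComponent K → K = S₁ ∨ K = S₂ := by
  classical
  by_cases h0 : ∃ S : Subgroup Q, Cfsg.IsComponent S
  swap
  · obtain ⟨g, hg⟩ := exists_ne (1 : Q)
    exact absurd (eq_one_of_commute_components hR fun K hK => absurd ⟨K, hK⟩ h0) hg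
  obtain ⟨S₁, h1⟩ := h0
  by_cases h1' : ∀ K, Cfsg.IsComponent K → K = S₁
  · exact Or.inl ⟨S₁, h1, h1'⟩
  push Not at h1'
  obtain ⟨S₂, h2, h21⟩ := h1'
  refine Or.inr ⟨S₁, S₂, h21.symm, h1, h2, fun K hK => ?_⟩
  by_contra hne
  push Not at hne
  obtain ⟨k₁, hk₁, -⟩ := component_isSz hR hs h1
  obtain ⟨k₂, hk₂, -⟩ := component_isSz hR hs h2
  obtain ⟨k₃, hk₃, hd₃⟩ := component_isSz hR hs hK
  obtain ⟨-, x, -, hx, -, hxo⟩ := exists_elements hk₁
  obtain ⟨f, -, hf, -, hfo, -⟩ := exists_elements hk₂
  obtain ⟨p, y, hp, hpd, hy, hyo⟩ := exists_split hk₃ hd₃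
  obtain ⟨c, hc, hc5⟩ := five_cls m
  refine hs.false_of_commute Nat.prime_two Nat.prime_five hp (i := 0) (j := c) (k := 1)
    (by norm_num) hc5 hpd ?_ (by decide) ?_ (hxo ▸ (by norm_num : (2 : ℕ) ∣ 4)) hfo.symm.dvd hyo.symm.dvd
    (components_commute h1 h2 h21.symm hx hf) (components_commute h1 hK hne.1.symm hx hy)
    (components_commute h2 hK hne.2.symm hf hy)
  · rcases hc with rfl | rfl <;> decide
  · rcases hc with rfl | rfl <;> decide

end CfsgLib.SzSquare
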