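import Cfsg.Agent.Lib.SzSquare.Arith
import Cfsg.Agent.Lib.SzSquare.Model
import Cfsg.Agent.Lib.SzSquare.SquareTools

/-!
Element orders among those of the square of a Suzuki group.
-/

set_option autoImplicit false
set_option linter.style.haveILetI false

namespace CfsgLib.SzSquare

open Subgroup

universe u v

variable {m : ℕ} {G : Type u} [Group G] {H : Type v} [Group H]

/-- Every element order divides the product of two classes. -/
def SpecLe (m : ℕ) (G : Type u) [Group G] : Prop :=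
  ∀ g : G, ∃ i j : Fin 4, i ≠ j ∧ orderOf g ∣ cls m i * cls m j

theorem SpecLe.of_surjective (hG : SpecLe m G) (f : G →* H) (hf : Function.Surjective f) :
    SpecLe m H := fun h => by
  obtain ⟨g, rfl⟩ := hf h
  obtain ⟨i, j, hij, hd⟩ := hG g
  exact ⟨i, j, hij, (orderOf_map_dvd f g).trans hd⟩

theorem SpecLe.of_injective (hG : SpecLe m G) (f : H →* G) (hf : Function.Injective f) :
    SpecLe m H := fun h => by
  obtain ⟨i, j, hij, hd⟩ := hG (f h)
  exact ⟨i, j, hij, by rwa [orderOf_injective f hf] at hd⟩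

/-- No element order involves primes of three classes. -/
theorem SpecLe.no_three (hG : SpecLe m G) {i j k : Fin 4} {p q r : ℕ} (hp : p.Prime) (hq : q.Prime)
    (hr : r.Prime) (hi : p ∣ cls m i) (hj : q ∣ cls m j) (hk : r ∣ cls m k) (hij : i ≠ j) (hik : i ≠ k)
    (hjk : j ≠ k) (g : G) (h1 : p ∣ orderOf g) (h2 : q ∣ orderOf g) (h3 : r ∣ orderOf g) : False := by
  obtain ⟨a, b, -, hd⟩ := hG g
  have key : ∀ {s : ℕ} {c : Fin 4}, s.Prime → s ∣ cls m c → s ∣ orderOf g → c = a ∨ c = b := by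
    intro s c hs hc hsg
    rcases hs.dvd_mul.1 (hsg.trans hd) with h | h
    exacts [Or.inl (cls_unique hs hc h), Or.inr (cls_unique hs hc h)]
  rcases key hp hi h1 with rfl | rfl <;> rcases key hq hj h2 with rfl | rfl <;>
    rcases key hr hk h3 with rfl | rfl <;> first
      | exact hij rfl | exact hik rfl | exact hjk rfl

/-- Three pairwise commuting elements cannot involve primes of three classes. -/
theorem SpecLe.false_of_commute [Finite G] (hG : SpecLe m G) {i j k : Fin 4} {p q r : ℕ}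
    (hp : p.Prime) (hq : q.Prime) (hr : r.Prime) (hi : p ∣ cls m i) (hj : q ∣ cls m j)
    (hk : r ∣ cls m k) (hij : i ≠ j) (hik : i ≠ k) (hjk : j ≠ k) {x y z : G} (hx : p ∣ orderOf x)
    (hy : q ∣ orderOf y) (hz : r ∣ orderOf z) (hxy : Commute x y) (hxz : Commute x z)
    (hyz : Commute y z) : False := by
  classical
  have hne : ∀ {s t : ℕ} {a b : Fin 4}, s.Prime → s ∣ cls m a → t ∣ cls m b → a ≠ b → s ≠ t :=
    fun hs ha hb hab e => hab (cls_unique hs ha (e ▸ hb))
  have hpq := hne hp hi hj hij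
  have hpr := hne hp hi hk hik
  have hqr := hne hq hj hk hjk
  refine NoTriple.false_of_commute (ρ := ({p, q, r} : Finset ℕ)) (by simp [hp, hq, hr]) ?_
    (by simp) (by simp) (by simp) hpq hpr hqr hx hy hz hxy hxz hyz
  intro g a ha b hb c hc hab hac hbc hdvd
  refine hG.no_three hp hq hr hi hj hk hij hik hjk g ?_ ?_ ?_
  all_goals
    simp only [Finset.mem_insert, Finset.mem_singleton] at ha hb hc
    have h1 : a ∣ orderOf g := (dvd_mul_of_dvd_left (dvd_mul_right a b) c).trans hdvd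
    have h2 : b ∣ orderOf g := (dvd_mul_of_dvd_left (dvd_mul_left b a) c).trans hdvd
    have h3 : c ∣ orderOf g := (dvd_mul_left c _).trans hdvd
    rcases ha with rfl | rfl | rfl <;> rcases hb with rfl | rfl | rfl <;>
      rcases hc with rfl | rfl | rfl <;>
        first | assumption | exact absurd rfl hab | exact absurd rfl hac | exact absurd rfl hbc

theorem SpecLe.not_eight (hG : SpecLe m G) (g : G) : ¬ 8 ∣ orderOf g := by
  intro h8
  obtain ⟨a, b, hab, hd⟩ := hG g
  have hcop : ∀ c : Fin 4, c ≠ 0 → Nat.Coprime 8 (cls m c) := fun c hc => by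
    rw [show (8 : ℕ) = 2 ^ 3 by norm_num]
    exact (Nat.coprime_two_left.2 (odd_cls hc)).pow_left 3
  have h48 : ¬ (8 : ℕ) ∣ 4 := by norm_num
  have h1 : ∀ c : Fin 4, c ≠ 0 → ¬ (8 : ℕ) ∣ cls m c := fun c hc h =>
    absurd (Nat.eq_one_of_dvd_coprimes (hcop c hc) dvd_rfl h) (by norm_num)
  rcases eq_or_ne a 0 with rfl | ha
  · exact h48 ((hcop b hab.symm).dvd_of_dvd_mul_right (h8.trans hd))
  · rcases eq_or_ne b 0 with rfl | hb
    · exact h48 ((hcop a ha).dvd_of_dvd_mul_left (h8.trans hd))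
    · exact h1 b hb ((hcop a ha).dvd_of_dvd_mul_left (h8.trans hd))

theorem SpecLe.exists_cls [Finite G] (hG : SpecLe m G) {p : ℕ} (hp : p.Prime) (h : p ∣ Nat.card G) :
    ∃ i, p ∣ cls m i := by
  haveI := Fact.mk hp
  obtain ⟨g, hg⟩ := exists_prime_orderOf_dvd_card' p h
  obtain ⟨a, b, -, hd⟩ := hG g
  rw [hg] at hd
  rcases hp.dvd_mul.1 hd with h | h
  exacts [⟨a, h⟩, ⟨b, h⟩]

theorem SpecLe.not_three [Finite G] (hG : SpecLe m G) : ¬ 3 ∣ Nat.card G := fun h => by
  obtain ⟨i, hi⟩ := hG.exists_cls Nat.prime_three h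
  exact not_three_dvd m i hi

/-- An element whose order is divisible by a class and involves only primes of it has that order. -/
theorem SpecLe.orderOf_eq (hG : SpecLe m G) {i : Fin 4} {g : G} (h1 : cls m i ∣ orderOf g)
    (h2 : ∀ s : ℕ, s.Prime → s ∣ orderOf g → s ∣ cls m i) : orderOf g = cls m i := by
  refine Nat.dvd_antisymm ?_ h1
  obtain ⟨a, b, hab, hd⟩ := hG g
  have hcop : ∀ c, c ≠ i → (orderOf g).Coprime (cls m c) := fun c hc =>
    Nat.coprime_of_dvd fun s hs hsg hsc => hc (cls_unique hs hsc (h2 s hs hsg))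
  rcases eq_or_ne a i with rfl | ha
  · exact (hcop b hab.symm).dvd_of_dvd_mul_right hd
  · rcases eq_or_ne b i with rfl | hb
    · exact (hcop a ha).dvd_of_dvd_mul_left hd
    · exact ((hcop b hb).dvd_of_dvd_mul_right hd |> fun h => (hcop a ha).dvd_of_dvd_mul_left
        (h.trans (dvd_mul_right _ (cls m i))))

/-- An odd divisor of a product of two classes divides the product of the odd classes. -/
theorem dvd_prod_of_odd {a b : Fin 4} (hab : a ≠ b) {d : ℕ} (hd4 : d.Coprime (cls m 0))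
    (hd : d ∣ cls m a * cls m b) : d ∣ cls m 1 * (cls m 2 * cls m 3) := by
  have h : ∀ c : Fin 4, c ≠ 0 → cls m c ∣ cls m 1 * (cls m 2 * cls m 3) := by
    intro c hc
    fin_cases c
    · exact absurd rfl hc
    · exact dvd_mul_right _ _
    · exact (dvd_mul_right _ _).trans (dvd_mul_left _ _)
    · exact (dvd_mul_left _ _).trans (dvd_mul_left _ _)
  rcases eq_or_ne a 0 with rfl | ha
  · exact (hd4.dvd_of_dvd_mul_left hd).trans (h b hab.symm)
  · rcases eq_or_ne b 0 with rfl | hb
    · exact (hd4.dvd_of_dvd_mul_right hd).trans (h a ha)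
    · exact hd.trans ((coprime_cls m hab).mul_dvd_of_dvd_of_dvd (h a ha) (h b hb))

/-- The degree of a Suzuki section divides that of the model. -/
theorem SpecLe.degree_dvd [Finite G] (hG : SpecLe m G) {S : Subgroup G} {k : ℕ} (hS : IsSz k S) :
    2 * k + 1 ∣ 2 * m + 1 := by
  haveI : Fact (Nat.Prime 2) := ⟨Nat.prime_two⟩
  obtain ⟨Z, t, hd⟩ := hS.torus (Classical.arbitrary (Sylow 2 S))
  refine dvd_of_sub_one_dvd (dvd_trans ?_ (cls_prod_dvd m))
  obtain ⟨a, b, hab, hdv⟩ := hG (t : G)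
  rw [Subgroup.orderOf_coe, hd.h_order] at hdv
  have hodd : Odd (2 ^ (2 * k + 1) - 1) :=
    Nat.Even.sub_odd Nat.one_le_two_pow (Nat.even_pow.2 ⟨even_two, by omega⟩) odd_one
  have hcop : (2 ^ (2 * k + 1) - 1).Coprime (cls m 0) := by
    rw [cls_zero, show (4 : ℕ) = 2 ^ 2 by norm_num]
    exact (Nat.coprime_two_right.2 hodd).pow_right 2
  exact dvd_prod_of_odd hab hcop hdv

end CfsgLib.SzSquare
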