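import Cfsg.Agent.Lib.SzSquare.OneFactor

/-!
Solvable kernels over a product of two Suzuki groups: they are odd, belong to the class of the split
torus, and are trivial when one factor has full degree.
-/

set_option autoImplicit false
set_option linter.style.haveILetI false

namespace CfsgLib.SzSquare

open Subgroup
open scoped commutatorElement Pointwise

universe u v

variable {m : ℕ} {G : Type u} [Group G] [Finite G] {Q : Type v} [Group Q] [Finite Q]

omit [Finite G] in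
/-- Commuting with their commutator, elements of coprime orders commute. -/
theorem commute_of_central_commutator {a b : G} (hcop : (orderOf a).Coprime (orderOf b))
    (ha : Commute a ⁅a, b⁆) (hb : Commute b ⁅a, b⁆) : Commute a b := by
  set c := ⁅a, b⁆ with hc
  have h1 : ∀ k : ℕ, a ^ k * b * (a ^ k)⁻¹ = c ^ k * b := by
    intro k
    induction k with
    | zero => simp
    | succ k ih =>
      calc a ^ (k + 1) * b * (a ^ (k + 1))⁻¹ = a * (a ^ k * b * (a ^ k)⁻¹) * a⁻¹ := by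
            rw [pow_succ']; group
        _ = a * c ^ k * a⁻¹ * (a * b * a⁻¹ * b⁻¹) * b := by rw [ih]; group
        _ = c ^ (k + 1) * b := by
          rw [(ha.pow_right k).eq, mul_inv_cancel_right, ← commutatorElement_def, ← hc, pow_succ]
  have hA := h1 (orderOf a)
  rw [pow_orderOf_eq_one, one_mul, inv_one, mul_one] at hA
  have hcA : c ^ orderOf a = 1 := mul_eq_right.1 hA.symm
  have h2 : ∀ k : ℕ, b ^ k * a * (b ^ k)⁻¹ = (c⁻¹) ^ k * a := by
    intro k
    induction k with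
    | zero => simp
    | succ k ih =>
      calc b ^ (k + 1) * a * (b ^ (k + 1))⁻¹ = b * (b ^ k * a * (b ^ k)⁻¹) * b⁻¹ := by
            rw [pow_succ']; group
        _ = b * (c⁻¹) ^ k * b⁻¹ * (a * b * a⁻¹ * b⁻¹)⁻¹ * a := by rw [ih]; group
        _ = (c⁻¹) ^ (k + 1) * a := by
          rw [(hb.inv_right.pow_right k).eq, mul_inv_cancel_right, ← commutatorElement_def, ← hc, pow_succ]
  have hB := h2 (orderOf b)
  rw [pow_orderOf_eq_one, one_mul, inv_one, mul_one] at hB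
  have hcB : c ^ orderOf b = 1 := by
    have := mul_eq_right.1 hB.symm
    rwa [inv_pow, inv_eq_one] at this
  exact commutatorElement_eq_one_iff_commute.1 (orderOf_eq_one_iff.1 (Nat.eq_one_of_dvd_coprimes hcop
    (orderOf_dvd_of_pow_eq_one hcA) (orderOf_dvd_of_pow_eq_one hcB)))

/-- A preimage of prime-power order of an element of prime order. -/
theorem exists_primary_lift (π : G →* Q) {L : Subgroup G} {s : Q} (hs : s ∈ L.map π) {p : ℕ}
    (hp : p.Prime) (hso : orderOf s = p) :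
    ∃ g ∈ L, (∃ a, orderOf g = p ^ a) ∧ π g ∈ zpowers s ∧ orderOf (π g) = p := by
  obtain ⟨g, hg, rfl⟩ := hs
  obtain ⟨a, c, hc, hgo⟩ :=
    Nat.exists_eq_pow_mul_and_not_dvd (orderOf_pos g).ne' p hp.ne_one
  refine ⟨g ^ c, pow_mem hg c, ⟨a, ?_⟩, by rw [map_pow]; exact npow_mem_zpowers _ _, ?_⟩
  · rw [orderOf_pow' g (fun h => hc (by rw [h]; exact dvd_zero p)), hgo, Nat.gcd_eq_right (dvd_mul_left c _),
      Nat.mul_div_cancel _ (Nat.pos_of_ne_zero fun h => hc (by rw [h]; exact dvd_zero p))]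
  · rw [map_pow, Nat.Coprime.orderOf_pow (by rw [hso]; exact hp.coprime_iff_not_dvd.2 hc), hso]

/-- Two Suzuki components over a solvable kernel. -/
structure TwoData (m : ℕ) (π : G →* Q) (S₁ S₂ : Subgroup Q) : Prop where
  spec : SpecLe m G
  surj : Function.Surjective π
  solvable : Group.IsSolvable π.ker
  rad : Cfsg.solvableRadical Q = ⊥
  h₁ : Cfsg.IsComponent S₁
  h₂ : Cfsg.IsComponent S₂
  ne : S₁ ≠ S₂

namespace TwoData

variable {π : G →* Q} {S₁ S₂ : Subgroup Q}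

theorem swap (d : TwoData m π S₁ S₂) : TwoData m π S₂ S₁ :=
  ⟨d.spec, d.surj, d.solvable, d.rad, d.h₂, d.h₁, d.ne.symm⟩

theorem specQ (d : TwoData m π S₁ S₂) : SpecLe m Q := d.spec.of_surjective π d.surj

theorem odd_ker (d : TwoData m π S₁ S₂) : Odd (Nat.card π.ker) := by
  classical
  haveI hS₁ := component_simple d.rad d.h₁
  haveI hS₂ := component_simple d.rad d.h₂
  obtain ⟨k₁, hk₁, hd₁⟩ := component_isSz d.rad d.specQ d.h₁
  obtain ⟨k₂, hk₂, -⟩ := component_isSz d.rad d.specQ d.h₂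
  obtain ⟨O, hOn, hOR, hOodd, hOmax⟩ := exists_odd_core π.ker
  haveI := hOn
  obtain ⟨L₁, hp₁, hm₁, -⟩ := exists_perfect_preimage π d.surj (component_perfect d.h₁)
  obtain ⟨L₂, hp₂, hm₂, -⟩ := exists_perfect_preimage π d.surj (component_perfect d.h₂)
  have hO₁ := commutator_mem_core d.spec.not_eight π d.solvable hS₁ hk₁ hp₁ hm₁ hOR hOodd hOmax
  have hO₂ := commutator_mem_core d.spec.not_eight π d.solvable hS₂ hk₂ hp₂ hm₂ hOR hOodd hOmax
  by_contra hev
  rw [Nat.not_odd_iff_even, even_iff_two_dvd] at hev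
  haveI : Fact (Nat.Prime 2) := ⟨Nat.prime_two⟩
  obtain ⟨r₀, hr₀⟩ := exists_prime_orderOf_dvd_card' 2 hev
  have hr : orderOf (r₀ : G) = 2 := by rw [Subgroup.orderOf_coe, hr₀]
  set q := QuotientGroup.mk' O with hq
  have hz : orderOf (q (r₀ : G)) = 2 := by
    refine orderOf_eq_prime (by rw [← map_pow, ← hr, pow_orderOf_eq_one, map_one]) fun h => ?_
    have h1 := Subgroup.orderOf_dvd_natCard O ((QuotientGroup.eq_one_iff _).1 h)
    rw [hr] at h1
    exact Nat.not_even_iff_odd.2 hOodd (even_iff_two_dvd.2 h1)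
  obtain ⟨p, y, hp, hpd, hy, hyo⟩ := exists_split hk₁ hd₁
  obtain ⟨f, -, hf, -, hfo, -⟩ := exists_elements hk₂
  obtain ⟨a, ha, ⟨α, hα⟩, hay, hao⟩ := exists_primary_lift π (hm₁.symm ▸ hy) hp hyo
  obtain ⟨b, hb, ⟨β, hβ⟩, hbf, hbo⟩ := exists_primary_lift π (hm₂.symm ▸ hf) Nat.prime_five hfo
  obtain ⟨c, hc, hc5⟩ := five_cls m
  have hc1 : (1 : Fin 4) ≠ c := by rcases hc with rfl | rfl <;> decide
  have hab : ⁅a, b⁆ ∈ π.ker := by
    rw [MonoidHom.mem_ker, map_commutatorElement, commutatorElement_eq_one_iff_commute]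
    exact components_commute d.h₁ d.h₂ d.ne (zpowers_le.2 hy hay) (zpowers_le.2 hf hbf)
  have hcq : ∀ {l : G}, (∀ r ∈ π.ker, ⁅l, r⁆ ∈ O) → ∀ r ∈ π.ker, Commute (q l) (q r) := fun h r hr => by
    rw [← commutatorElement_eq_one_iff_commute, ← map_commutatorElement]
    exact (QuotientGroup.eq_one_iff _).2 (h r hr)
  have h1 := hcq (hO₁ a ha)
  have h2 := hcq (hO₂ b hb)
  have hp5 : p ≠ 5 := fun e => hc1 (cls_unique hp hpd (e ▸ hc5))
  have hcop : (orderOf (q a)).Coprime (orderOf (q b)) := by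
    refine Nat.Coprime.coprime_dvd_left (orderOf_map_dvd q a)
      (Nat.Coprime.coprime_dvd_right (orderOf_map_dvd q b) ?_)
    rw [hα, hβ]
    exact ((Nat.coprime_primes hp Nat.prime_five).2 hp5).pow α β
  have hqab : Commute (q a) (q b) := commute_of_central_commutator hcop
    (map_commutatorElement q a b ▸ h1 _ hab) (map_commutatorElement q a b ▸ h2 _ hab)
  have hdiv : ∀ g : G, orderOf (π g) ∣ orderOf (q g) := fun g => by
    have : π g = QuotientGroup.lift O π hOR (q g) := rfl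
    rw [this]
    exact orderOf_map_dvd _ _
  exact (d.spec.of_surjective q (QuotientGroup.mk'_surjective O)).false_of_commute Nat.prime_two hp
    Nat.prime_five (i := 0) (j := 1) (k := c) (by norm_num) hpd hc5 (by decide)
    (by rcases hc with rfl | rfl <;> decide) hc1 hz.symm.dvd (hao ▸ hdiv a) (hbo ▸ hdiv b)
    (h1 r₀ r₀.2).symm (h2 r₀ r₀.2).symm hqab

/-- An involution lifting one of the first component. -/
theorem exists_inv (d : TwoData m π S₁ S₂) :
    ∃ u : G, u * u = 1 ∧ orderOf u = 2 ∧ π u ∈ S₁ ∧ π u ≠ 1 := by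
  obtain ⟨k₁, hk₁, -⟩ := component_isSz d.rad d.specQ d.h₁
  obtain ⟨-, x, -, hx, -, hxo⟩ := exists_elements hk₁
  obtain ⟨g, hg⟩ := d.surj (x ^ 2)
  have hx4 : x ^ 4 = 1 := hxo ▸ pow_orderOf_eq_one x
  obtain ⟨e, he, heπ⟩ := exists_involution_power π d.odd_ker le_rfl (l := g) (by
    rw [MonoidHom.mem_ker, map_mul, hg, ← pow_add, hx4])
  have h1 : π (g ^ e) ≠ 1 := by
    rw [heπ, hg]
    exact pow_ne_one_of_lt_orderOf (by norm_num) (by rw [hxo]; norm_num)
  exact ⟨g ^ e, he, orderOf_eq_prime (by rw [pow_two]; exact he) fun h => h1 (by rw [h, map_one]),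
    by rw [heπ, hg]; exact pow_mem hx 2, h1⟩

/-- The centraliser of the involution over the second component. -/
def H (π : G →* Q) (S : Subgroup Q) (u : G) : Subgroup G := S.comap π ⊓ centralizer ({u} : Set G)

/-- The centraliser of the involution in the kernel. -/
def R (π : G →* Q) (u : G) : Subgroup G := π.ker ⊓ centralizer ({u} : Set G)

omit [Finite G] [Finite Q] in
theorem commute_of_mem_R {u v : G} (hv : v ∈ R π u) : Commute u v :=
  (mem_centralizer_singleton_iff.1 hv.2).symm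

omit [Finite G] [Finite Q] in
theorem commute_of_mem_H {S : Subgroup Q} {u v : G} (hv : v ∈ H π S u) : Commute u v :=
  (mem_centralizer_singleton_iff.1 hv.2).symm

omit [Finite G] [Finite Q] in
theorem H_le_normalizer (S : Subgroup Q) (u : G) : H π S u ≤ normalizer (R π u : Set G) := by
  intro h hh
  have hu := mem_centralizer_singleton_iff.1 hh.2
  refine mem_normalizer_iff.2 fun x => ?_
  have key : ∀ (h x : G), h * u = u * h → x ∈ R π u → h * x * h⁻¹ ∈ R π u := by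
    intro h x hu hx
    refine ⟨π.normal_ker.conj_mem x hx.1 h, mem_centralizer_singleton_iff.2 ?_⟩
    exact (((show Commute u h from hu.symm).mul_right (commute_of_mem_R hx)).mul_right
      (show Commute u h from hu.symm).inv_right).symm.eq
  refine ⟨key h x hu, fun hx => ?_⟩
  have := key h⁻¹ (h * x * h⁻¹) ((show Commute h u from hu).inv_left).eq hx
  simpa [mul_assoc] using this

theorem exists_lift (d : TwoData m π S₁ S₂) {u : G} (hu : u * u = 1) (hu1 : π u ∈ S₁) {s : Q}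
    (hs : s ∈ S₂) : ∃ h ∈ H π S₂ u, π h = s := by
  obtain ⟨g, rfl⟩ := d.surj s
  obtain ⟨g', hg', hc⟩ := exists_commute_lift π d.odd_ker hu
    (components_commute d.h₁ d.h₂ d.ne hu1 hs)
  exact ⟨g', ⟨show π g' ∈ S₂ from hg'.symm ▸ hs, mem_centralizer_singleton_iff.2 hc.eq.symm⟩, hg'⟩

theorem dvd_R (d : TwoData m π S₁ S₂) {u : G} (hu : u * u = 1) (hu1 : π u ∈ S₁) (hu2 : π u ≠ 1)
    {r : ℕ} (hr : r.Prime) (hrd : r ∣ Nat.card π.ker) : r ∣ Nat.card (R π u) := by
  rcases centralizer_dvd_or π.normal_ker d.solvable d.odd_ker hr hrd hu with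
    ⟨v, hv, hvd, hvc⟩ | ⟨C, hCn, hgu, huC⟩
  · exact hvd.trans (Subgroup.orderOf_dvd_natCard _ (mem_inf.2 ⟨hv, mem_centralizer_singleton_iff.2 hvc.eq.symm⟩))
  exfalso
  haveI := hCn
  haveI hD : (C.map π).Normal := hCn.map π d.surj
  haveI hS₁ := component_simple d.rad d.h₁
  obtain ⟨s, hs⟩ : ∃ s : S₁, ¬ Commute s ⟨π u, hu1⟩ := by
    by_contra hcon
    push Not at hcon
    have : (⟨π u, hu1⟩ : S₁) ∈ center S₁ := mem_center_iff.2 fun s => (hcon s).eq
    rw [component_center d.rad d.h₁, mem_bot] at this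
    exact hu2 (congrArg Subtype.val this)
  obtain ⟨g, hg⟩ := d.surj (s : Q)
  set c : S₁ := s * ⟨π u, hu1⟩ * s⁻¹ * (⟨π u, hu1⟩ : S₁)⁻¹ with hc
  have hcD : c ∈ (C.map π).subgroupOf S₁ := by
    refine mem_subgroupOf.2 ⟨_, hgu g, ?_⟩
    simp [hc, hg]
  have htop : (C.map π).subgroupOf S₁ = ⊤ :=
    (hS₁.eq_bot_or_eq_top_of_normal _ inferInstance).resolve_left fun h => hs (by
      rw [h, mem_bot, hc, mul_inv_eq_one, mul_inv_eq_iff_eq_mul] at hcD
      exact hcD)
  obtain ⟨w, hw, hwu⟩ : π u ∈ C.map π :=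
    mem_subgroupOf.1 (show (⟨π u, hu1⟩ : S₁) ∈ (C.map π).subgroupOf S₁ from htop ▸ mem_top _)
  set q := QuotientGroup.mk' C
  have hρ : w⁻¹ * u ∈ π.ker := by
    rw [MonoidHom.mem_ker, map_mul, map_inv, hwu, inv_mul_cancel]
  have h1 : q u = q (w⁻¹ * u) := by
    rw [map_mul, map_inv, show q w = 1 from (QuotientGroup.eq_one_iff w).2 hw, inv_one, one_mul]
  have h2 : orderOf (q u) ∣ 2 := orderOf_dvd_of_pow_eq_one (by rw [pow_two, ← map_mul, hu, map_one])
  have h3 : orderOf (q u) ∣ Nat.card π.ker :=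
    h1 ▸ (orderOf_map_dvd q _).trans (Subgroup.orderOf_dvd_natCard _ hρ)
  exact huC ((QuotientGroup.eq_one_iff u).1 (orderOf_eq_one_iff.1 (Nat.eq_one_of_dvd_coprimes
    (Nat.coprime_two_left.2 d.odd_ker) h2 h3)))

/-- Without a square, a prime of the fixed points is centralised by lifts of the second component. -/
theorem square (d : TwoData m π S₁ S₂) {u : G} (hu : u * u = 1) (huo : orderOf u = 2)
    (hu1 : π u ∈ S₁) {r : ℕ} (hr : r.Prime) (hrd : r ∣ Nat.card (R π u)) :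
    HasSquare r (R π u) := by
  by_contra hns
  haveI := Fact.mk hr
  obtain ⟨P⟩ := (inferInstance : Nonempty (Sylow r (R π u)))
  set P' : Subgroup G := (P : Subgroup (R π u)).map (R π u).subtype with hP'
  have hP'p : IsPGroup r P' := P.isPGroup'.map _
  have hP'ne : P' ≠ ⊥ := by
    rw [hP', Ne, map_eq_bot_iff_of_injective _ (R π u).subtype_injective]
    exact P.ne_bot_of_dvd_card hrd
  have hP'R : P' ≤ R π u := map_subtype_le _
  obtain ⟨z, hz, hzo, -, -, hzn⟩ := exists_normalised_prime hP'p hP'ne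
    (fun h => hns (h.mono hP'R))
  set N := H π S₂ u ⊓ normalizer (P' : Set G) with hN
  have hNmap : N.map π = S₂ := by
    refine le_antisymm (map_le_iff_le_comap.2 fun h hh => (inf_le_left (α := Subgroup G) hh).1) fun s hs => ?_
    obtain ⟨h, hh, rfl⟩ := d.exists_lift hu hu1 hs
    obtain ⟨c, hc, hcn⟩ := exists_mul_mem_normalizer P (H_le_normalizer S₂ u hh)
    refine ⟨c * h, ⟨(H π S₂ u).mul_mem ⟨show π c ∈ S₂ from (show π c = 1 from hc.1) ▸ one_mem _, hc.2⟩ hh,
      hcn⟩, ?_⟩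
    rw [map_mul, show π c = 1 from hc.1, one_mul]
  have hcz : ⁅N, N⁆ ≤ centralizer ({z} : Set G) := by
    refine commutator_le.2 fun a ha b hb => mem_centralizer_singleton_iff.2 ?_
    obtain ⟨i, hi⟩ := mem_zpowers_iff.1 (hzn a ha.2)
    obtain ⟨j, hj⟩ := mem_zpowers_iff.1 (hzn b hb.2)
    have e1 : a * b * z * (a * b)⁻¹ = z ^ (i * j) := by
      rw [show a * b * z * (a * b)⁻¹ = a * (b * z * b⁻¹) * a⁻¹ by group, ← hj, ← conj_zpow, ← hi,
        ← zpow_mul]
    have e2 : b * a * z * (b * a)⁻¹ = z ^ (i * j) := by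
      rw [show b * a * z * (b * a)⁻¹ = b * (a * z * a⁻¹) * b⁻¹ by group, ← hi, ← conj_zpow, ← hj,
        ← zpow_mul, mul_comm]
    have e3 : ⁅a, b⁆ * (b * a * z * (b * a)⁻¹) * ⁅a, b⁆⁻¹ = a * b * z * (a * b)⁻¹ := by
      rw [commutatorElement_def]; group
    have e4 : (b * a)⁻¹ * z ^ (i * j) * (b * a) = z := by rw [← e2]; group
    rw [e1, e2] at e3
    have e5 : Commute ⁅a, b⁆ (z ^ (i * j)) := mul_inv_eq_iff_eq_mul.1 e3
    -- `z` is a power of `z ^ (i * j)`
    have hgen : z ∈ zpowers (z ^ (i * j)) := by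
      have ho : orderOf (z ^ (i * j)) = r := by rw [← e2, ← MulAut.conj_apply, MulEquiv.orderOf_eq, hzo]
      have : zpowers (z ^ (i * j)) = zpowers z :=
        eq_of_le_of_card_ge (zpowers_le.2 (zpow_mem (mem_zpowers z) _))
          (by rw [Nat.card_zpowers, Nat.card_zpowers, ho, hzo])
      rw [this]; exact mem_zpowers z
    obtain ⟨l, hl⟩ := mem_zpowers_iff.1 hgen
    rw [← hl]
    exact (e5.zpow_right l).eq
  have hlift : ∀ s ∈ S₂, ∃ e, π e = s ∧ Commute u e ∧ Commute e z := by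
    intro s hs
    rw [← component_perfect d.h₂, ← hNmap, ← map_commutator] at hs
    obtain ⟨e, he, rfl⟩ := hs
    exact ⟨e, rfl, commute_of_mem_H (commutator_le_self N he).1,
      (mem_centralizer_singleton_iff.1 (hcz he))⟩
  obtain ⟨i, hi⟩ := d.spec.exists_cls hr (hrd.trans (card_subgroup_dvd_card _))
  have hi0 : i ≠ 0 := by
    rintro rfl
    have hr2 : r = 2 := (Nat.prime_dvd_prime_iff_eq hr Nat.prime_two).1
      (hr.dvd_of_dvd_pow (show r ∣ 2 ^ 2 from hi))
    exact Nat.not_even_iff_odd.2 d.odd_ker (even_iff_two_dvd.2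
      (hr2 ▸ hrd.trans (card_dvd_of_le inf_le_left)))
  obtain ⟨k₂, hk₂, hd₂⟩ := component_isSz d.rad d.specQ d.h₂
  obtain ⟨s, j, p, hp, hpj, hs, hso, hij, hj0⟩ :
      ∃ (s : Q) (j : Fin 4) (p : ℕ), p.Prime ∧ p ∣ cls m j ∧ s ∈ S₂ ∧ orderOf s = p ∧ i ≠ j ∧ j ≠ 0 := by
    by_cases h1 : i = 1
    · subst h1
      obtain ⟨f, -, hf, -, hfo, -⟩ := exists_elements hk₂
      obtain ⟨c, hc, hc5⟩ := five_cls m
      refine ⟨f, c, 5, Nat.prime_five, hc5, hf, hfo, ?_, ?_⟩ <;> rcases hc with rfl | rfl <;> decide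
    · obtain ⟨p, y, hp, hpd, hy, hyo⟩ := exists_split hk₂ hd₂
      exact ⟨y, 1, p, hp, hpd, hy, hyo, h1, by decide⟩
  obtain ⟨e, he, heu, hez⟩ := hlift s hs
  exact d.spec.false_of_commute Nat.prime_two hr hp (i := 0) (j := i) (k := j) (by norm_num) hi hpj
    hi0.symm hj0.symm hij huo.symm.dvd hzo.symm.dvd (hso ▸ he ▸ orderOf_map_dvd π e)
    (commute_of_mem_R (hP'R hz)) heu hez.symm

/-- The kernel belongs to one class. -/
theorem exists_class (d : TwoData m π S₁ S₂) {u : G} (hu : u * u = 1) (huo : orderOf u = 2)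
    (hu1 : π u ∈ S₁) (hu2 : π u ≠ 1) (hne : π.ker ≠ ⊥) :
    ∃ (i : Fin 4) (r : ℕ) (V : Subgroup G), i ≠ 0 ∧ r.Prime ∧ r ∣ cls m i ∧ V ≤ R π u ∧ V ≠ ⊥ ∧
      IsPGroup r V ∧ (∀ a ∈ V, ∀ b ∈ V, a * b = b * a) ∧ H π S₂ u ≤ normalizer (V : Set G) ∧
      ∀ s : ℕ, s.Prime → s ∣ Nat.card π.ker → s ∣ cls m i := by
  obtain ⟨r₀, hr₀, hr₀d⟩ := Nat.exists_prime_and_dvd (n := Nat.card π.ker)
    (fun h => hne (Subgroup.card_eq_one.1 h))
  have hRne : R π u ≠ ⊥ := fun h => by
    have := d.dvd_R hu hu1 hu2 hr₀ hr₀d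
    rw [h, Subgroup.card_bot] at this
    exact hr₀.ne_one (Nat.dvd_one.1 this)
  obtain ⟨r, hr, hrd, Qc, hQp, hQR, hQne, hQn⟩ :=
    exists_core (Structure.isSolvable_of_le inf_le_left d.solvable) hRne
  haveI := Fact.mk hr
  obtain ⟨i, hi⟩ := d.spec.exists_cls hr (hrd.trans (card_subgroup_dvd_card _))
  have hodd : ∀ {s : ℕ} {l : Fin 4}, s.Prime → s ∣ Nat.card π.ker → s ∣ cls m l → l ≠ 0 := by
    rintro s l hs hsd hsl rfl
    have h2 : s = 2 := (Nat.prime_dvd_prime_iff_eq hs Nat.prime_two).1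
      (hs.dvd_of_dvd_pow (show s ∣ 2 ^ 2 from hsl))
    exact Nat.not_even_iff_odd.2 d.odd_ker (even_iff_two_dvd.2 (h2 ▸ hsd))
  have hi0 := hodd hr (hrd.trans (card_dvd_of_le inf_le_left)) hi
  set V := (center Qc).map Qc.subtype with hV
  have hVQ : V ≤ Qc := map_subtype_le _
  refine ⟨i, r, V, hi0, hr, hi, hVQ.trans hQR, ?_, hQp.to_le hVQ, ?_, ?_, fun s hs hsd => ?_⟩
  · haveI : Nontrivial Qc := Qc.nontrivial_iff_ne_bot.2 hQne
    haveI := hQp.center_nontrivial
    rw [hV, Ne, map_eq_bot_iff_of_injective _ Qc.subtype_injective]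
    exact (center Qc).nontrivial_iff_ne_bot.1 inferInstance
  · rintro _ ⟨a, ha, rfl⟩ _ ⟨b, hb, rfl⟩
    exact congrArg Subtype.val (mem_center_iff.1 hb a)
  · exact fun h hh => InvChar.mem_normalizer_map_of_characteristic _ (hQn (H_le_normalizer S₂ u hh))
  · by_contra hsi
    haveI := Fact.mk hs
    obtain ⟨l, hl⟩ := d.spec.exists_cls hs (hsd.trans (card_subgroup_dvd_card _))
    have hli : l ≠ i := fun e => hsi (e ▸ hl)
    obtain ⟨x, hx, y, hy, hxo, hyo, hxy, hn⟩ := d.square hu huo hu1 hs (d.dvd_R hu hu1 hu2 hs hsd)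
    have hsQ : ¬ s ∣ Nat.card Qc := by
      obtain ⟨a, ha⟩ := hQp.exists_card_eq
      rw [ha]
      exact fun h => hli (cls_unique hs hl ((Nat.prime_dvd_prime_iff_eq hs hr).1 (hs.dvd_of_dvd_pow h) ▸ hi))
    obtain ⟨e, he, heo, k, hk, hk1, hek⟩ := exists_square_fixed hxo hyo hxy hn Qc hQne
      (hQn (le_normalizer hx)) (hQn (le_normalizer hy)) hsQ
    have heR : e ∈ R π u := (closure_le _).2 (by rintro w (rfl | rfl); exacts [hx, hy]) he
    exact d.spec.false_of_commute Nat.prime_two hs hr (i := 0) (j := l) (k := i) (by norm_num) hl hi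
      (hodd hs hsd hl).symm hi0.symm hli huo.symm.dvd heo.symm.dvd (dvd_orderOf_of_mem hQp hk hk1)
      (commute_of_mem_R heR) (commute_of_mem_R (hQR hk)) hek

/-- An element mapping to one of order `q - 1` has that order when the kernel is in the same class. -/
theorem orderOf_eq_of_map (d : TwoData m π S₁ S₂) {g : G}
    (hker : ∀ s : ℕ, s.Prime → s ∣ Nat.card π.ker → s ∣ cls m 1) (h : orderOf (π g) = cls m 1) :
    orderOf g = cls m 1 := by
  refine d.spec.orderOf_eq (h ▸ orderOf_map_dvd π g) fun s hs hsg => ?_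
  have h1 : orderOf g ∣ cls m 1 * Nat.card π.ker := by
    refine orderOf_dvd_of_pow_eq_one ?_
    rw [pow_mul, ← orderOf_dvd_iff_pow_eq_one]
    refine Subgroup.orderOf_dvd_natCard _ ?_
    rw [MonoidHom.mem_ker, map_pow, ← h, pow_orderOf_eq_one]
  rcases hs.dvd_mul.1 (hsg.trans h1) with h2 | h2
  exacts [h2, hker s hs h2]

theorem ker_class_and_trivial (d : TwoData m π S₁ S₂) :
    (∀ r : ℕ, r.Prime → r ∣ Nat.card π.ker → r ∣ cls m 1) ∧
      (∀ k, IsSz k S₂ → k = m → π.ker = ⊥) := by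
  classical
  rcases eq_or_ne π.ker ⊥ with hbot | hne
  · exact ⟨fun r hr h => absurd (hbot ▸ h) (by rw [Subgroup.card_bot, Nat.dvd_one]; exact hr.ne_one),
      fun _ _ _ => hbot⟩
  haveI : Fact (Nat.Prime 2) := ⟨Nat.prime_two⟩
  obtain ⟨u, hu, huo, hu1, hu2⟩ := d.exists_inv
  obtain ⟨i, r, V, hi0, hr, hri, hVR, hVne, hVp, hVc, hVn, hall⟩ := d.exists_class hu huo hu1 hu2 hne
  haveI := Fact.mk hr
  haveI : IsMulCommutative V := ⟨⟨fun a b => Subtype.ext (hVc a a.2 b b.2)⟩⟩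
  haveI hS₂ := component_simple d.rad d.h₂
  obtain ⟨k₂, hk₂, hd₂⟩ := component_isSz d.rad d.specQ d.h₂
  obtain ⟨T⟩ := (inferInstance : Nonempty (Sylow 2 S₂))
  obtain ⟨Z, t, hd⟩ := hk₂.torus T
  -- a Sylow `2`-subgroup over `T`
  set T' : Subgroup Q := (T : Subgroup S₂).map S₂.subtype with hT'
  have hT'S : T' ≤ S₂ := map_subtype_le _
  set Y := H π S₂ u ⊓ T'.comap π with hY
  have hYmap : ∀ s ∈ T', ∃ y ∈ Y, π y = s := by
    intro s hs
    obtain ⟨h, hh, rfl⟩ := d.exists_lift hu hu1 (hT'S hs)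
    exact ⟨h, ⟨hh, hs⟩, rfl⟩
  let ρ : Y →* T' := (π.comp Y.subtype).codRestrict T' fun y => y.2.2
  have hρ : Function.Surjective ρ := fun s => by
    obtain ⟨y, hy, hys⟩ := hYmap s s.2
    exact ⟨⟨y, hy⟩, Subtype.ext hys⟩
  obtain ⟨Pt⟩ := (inferInstance : Nonempty (Sylow 2 Y))
  set P : Subgroup G := (Pt : Subgroup Y).map Y.subtype with hP
  have hPp : IsPGroup 2 P := Pt.isPGroup'.map _
  have hPY : P ≤ Y := map_subtype_le _
  have hPinj : ∀ x ∈ P, π x = 1 → x = 1 := by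
    intro x hx hx1
    by_contra hne1
    exact Nat.not_even_iff_odd.2 d.odd_ker (even_iff_two_dvd.2
      ((dvd_orderOf_of_mem hPp hx hne1).trans (Subgroup.orderOf_dvd_natCard _ hx1)))
  have hPonto : ∀ s ∈ T', ∃ x ∈ P, π x = s := by
    intro s hs
    have hTp : IsPGroup 2 T' := T.isPGroup'.map _
    have htop : ((Pt.mapSurjective (f := ρ) hρ : Sylow 2 T') : Subgroup T') = ⊤ :=
      ((Pt.mapSurjective (f := ρ) hρ).3 (Q := ⊤) (hTp.of_equiv topEquiv.symm) le_top).symm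
    obtain ⟨y, hy, hys⟩ : (⟨s, hs⟩ : T') ∈ ((Pt.mapSurjective (f := ρ) hρ : Sylow 2 T') : Subgroup T') :=
      htop ▸ mem_top _
    exact ⟨y, ⟨y, hy, rfl⟩, congrArg Subtype.val hys⟩
  have hPV : P ≤ normalizer (V : Set G) := (hPY.trans inf_le_left).trans hVn
  have hcop : (Nat.card P).Coprime (Nat.card V) := by
    obtain ⟨a, ha⟩ := hPp.exists_card_eq
    obtain ⟨b, hb⟩ := hVp.exists_card_eq
    rw [ha, hb]
    refine Nat.Coprime.pow a b ((Nat.coprime_primes Nat.prime_two hr).2 fun h => hi0 ?_)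
    exact eq_zero_of_two_dvd (h ▸ hri)
  -- lifts of elements of the torus normalising `P`
  have htnorm : ∀ j : ℕ, ∃ y ∈ H π S₂ u, y ∈ normalizer (P : Set G) ∧ π y = ((t ^ j : S₂) : Q) := by
    intro j
    obtain ⟨h, hh, hht⟩ := d.exists_lift hu hu1 (t ^ j : S₂).2
    have hnT : ∀ x, x ∈ T' ↔ ((t ^ j : S₂) : Q) * x * ((t ^ j : S₂) : Q)⁻¹ ∈ T' := by
      intro x
      constructor
      · rintro ⟨a, ha, rfl⟩
        exact ⟨_, (mem_normalizer_iff.1 (pow_mem hd.h_mem j) a).1 ha, rfl⟩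
      · rintro ⟨a, ha, hax⟩
        refine ⟨(t ^ j)⁻¹ * a * t ^ j, ?_, ?_⟩
        · refine (mem_normalizer_iff.1 (pow_mem hd.h_mem j) _).2 ?_
          rw [show t ^ j * ((t ^ j)⁻¹ * a * t ^ j) * (t ^ j)⁻¹ = a by group]
          exact ha
        · rw [map_mul, map_mul, map_inv, hax]
          simp [mul_assoc]
    have hY' : h ∈ normalizer (Y : Set G) := by
      refine mem_normalizer_iff.2 fun x => ?_
      have hh' : ∀ x, x ∈ H π S₂ u ↔ h * x * h⁻¹ ∈ H π S₂ u :=
        fun x => mem_normalizer_iff.1 (le_normalizer hh) x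
      constructor
      · intro hx
        refine ⟨(hh' x).1 hx.1, ?_⟩
        show π (h * x * h⁻¹) ∈ T'
        rw [map_mul, map_mul, map_inv, hht]
        exact (hnT _).1 hx.2
      · intro hx
        refine ⟨(hh' x).2 hx.1, ?_⟩
        have h1 : π (h * x * h⁻¹) ∈ T' := hx.2
        rw [map_mul, map_mul, map_inv, hht] at h1
        exact (hnT _).2 h1
    -- `Y` may move `h` only inside the preimage of `T'`
    obtain ⟨c, hc, hcn⟩ := exists_mul_mem_normalizer Pt hY'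
    obtain ⟨x, hx, hxc⟩ := hPonto (π c) hc.2
    refine ⟨x⁻¹ * (c * h), (H π S₂ u).mul_mem (inv_mem (hPY hx).1) ((H π S₂ u).mul_mem hc.1 hh),
      mul_mem (inv_mem (le_normalizer hx)) hcn, ?_⟩
    rw [map_mul, map_inv, hxc, map_mul, inv_mul_cancel_left, hht]
  have hfpf : ∀ (y : G) (j : ℕ), π y = ((t ^ j : S₂) : Q) → ∀ l : ℕ, t ^ (j * l) ≠ 1 →
      ∀ x ∈ P, y ^ l * x = x * y ^ l → x = 1 := by
    intro y j hy l hl x hx hxy
    refine hPinj x hx ?_
    obtain ⟨a, ha, hax⟩ : π x ∈ T' := (hPY hx).2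
    have h1 := congrArg π hxy
    rw [map_mul, map_mul, map_pow, hy] at h1
    have h2 : (t ^ (j * l) : S₂) * a = a * t ^ (j * l) := Subtype.ext (by
      rw [← hax] at h1
      simpa [pow_mul] using h1)
    rw [← hax, hd.h_fpf (j * l) hl a ha h2, map_one]
  -- the trivial action
  have htriv : P ≤ centralizer (V : Set G) → ∀ s ∈ S₂,
      ∃ e, π e = s ∧ Commute u e ∧ ∀ v ∈ V, Commute e v := by
    intro hPc s hs
    set C := H π S₂ u ⊓ centralizer (V : Set G) with hC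
    let C₂ : Subgroup S₂ := (C.map π).subgroupOf S₂
    have hCn : C₂.Normal := by
      refine ⟨fun a ha b => ?_⟩
      obtain ⟨c, hc, hca⟩ := mem_subgroupOf.1 ha
      obtain ⟨h, hh, hhb⟩ := d.exists_lift hu hu1 b.2
      refine mem_subgroupOf.2 ⟨h * c * h⁻¹, ⟨(H π S₂ u).mul_mem ((H π S₂ u).mul_mem hh hc.1) (inv_mem hh),
        mem_centralizer_iff.2 fun v hv => ?_⟩, by rw [map_mul, map_mul, map_inv, hca, hhb]; rfl⟩
      have hv' : h⁻¹ * v * h ∈ V := (mem_normalizer_iff''.1 (hVn hh) v).1 hv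
      have h1 := mem_centralizer_iff.1 hc.2 _ hv'
      calc v * (h * c * h⁻¹) = h * (h⁻¹ * v * h * c) * h⁻¹ := by group
        _ = h * (c * (h⁻¹ * v * h)) * h⁻¹ := by rw [h1]
        _ = h * c * h⁻¹ * v := by group
    have htop : C₂ = ⊤ := by
      refine (hS₂.eq_bot_or_eq_top_of_normal _ hCn).resolve_left fun h => ?_
      obtain ⟨z, hzT, hz1⟩ : ∃ z : S₂, z ∈ (T : Subgroup S₂) ∧ z ≠ 1 := by
        haveI : Nontrivial (T : Subgroup S₂) := Finite.one_lt_card_iff_nontrivial.1 (by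
          rw [hd.card_T]
          exact Nat.one_lt_pow two_ne_zero (Nat.one_lt_two_pow (by have := hd.three_le; omega)))
        obtain ⟨⟨z, hz⟩, hz1⟩ := exists_ne (1 : (T : Subgroup S₂))
        exact ⟨z, hz, fun e => hz1 (Subtype.ext e)⟩
      obtain ⟨x, hx, hxz⟩ := hPonto (z : Q) ⟨z, hzT, rfl⟩
      have : z ∈ C₂ := mem_subgroupOf.2 ⟨x, ⟨(hPY hx).1, hPc hx⟩, hxz⟩
      rw [h, mem_bot] at this
      exact hz1 this
    obtain ⟨e, he, hes⟩ := mem_subgroupOf.1 (show (⟨s, hs⟩ : S₂) ∈ C₂ from htop ▸ mem_top _)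
    exact ⟨e, hes, commute_of_mem_H he.1, fun v hv => (mem_centralizer_iff.1 he.2 v hv).symm⟩
  obtain ⟨v₀, hv₀, hv₀1⟩ := V.bot_or_exists_ne_one.resolve_left hVne
  set V₁ := ⁅V, P⁆ with hV₁
  have hV₁V : V₁ ≤ V := Coprime.commutator_le_of_normalizes hPV
  have hbr : P ≤ centralizer (V : Set G) ∨ V₁ ≠ ⊥ := by
    rw [or_iff_not_imp_right, not_not]
    intro h
    exact commutator_eq_bot_iff_le_centralizer.1 (commutator_comm V P ▸ h)
  have hV₁n : ∀ {y : G}, y ∈ H π S₂ u → y ∈ normalizer (P : Set G) → y ∈ normalizer (V₁ : Set G) := by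
    intro y hy hyP
    rw [mem_normalizer_iff_map_conj_eq, hV₁, map_commutator,
      mem_normalizer_iff_map_conj_eq.1 (hVn hy), mem_normalizer_iff_map_conj_eq.1 hyP]
  have hi1 : i = 1 := by
    by_contra hi1
    obtain ⟨p, hp, hpd⟩ : ∃ p : ℕ, p.Prime ∧ p ∣ 2 ^ (2 * k₂ + 1) - 1 := by
      have h4 : 2 ^ 2 ≤ 2 ^ (2 * k₂ + 1) := Nat.pow_le_pow_right two_pos (by have := hk₂.1; omega)
      exact Nat.exists_prime_and_dvd (by omega)
    haveI := Fact.mk hp
    have hp1 : p ∣ cls m 1 := hpd.trans (Nat.pow_sub_one_dvd_pow_sub_one 2 hd₂)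
    have hpR : p.Coprime (Nat.card π.ker) :=
      hp.coprime_iff_not_dvd.2 fun h => hi1 (cls_unique hp (hall p hp h) hp1)
    set j := orderOf t / p with hj
    have htj : orderOf (t ^ j) = p :=
      orderOf_pow_orderOf_div (orderOf_pos t).ne' (hd.h_order ▸ hpd)
    obtain ⟨y₀, hy₀, hy₀P, hy₀t⟩ := htnorm j
    have htjQ : orderOf ((t ^ j : S₂) : Q) = p := by rw [Subgroup.orderOf_coe, htj]
    set M := Nat.card π.ker with hM
    have hyp : (y₀ ^ M) ^ p = 1 := by
      rw [← pow_mul, mul_comm, pow_mul, ← orderOf_dvd_iff_pow_eq_one]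
      refine Subgroup.orderOf_dvd_natCard _ ?_
      rw [MonoidHom.mem_ker, map_pow, hy₀t, ← htjQ, pow_orderOf_eq_one]
    have hyπ : π (y₀ ^ M) = ((t ^ (j * M) : S₂) : Q) := by
      rw [map_pow, hy₀t, pow_mul]; rfl
    have htjM : orderOf (t ^ (j * M)) = p := by
      rw [pow_mul, Nat.Coprime.orderOf_pow (by rw [htj]; exact hpR), htj]
    have hyo : p ∣ orderOf (y₀ ^ M) := by
      refine dvd_trans ?_ (orderOf_map_dvd π _)
      rw [hyπ, Subgroup.orderOf_coe, htjM]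
    rcases hbr with hPc | hV₁ne
    · obtain ⟨e, he, heu, hev⟩ := htriv hPc _ (t ^ j : S₂).2
      exact d.spec.false_of_commute Nat.prime_two hr hp (i := 0) (j := i) (k := 1) (by norm_num) hri hp1
        hi0.symm (by decide) hi1 huo.symm.dvd (dvd_orderOf_of_mem hVp hv₀ hv₀1)
        (htjQ ▸ he ▸ orderOf_map_dvd π e) (commute_of_mem_R (hVR hv₀)) heu (hev v₀ hv₀).symm
    · obtain ⟨v, hv, hv1, hc⟩ := exists_fixed P V₁ (y₀ ^ M) p hp.pos
        (fun a ha b hb => hVc a (hV₁V ha) b (hV₁V hb)) (Coprime.le_normalizer_commutator_right V P)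
        (hV₁n (pow_mem hy₀ M) (pow_mem hy₀P M)) (pow_mem hy₀P M) (by rw [hyp]; exact one_mem _)
        (fun l hl hlp => hfpf _ (j * M) hyπ l fun e => by
          have := orderOf_dvd_of_pow_eq_one (show (t ^ (j * M)) ^ l = 1 by rw [← pow_mul, e])
          rw [htjM] at this
          exact absurd (Nat.le_of_dvd hl this) (by omega))
        (Coprime.commutator_inf_centralizer_eq_bot P V hPV hcop) hV₁ne
        (hcop.coprime_dvd_right (card_dvd_of_le hV₁V))
      exact d.spec.false_of_commute Nat.prime_two hr hp (i := 0) (j := i) (k := 1) (by norm_num) hri hp1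
        hi0.symm (by decide) hi1 huo.symm.dvd (dvd_orderOf_of_mem hVp (hV₁V hv) hv1) hyo
        (commute_of_mem_R (hVR (hV₁V hv))) (commute_of_mem_H (pow_mem hy₀ M)) hc.symm
  subst hi1
  refine ⟨hall, fun k hk hkm => absurd ?_ id⟩
  have hkk : k₂ = m := by
    have h1 := hk.card
    rw [hk₂.card] at h1
    refine (CITThree.SzGraph.param_eq fun s _ => ?_).trans hkm
    rw [h1]
  subst hkk
  rcases hbr with hPc | hV₁ne
  · obtain ⟨f, -, hf, -, hfo, -⟩ := exists_elements hk₂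
    obtain ⟨e, he, heu, hev⟩ := htriv hPc f hf
    obtain ⟨c, hc, hc5⟩ := five_cls k₂
    exact d.spec.false_of_commute Nat.prime_two hr Nat.prime_five (i := 0) (j := 1) (k := c)
      (by norm_num) hri hc5 (by decide) (by rcases hc with rfl | rfl <;> decide)
      (by rcases hc with rfl | rfl <;> decide) huo.symm.dvd (dvd_orderOf_of_mem hVp hv₀ hv₀1)
      (hfo ▸ he ▸ orderOf_map_dvd π e) (commute_of_mem_R (hVR hv₀)) heu (hev v₀ hv₀).symm
  · obtain ⟨y, hy, hyP, hyt⟩ := htnorm 1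
    have htD : ∀ g : G, π g = ((t ^ 1 : S₂) : Q) → g ^ cls k₂ 1 = 1 := by
      intro g hg
      rw [← d.orderOf_eq_of_map hall (g := g) (by rw [hg, pow_one, Subgroup.orderOf_coe, hd.h_order]; rfl),
        pow_orderOf_eq_one]
    obtain ⟨v, hv, hvne⟩ := exists_norm_ne_one P V₁ y (cls k₂ 1) (odd_cls (by decide)).pos
      (fun a ha b hb => hVc a (hV₁V ha) b (hV₁V hb)) (Coprime.le_normalizer_commutator_right V P)
      (hV₁n hy hyP) hyP
      (fun l hl hlD => hfpf y 1 hyt l fun e => by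
        rw [one_mul] at e
        have := orderOf_dvd_of_pow_eq_one e
        rw [hd.h_order] at this
        exact absurd (Nat.le_of_dvd hl this) (not_le.2 hlD))
      (Coprime.commutator_inf_centralizer_eq_bot P V hPV hcop) hV₁ne
      (hcop.coprime_dvd_right (card_dvd_of_le hV₁V))
    refine hvne ?_
    rw [htD y hyt, htD (v * y) ?_]
    rw [map_mul, show π v = 1 from (hVR (hV₁V hv)).1, one_mul, hyt]

end TwoData

end CfsgLib.SzSquare
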